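import Cfsg.Agent.Lib.SymBlocks.Separation
import Cfsg.Agent.Lib.SecondMain.Columns

/-!
# The defect group of a block of weight `w` contains `(ℤ/p)^w`

`exists_weight_subgroup`: from a character of the block whose tuple has weight `w`, an elementary
abelian subgroup of order `p ^ w` of some defect group.
-/

set_option autoImplicit false

open Finset

namespace Cfsg.Agent.SymBlocks

open Cfsg

variable {N n p : ℕ}

section Cycles

variable {w m : ℕ} [NeZero p]

/-- The product of shifts along `w` disjoint `p`-cycles. -/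
noncomputable def cyclesHom (e : (Fin w × ZMod p) ⊕ Fin m ≃ Fin n) :
    Multiplicative (Fin w → ZMod p) →* Equiv.Perm (Fin n) where
  toFun f := e.permCongr
    (Equiv.sumCongr (Equiv.prodCongrRight fun i => Equiv.addRight (Multiplicative.toAdd f i))
      (Equiv.refl _))
  map_one' := by
    ext a
    obtain ⟨b, rfl⟩ := e.surjective a
    rcases b with ⟨i, x⟩ | b <;> simp [Equiv.permCongr_apply]
  map_mul' f g := by
    ext a
    obtain ⟨b, rfl⟩ := e.surjective a
    rcases b with ⟨i, x⟩ | b <;> simp [Equiv.permCongr_apply, add_comm, add_left_comm]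

omit [NeZero p] in
theorem cyclesHom_inl (e : (Fin w × ZMod p) ⊕ Fin m ≃ Fin n)
    (f : Multiplicative (Fin w → ZMod p)) (i : Fin w) (x : ZMod p) :
    cyclesHom e f (e (Sum.inl (i, x))) = e (Sum.inl (i, x + Multiplicative.toAdd f i)) := by
  simp [cyclesHom, Equiv.permCongr_apply]

omit [NeZero p] in
theorem cyclesHom_inr (e : (Fin w × ZMod p) ⊕ Fin m ≃ Fin n)
    (f : Multiplicative (Fin w → ZMod p)) (b : Fin m) :
    cyclesHom e f (e (Sum.inr b)) = e (Sum.inr b) := by
  simp [cyclesHom, Equiv.permCongr_apply]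

omit [NeZero p] in
theorem cyclesHom_injective (e : (Fin w × ZMod p) ⊕ Fin m ≃ Fin n) :
    Function.Injective (cyclesHom e) := by
  intro f g h
  refine Multiplicative.toAdd.injective (funext fun i => ?_)
  have h1 := cyclesHom_inl e f i 0
  rw [h, cyclesHom_inl, e.apply_eq_iff_eq] at h1
  simpa using h1.symm

/-- The long element: all `w` cycles shifted by one. -/
noncomputable def cyclesElt (e : (Fin w × ZMod p) ⊕ Fin m ≃ Fin n) : Equiv.Perm (Fin n) :=
  cyclesHom e (Multiplicative.ofAdd fun _ => 1)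

omit [NeZero p] in
theorem cyclesElt_pow_inl (e : (Fin w × ZMod p) ⊕ Fin m ≃ Fin n) (k : ℕ) (i : Fin w) (x : ZMod p) :
    (cyclesElt e ^ k) (e (Sum.inl (i, x))) = e (Sum.inl (i, x + k)) := by
  rw [cyclesElt, ← map_pow, cyclesHom_inl]
  simp

omit [NeZero p] in
theorem cyclesElt_pow_inr (e : (Fin w × ZMod p) ⊕ Fin m ≃ Fin n) (k : ℕ) (b : Fin m) :
    (cyclesElt e ^ k) (e (Sum.inr b)) = e (Sum.inr b) := by
  rw [cyclesElt, ← map_pow, cyclesHom_inr]

/-- The group of shifts is intrinsic in the centraliser of the long element. -/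
theorem mem_range_cyclesHom (e : (Fin w × ZMod p) ⊕ Fin m ≃ Fin n) (g : Equiv.Perm (Fin n)) :
    g ∈ (cyclesHom e).range ↔
      Commute g (cyclesElt e) ∧ ∀ z, ∃ k : ℕ, g z = (cyclesElt e ^ k) z := by
  constructor
  · rintro ⟨f, rfl⟩
    refine ⟨(Commute.all f _).map (cyclesHom e), fun z => ?_⟩
    obtain ⟨b, rfl⟩ := e.surjective z
    rcases b with ⟨i, x⟩ | b
    · refine ⟨(Multiplicative.toAdd f i).val, ?_⟩
      rw [cyclesHom_inl, cyclesElt_pow_inl, ZMod.natCast_rightInverse]
    · exact ⟨0, by rw [cyclesHom_inr, pow_zero]; rfl⟩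
  · rintro ⟨hcomm, hz⟩
    choose k hk using hz
    refine ⟨Multiplicative.ofAdd fun i => (k (e (Sum.inl (i, 0))) : ZMod p), ?_⟩
    refine Equiv.ext fun z => ?_
    obtain ⟨b, rfl⟩ := e.surjective z
    rcases b with ⟨i, x⟩ | b
    · have h1 := cyclesElt_pow_inl e x.val i 0
      rw [zero_add, ZMod.natCast_rightInverse] at h1
      rw [cyclesHom_inl, toAdd_ofAdd]
      conv_rhs => rw [← h1, ← Equiv.Perm.mul_apply, (hcomm.pow_right _).eq, Equiv.Perm.mul_apply,
        hk, cyclesElt_pow_inl, cyclesElt_pow_inl, zero_add, ZMod.natCast_rightInverse]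
      rw [add_comm]
    · rw [cyclesHom_inr, hk, cyclesElt_pow_inr]

theorem card_support_cyclesElt (e : (Fin w × ZMod p) ⊕ Fin m ≃ Fin n) (hp : 1 < p) :
    (cyclesElt e).support.card = p * w := by
  classical
  have : Nontrivial (ZMod p) := ZMod.nontrivial_iff.mpr (by omega)
  have h1 : (cyclesElt e).support
      = (Finset.univ : Finset (Fin w × ZMod p)).map
          ⟨fun a => e (Sum.inl a), e.injective.comp Sum.inl_injective⟩ := by
    ext z
    rw [Equiv.Perm.mem_support, Finset.mem_map]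
    obtain ⟨b, rfl⟩ := e.surjective z
    rcases b with ⟨i, x⟩ | b
    · rw [cyclesElt, cyclesHom_inl]
      simp
    · rw [cyclesElt, cyclesHom_inr]
      simp
  rw [h1, Finset.card_map, Finset.card_univ, Fintype.card_prod, Fintype.card_fin, ZMod.card,
    mul_comm]

omit [NeZero p] in
theorem cyclesHom_pow (e : (Fin w × ZMod p) ⊕ Fin m ≃ Fin n)
    (f : Multiplicative (Fin w → ZMod p)) : cyclesHom e f ^ p = 1 := by
  rw [← map_pow]
  have : f ^ p = 1 := Multiplicative.toAdd.injective (funext fun i => by simp)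
  rw [this, map_one]

theorem cycleType_cyclesElt [Fact p.Prime] (e : (Fin w × ZMod p) ⊕ Fin m ≃ Fin n) :
    (cyclesElt e).cycleType = Multiset.replicate w p := by
  have hp : p.Prime := Fact.out
  have hord : orderOf (cyclesElt e) ∣ p := orderOf_dvd_of_pow_eq_one (cyclesHom_pow e _)
  have hall : ∀ a ∈ (cyclesElt e).cycleType, a = p := by
    intro a ha
    have h2 := Equiv.Perm.two_le_of_mem_cycleType ha
    rcases hp.eq_one_or_self_of_dvd a ((Equiv.Perm.dvd_of_mem_cycleType ha).trans hord) with h | h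
    · omega
    · exact h
  have hrep := Multiset.eq_replicate_card.mpr hall
  have hsum := Equiv.Perm.sum_cycleType (cyclesElt e)
  rw [hrep, Multiset.sum_replicate, smul_eq_mul, card_support_cyclesElt e hp.one_lt] at hsum
  rw [hrep]
  congr 1
  exact Nat.eq_of_mul_eq_mul_left hp.pos ((mul_comm _ _).trans hsum)

/-- A permutation of the complement. -/
noncomputable def onRest (e : (Fin w × ZMod p) ⊕ Fin m ≃ Fin n) (y : Equiv.Perm (Fin m)) :
    Equiv.Perm (Fin n) :=
  e.permCongr (Equiv.sumCongr (Equiv.refl _) y)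

omit [NeZero p] in
theorem onRest_inl (e : (Fin w × ZMod p) ⊕ Fin m ≃ Fin n) (y : Equiv.Perm (Fin m))
    (a : Fin w × ZMod p) : onRest e y (e (Sum.inl a)) = e (Sum.inl a) := by
  simp [onRest, Equiv.permCongr_apply]

omit [NeZero p] in
theorem onRest_inr (e : (Fin w × ZMod p) ⊕ Fin m ≃ Fin n) (y : Equiv.Perm (Fin m))
    (b : Fin m) : onRest e y (e (Sum.inr b)) = e (Sum.inr (y b)) := by
  simp [onRest, Equiv.permCongr_apply]

omit [NeZero p] in
theorem disjoint_cyclesElt_onRest (e : (Fin w × ZMod p) ⊕ Fin m ≃ Fin n) (y : Equiv.Perm (Fin m)) :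
    Equiv.Perm.Disjoint (cyclesElt e) (onRest e y) := by
  intro z
  obtain ⟨b, rfl⟩ := e.surjective z
  rcases b with a | b
  · exact Or.inr (onRest_inl e y a)
  · exact Or.inl (cyclesHom_inr e _ b)

omit [NeZero p] in
theorem cycleType_onRest (e : (Fin w × ZMod p) ⊕ Fin m ≃ Fin n) (y : Equiv.Perm (Fin m)) :
    (onRest e y).cycleType = y.cycleType := by
  classical
  let f : Fin m ≃ Subtype fun z : Fin n => ∃ b, e (Sum.inr b) = z :=
    Equiv.ofInjective _ (e.injective.comp Sum.inr_injective)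
  have h : onRest e y = y.extendDomain f := by
    refine Equiv.ext fun z => ?_
    obtain ⟨b, rfl⟩ := e.surjective z
    rcases b with a | b
    · rw [onRest_inl, Equiv.Perm.extendDomain_apply_not_subtype]
      rintro ⟨b, hb⟩
      exact absurd (e.injective hb) Sum.inr_ne_inl
    · rw [onRest_inr]
      exact (Equiv.Perm.extendDomain_apply_image y f b).symm
  rw [h, Equiv.Perm.cycleType_extendDomain]

theorem parts_cycles_mul [Fact p.Prime] (e : (Fin w × ZMod p) ⊕ Fin m ≃ Fin n)
    (y : Equiv.Perm (Fin m)) :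
    (cyclesElt e * onRest e y).partition.parts = Multiset.replicate w p + y.partition.parts := by
  have hp : p.Prime := Fact.out
  have hcard : p * w + m = n := by
    have h := Fintype.card_congr e
    simp only [Fintype.card_sum, Fintype.card_prod, Fintype.card_fin, ZMod.card] at h
    rw [mul_comm, h]
  have hle : y.cycleType.sum ≤ m := by
    rw [Equiv.Perm.sum_cycleType]
    exact (Finset.card_le_univ _).trans (Fintype.card_fin m).le
  rw [Equiv.Perm.parts_partition, Equiv.Perm.parts_partition, ← Equiv.Perm.sum_cycleType,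
    ← Equiv.Perm.sum_cycleType, (disjoint_cyclesElt_onRest e y).cycleType_mul, cycleType_cyclesElt,
    cycleType_onRest, Multiset.sum_add, Multiset.sum_replicate, smul_eq_mul, Fintype.card_fin,
    Fintype.card_fin, add_assoc]
  congr 3
  rw [mul_comm w p]
  omega

end Cycles

theorem exists_perm_with_parts {μ : Multiset ℕ} {m : ℕ} (hpos : ∀ a ∈ μ, 0 < a) (hsum : μ.sum = m) :
    ∃ y : Equiv.Perm (Fin m), y.partition.parts = μ := by
  classical
  obtain ⟨y, hy⟩ := (Equiv.Perm.exists_with_cycleType_iff (Fin m)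
    (m := μ.filter fun a => 2 ≤ a)).mpr ⟨by
      rw [Fintype.card_fin, ← hsum]
      conv_rhs => rw [← Multiset.filter_add_not (fun a => 2 ≤ a) μ, Multiset.sum_add]
      exact Nat.le_add_right _ _, fun a ha => (Multiset.mem_filter.mp ha).2⟩
  refine ⟨y, ?_⟩
  rw [Equiv.Perm.parts_partition, ← Equiv.Perm.sum_cycleType, hy, Fintype.card_fin]
  conv_rhs => rw [← Multiset.filter_add_not (fun a => 2 ≤ a) μ]
  congr 1
  have h1 : ∀ a ∈ μ.filter (fun a => ¬ 2 ≤ a), a = 1 := fun a ha => by
    have := hpos a (Multiset.mem_filter.mp ha).1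
    have := (Multiset.mem_filter.mp ha).2
    omega
  have hrep := Multiset.eq_replicate_card.mpr h1
  rw [hrep]
  congr 1
  have h2 := congrArg Multiset.sum (Multiset.filter_add_not (fun a => 2 ≤ a) μ)
  rw [Multiset.sum_add, hrep, Multiset.sum_replicate, smul_eq_mul, mul_one, hsum] at h2
  omega

/-- Some defect group contains the shifts along `w` disjoint `p`-cycles. -/
theorem exists_cycles_le_defect [NeZero p] {M : Ideal AlgInt} (hM : IsPModular p M) (hn : n ≤ N)
    {B : Set (IrrCharacter (Equiv.Perm (Fin n)))} (hB : IsPBlock M B)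
    {ψ : IrrCharacter (Equiv.Perm (Fin n))} (hψ : ψ ∈ B) {α : Fin N → ℕ} (hα : α ∈ lev N n)
    (hne : coef N α ψ ≠ 0) {w : ℕ} (hw : ∑ i, α i = (∑ i, core0 p α i) + p * w) :
    ∃ (m : ℕ) (e : (Fin w × ZMod p) ⊕ Fin m ≃ Fin n) (D' : Subgroup (Equiv.Perm (Fin n))),
      IsDefectGroup p M B D' ∧ (cyclesHom e).range ≤ D' := by
  classical
  have : Fact p.Prime := ⟨hM.1⟩
  have : Fintype (IrrCharacter (Equiv.Perm (Fin n))) := Fintype.ofFinite _
  have hp := hM.1
  have hchi := chi_eq_coef_smul hn hα hne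
  have hinj : Function.Injective α := by
    by_contra hn'
    refine hne ?_
    rw [coef, show (chi N α : Equiv.Perm (Fin n) → ℂ) = 0 from
      funext fun σ => (anti_vM _).zero_of_not_injective hn']
    simp [classInner]
  obtain ⟨μ, hμ, hμsum, hμne⟩ := exists_vM_ne_weight hp.pos hinj (mem_lev.mp hα) hw
  let e : (Fin w × ZMod p) ⊕ Fin μ.sum ≃ Fin n := Fintype.equivFinOfCardEq (by
    rw [Fintype.card_sum, Fintype.card_prod, Fintype.card_fin, Fintype.card_fin, ZMod.card,
      mul_comm]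
    omega)
  obtain ⟨y₀, hy₀⟩ := exists_perm_with_parts (fun a ha => (hμ a ha).1) rfl
  set x := cyclesElt e with hxdef
  set y := onRest e y₀ with hydef
  have hval : (ψ : Equiv.Perm (Fin n) → ℂ) (x * y) ≠ 0 := by
    intro h0
    refine hμne ?_
    have h := congrFun hchi (x * y)
    rw [Pi.smul_apply, h0, smul_zero, chi, parts_cycles_mul, hy₀] at h
    exact h
  have hxp : ∃ k, orderOf x = p ^ k := by
    rcases hp.eq_one_or_self_of_dvd _
      (orderOf_dvd_of_pow_eq_one (cyclesHom_pow e _) : orderOf x ∣ p) with h | h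
    · exact ⟨0, by rw [h, pow_zero]⟩
    · exact ⟨1, by rw [h, pow_one]⟩
  let H := Subgroup.centralizer ({x} : Set (Equiv.Perm (Fin n)))
  have hH : ∀ g, g ∈ H ↔ Commute x g := fun g => SecondMain.commute_iff_mem_centralizer_singleton
  have hyH : y ∈ H := (hH y).mpr (disjoint_cyclesElt_onRest e y₀).commute
  have hyreg : ¬ p ∣ orderOf y := by
    rw [← Equiv.Perm.lcm_cycleType, hydef, cycleType_onRest, Equiv.Perm.lcm_cycleType,
      dvd_orderOf_iff hp, hy₀]
    exact fun ⟨a, ha, hd⟩ => (hμ a ha).2 hd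
  obtain ⟨b, hb⟩ : ∃ b : Set (IrrCharacter H), IsInducedBlock M H b B := by
    by_contra hnone
    push Not at hnone
    have hfix : blockPart B (ψ : Equiv.Perm (Fin n) → ℂ) (x * y) = (ψ : Equiv.Perm (Fin n) → ℂ) (x * y) := by
      rw [SecondMain.blockPart_apply, finsum_mem_eq_toFinset_sum,
        Finset.sum_eq_single_of_mem ψ (Set.mem_toFinset.mpr hψ)]
      · rw [Char.classInner_irr_self ψ.2, one_mul]
      · intro φ _ hφ
        rw [Char.classInner_irr_of_ne ψ.2 φ.2 fun h => hφ (Subtype.ext h).symm, zero_mul]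
    refine hval (hfix.symm.trans ?_)
    have := SecondMain.blockPart_eq_sum_induced hM hxp hH hB
      (Char.IsIrrCharacter.isClassFunction ψ.2) (s := ⟨y, hyH⟩)
      (by rwa [← Subgroup.orderOf_coe])
    rw [show x * y = x * ((⟨y, hyH⟩ : H) : Equiv.Perm (Fin n)) from rfl, this]
    exact finsum_mem_of_eqOn_zero fun c hc => absurd hc (hnone c)
  let E := (cyclesHom e).range
  have hEH : E ≤ H := fun g hg => (hH g).mpr ((mem_range_cyclesHom e g).mp hg).1.symm
  have hEp : IsPGroup p E := by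
    refine fun g => ⟨1, Subtype.ext ?_⟩
    obtain ⟨f, hf⟩ := g.2
    rw [Subgroup.coe_pow, pow_one, ← hf, cyclesHom_pow]
    rfl
  have : (E.subgroupOf H).Normal := by
    refine ⟨fun g hg h => ?_⟩
    rw [Subgroup.mem_subgroupOf] at hg ⊢
    obtain ⟨hcomm, hz⟩ := (mem_range_cyclesHom e (g : Equiv.Perm (Fin n))).mp hg
    refine (mem_range_cyclesHom e _).mpr ⟨?_, fun z => ?_⟩
    · have hhx : Commute (h : Equiv.Perm (Fin n)) x := ((hH _).mp h.2).symm
      exact (hhx.mul_left hcomm).mul_left hhx.inv_left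
    · obtain ⟨k, hk⟩ := hz ((h : Equiv.Perm (Fin n))⁻¹ z)
      refine ⟨k, ?_⟩
      rw [Subgroup.coe_mul, Subgroup.coe_mul, Subgroup.coe_inv, Equiv.Perm.mul_apply,
        Equiv.Perm.mul_apply, hk, ← Equiv.Perm.mul_apply,
        ((((hH _).mp h.2).symm).pow_right k).eq, Equiv.Perm.mul_apply]
      exact congrArg _ (Equiv.apply_symm_apply _ _)
  obtain ⟨D₁, hD₁⟩ := Blocks.exists_isDefectGroup hM (B := b) hb.1
  have hED₁ : E.subgroupOf H ≤ D₁ :=
    Blocks.normal_le_defectGroup hM (hEp.of_equiv (Subgroup.subgroupOfEquivOfLe hEH).symm) hb.1 hD₁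
  obtain ⟨D', hD', hle⟩ := Blocks.exists_defectGroup_ge_of_induced hM hb hD₁
  exact ⟨_, e, D', hD', fun g hg => hle ⟨⟨g, hEH hg⟩, hED₁ (Subgroup.mem_subgroupOf.mpr hg), rfl⟩⟩

/-- Some defect group contains `(ℤ/p)^w`. -/
theorem exists_weight_subgroup {M : Ideal AlgInt} (hM : IsPModular p M) (hn : n ≤ N)
    {B : Set (IrrCharacter (Equiv.Perm (Fin n)))} (hB : IsPBlock M B)
    {ψ : IrrCharacter (Equiv.Perm (Fin n))} (hψ : ψ ∈ B) {α : Fin N → ℕ} (hα : α ∈ lev N n)
    (hne : coef N α ψ ≠ 0) {w : ℕ} (hw : ∑ i, α i = (∑ i, core0 p α i) + p * w) :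
    ∃ (E D' : Subgroup (Equiv.Perm (Fin n))), IsDefectGroup p M B D' ∧ E ≤ D' ∧
      IsMulCommutative E ∧ (∀ a ∈ E, a ^ p = 1) ∧ Nat.card E = p ^ w := by
  have : NeZero p := ⟨hM.1.ne_zero⟩
  obtain ⟨m, e, D', hD', hle⟩ := exists_cycles_le_defect hM hn hB hψ hα hne hw
  refine ⟨_, D', hD', hle,
    ⟨⟨fun a b => ?_⟩⟩, fun a ha => ?_, ?_⟩
  · obtain ⟨f, hf⟩ := a.2
    obtain ⟨g, hg⟩ := b.2
    exact Subtype.ext (by rw [Subgroup.coe_mul, Subgroup.coe_mul, ← hf, ← hg, ← map_mul, ← map_mul,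
      mul_comm])
  · obtain ⟨f, rfl⟩ := ha
    exact cyclesHom_pow e f
  · rw [← Nat.card_congr (MonoidHom.ofInjective (cyclesHom_injective e)).toEquiv,
      Nat.card_eq_fintype_card, Fintype.card_multiplicative, Fintype.card_fun, ZMod.card,
      Fintype.card_fin]

end Cfsg.Agent.SymBlocks
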