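import Cfsg.Agent.Lib.SymBlocks.AltRestrict
import Cfsg.Agent.Lib.SymBlocks.Defect

/-!
# Elementary abelian subgroups of the defect groups of blocks of alternating groups

For odd `p` and weight `w` a defect group contains `(ℤ/p)^w`; for `p = 2` it contains
`(ℤ/2)^(2 ⌊w/2⌋)` (regular four-groups on the support of the weight).
-/

set_option autoImplicit false

open Finset
open scoped ComplexConjugate

namespace Cfsg.Agent.SymBlocks

open Cfsg

variable {N n p : ℕ}

theorem parts_one (m : ℕ) :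
    (1 : Equiv.Perm (Fin m)).partition.parts = Multiset.replicate m 1 := by
  simp [Equiv.Perm.parts_partition]

/-- The core character does not vanish at the identity. -/
theorem vM_ones_ne_zero {α : Fin N → ℕ} (hα : Function.Injective α) {m : ℕ}
    (hs : ∑ i, α i = stair N + m) : vM N (Multiset.replicate m 1) α ≠ 0 := by
  have hlt : ∀ i, core0 1 α i < N := by
    intro i
    rw [core0, Nat.mod_one, Nat.zero_add, one_mul, rk]
    calc (Finset.univ.filter fun j => α j % 1 = α i % 1 ∧ α j < α i).card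
        < (Finset.univ : Finset (Fin N)).card := Finset.card_lt_card
          (Finset.filter_ssubset.mpr ⟨i, Finset.mem_univ i, fun h => lt_irrefl _ h.2⟩)
      _ = N := Finset.card_fin N
  have hinj := core0_injective Nat.one_pos hα
  let π : Equiv.Perm (Fin N) := Equiv.ofBijective (fun i => (⟨core0 1 α i, hlt i⟩ : Fin N))
    (Finite.injective_iff_bijective.mp fun a b h => hinj (congrArg Fin.val h))
  have hπ : core0 1 α = fun j => (π j : ℕ) := rfl
  have hsum : ∑ i, core0 1 α i = stair N := by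
    rw [hπ, stair]
    exact Fintype.sum_equiv π _ _ fun _ => rfl
  obtain ⟨P, hP, hPf⟩ := paths Nat.one_pos m hα (by rw [hsum, one_mul, hs])
  rw [← add_zero (Multiset.replicate m 1), vM_replicate_add, vM_zero, hPf _ anti_base, hπ, base_perm]
  refine mul_ne_zero (Nat.cast_ne_zero.mpr hP.ne') (Int.cast_ne_zero.mpr ?_)
  exact Units.ne_zero _

/-- A subgroup centralising a class seen by the idempotent lies in a defect group. -/
theorem exists_defect_ge {G : Type*} [Group G] [Finite G] [Fact p.Prime] {M : Ideal AlgInt}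
    (hM : IsPModular p M) {B : Set (IrrCharacter G)} (hB : IsPBlock M B) {Q : Subgroup G}
    (hQ : IsPGroup p Q) {a : G} (hQa : Q ≤ Subgroup.centralizer ({a} : Set G))
    (ha : ¬ MemLocalIdeal M (blockCoeff B a)) :
    ∃ D', IsDefectGroup p M B D' ∧ Q ≤ D' := by
  obtain ⟨χ, hχ⟩ := Blocks.isPBlock_nonempty hM hB
  obtain ⟨D₀, hD₀⟩ := Blocks.exists_isDefectGroup hM hB
  obtain ⟨k, hk, hkD⟩ := hD₀
  obtain ⟨x, hx⟩ := Blocks.minmax hM hB hχ (hk.2.2 χ hχ) ha hQ hQa hkD
  exact ⟨Blocks.conjSub x D₀, Blocks.isDefectGroup_conjSub hM ⟨k, hk, hkD⟩ x, hx⟩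

set_option maxHeartbeats 800000 in
/-- For odd `p`, a defect group contains the shifts along `w` disjoint `p`-cycles. -/
theorem exists_cycles_le_defect_alt_odd {M : Ideal AlgInt} (hM : IsPModular p M) (hp2 : p ≠ 2)
    (hn : n ≤ N) {B : Set (IrrCharacter (alternatingGroup (Fin n)))}
    (hB : IsPBlock M B) {ξ : IrrCharacter (alternatingGroup (Fin n))} (hξ : ξ ∈ B)
    {ψ : IrrCharacter (Equiv.Perm (Fin n))}
    (hover : classInner (resA n (ψ : Equiv.Perm (Fin n) → ℂ))
      (ξ : alternatingGroup (Fin n) → ℂ) ≠ 0)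
    {α : Fin N → ℕ} (hα : α ∈ lev N n) (hne : coef N α ψ ≠ 0) {w : ℕ}
    (hw : ∑ i, α i = (∑ i, core0 p α i) + p * w) :
    ∃ (m : ℕ) (e : (Fin w × ZMod p) ⊕ Fin m ≃ Fin n) (D' : Subgroup (alternatingGroup (Fin n))),
      IsDefectGroup p M B D' ∧ (∀ f, cyclesHom e f ∈ alternatingGroup (Fin n)) ∧
      ∀ f h, (⟨cyclesHom e f, h⟩ : alternatingGroup (Fin n)) ∈ D' := by
  classical
  have : Fact p.Prime := ⟨hM.1⟩
  have : NeZero p := ⟨hM.1.ne_zero⟩
  have hp := hM.1
  have hinj : Function.Injective α := by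
    by_contra hn'
    refine hne ?_
    rw [coef, show (chi N α : Equiv.Perm (Fin n) → ℂ) = 0 from
      funext fun σ => (anti_vM _).zero_of_not_injective hn']
    simp [classInner]
  have hcinj := core0_injective hp.pos hinj
  have hge := stair_le hcinj
  obtain ⟨m, hm⟩ : ∃ m, ∑ i, core0 p α i = stair N + m := ⟨_, (Nat.add_sub_cancel' hge).symm⟩
  let e₀ : (Fin w × ZMod p) ⊕ Fin m ≃ Fin n := Fintype.equivFinOfCardEq (by
    rw [Fintype.card_sum, Fintype.card_prod, Fintype.card_fin, Fintype.card_fin, ZMod.card,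
      mul_comm]
    have := mem_lev.mp hα
    omega)
  have hval : (ψ : Equiv.Perm (Fin n) → ℂ) (cyclesElt e₀) ≠ 0 := by
    intro h0
    obtain ⟨P, hP, hPf⟩ := paths hp.pos w hinj hw
    have h := congrFun (chi_eq_coef_smul hn hα hne) (cyclesElt e₀)
    rw [Pi.smul_apply, h0, smul_zero, chi] at h
    have hone : onRest e₀ 1 = 1 := by
      refine Equiv.ext fun z => ?_
      obtain ⟨b, rfl⟩ := e₀.surjective z
      rcases b with a | b
      · exact onRest_inl e₀ 1 a
      · exact onRest_inr e₀ 1 b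
    rw [← mul_one (cyclesElt e₀), ← hone, parts_cycles_mul, parts_one, vM_replicate_add,
      hPf _ (anti_vM _)] at h
    rcases mul_eq_zero.mp h with h | h
    · exact hP.ne' (Nat.cast_eq_zero.mp h)
    · exact vM_ones_ne_zero hcinj hm h
  have heven : ∀ (e : (Fin w × ZMod p) ⊕ Fin m ≃ Fin n) (f : Multiplicative (Fin w → ZMod p)),
      cyclesHom e f ∈ (alternatingGroup (Fin n)) := by
    intro e f
    rw [Equiv.Perm.mem_alternatingGroup]
    obtain ⟨j, hj⟩ : ∃ j, p = 2 * j + 1 := ⟨p / 2, by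
      rcases hp.eq_two_or_odd with h | h
      · exact absurd h hp2
      · omega⟩
    have h1 := congrArg Equiv.Perm.sign (cyclesHom_pow e f)
    rw [map_pow, map_one] at h1
    have h2 : Equiv.Perm.sign (cyclesHom e f) ^ (2 * j + 1) = 1 := (congrArg _ hj.symm).trans h1
    rwa [pow_succ, pow_mul, pow_two, Int.units_mul_self, one_pow, one_mul] at h2
  -- a constituent not vanishing at the long element
  obtain ⟨η, hη, hηx⟩ : ∃ η : IrrCharacter (alternatingGroup (Fin n)),
      classInner (resA n (ψ : Equiv.Perm (Fin n) → ℂ)) (η : (alternatingGroup (Fin n)) → ℂ) ≠ 0 ∧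
      (η : (alternatingGroup (Fin n)) → ℂ) ⟨cyclesElt e₀, heven e₀ _⟩ ≠ 0 := by
    by_contra hcon
    push Not at hcon
    have := Fintype.ofFinite (IrrCharacter (alternatingGroup (Fin n)))
    have h := congrFun (Char.classFunction_eq_sum
      (Char.IsCharacter.isClassFunction (isCharacter_resA ψ))) ⟨cyclesElt e₀, heven e₀ _⟩
    rw [Finset.sum_apply, Finset.sum_eq_zero fun η _ => by
      by_cases h0 : classInner (resA n (ψ : Equiv.Perm (Fin n) → ℂ)) (η : (alternatingGroup (Fin n)) → ℂ) = 0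
      · rw [Pi.smul_apply, h0, zero_smul]
      · rw [Pi.smul_apply, hcon η h0, smul_zero]] at h
    exact hval h
  obtain ⟨t, ht⟩ := CliffordChar.constituents_conjugate (alternatingGroup (Fin n)) ψ.2 ξ.2 η.2 hover hη
  let e : (Fin w × ZMod p) ⊕ Fin m ≃ Fin n := e₀.trans (t⁻¹ : Equiv.Perm (Fin n))
  have hex : cyclesElt e = t⁻¹ * cyclesElt e₀ * t := by
    refine Equiv.ext fun z => ?_
    obtain ⟨b, rfl⟩ := e.surjective z
    have he : ∀ b, e b = t⁻¹ (e₀ b) := fun _ => rfl
    rcases b with ⟨i, x⟩ | b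
    · rw [cyclesElt, cyclesHom_inl, he, he, Equiv.Perm.mul_apply, Equiv.Perm.mul_apply,
        show t (t⁻¹ (e₀ (Sum.inl (i, x)))) = e₀ (Sum.inl (i, x)) from t.apply_symm_apply _,
        cyclesElt, cyclesHom_inl]
    · rw [cyclesElt, cyclesHom_inr, he, Equiv.Perm.mul_apply, Equiv.Perm.mul_apply,
        show t (t⁻¹ (e₀ (Sum.inr b))) = e₀ (Sum.inr b) from t.apply_symm_apply _,
        cyclesElt, cyclesHom_inr]
  set x : (alternatingGroup (Fin n)) := ⟨cyclesElt e, heven e _⟩ with hxdef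
  have hξx : (ξ : (alternatingGroup (Fin n)) → ℂ) x ≠ 0 := by
    have h := congrFun ht ⟨cyclesElt e₀, heven e₀ _⟩
    simp only [CliffordChar.conjFun] at h
    rw [← h] at hηx
    convert hηx using 2
    refine Subtype.ext ?_
    rw [MulAut.conjNormal_apply, inv_inv]
    exact hex
  have hxp : ∃ k, orderOf x = p ^ k := by
    rcases hp.eq_one_or_self_of_dvd _ (orderOf_dvd_of_pow_eq_one
      (Subtype.ext (by rw [Subgroup.coe_pow]; exact cyclesHom_pow e _) : x ^ p = 1)) with h | h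
    · exact ⟨0, by rw [h, pow_zero]⟩
    · exact ⟨1, by rw [h, pow_one]⟩
  let H := Subgroup.centralizer ({x} : Set (alternatingGroup (Fin n)))
  have hH : ∀ g, g ∈ H ↔ Commute x g := fun g => SecondMain.commute_iff_mem_centralizer_singleton
  obtain ⟨b, hb⟩ : ∃ b : Set (IrrCharacter H), IsInducedBlock M H b B := by
    by_contra hnone
    push Not at hnone
    have hfix : blockPart B (ξ : (alternatingGroup (Fin n)) → ℂ) (x * 1) = (ξ : (alternatingGroup (Fin n)) → ℂ) (x * 1) := by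
      have : Fintype (IrrCharacter (alternatingGroup (Fin n))) := Fintype.ofFinite _
      rw [SecondMain.blockPart_apply, finsum_mem_eq_toFinset_sum,
        Finset.sum_eq_single_of_mem ξ (Set.mem_toFinset.mpr hξ)]
      · rw [Char.classInner_irr_self ξ.2, one_mul]
      · intro φ _ hφ
        rw [Char.classInner_irr_of_ne ξ.2 φ.2 fun h => hφ (Subtype.ext h).symm, zero_mul]
    refine hξx ?_
    rw [← mul_one x, ← hfix]
    have h := SecondMain.blockPart_eq_sum_induced hM hxp hH hB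
      (Char.IsIrrCharacter.isClassFunction ξ.2) (s := (1 : H))
      (by rw [orderOf_one]; exact hp.not_dvd_one)
    rw [OneMemClass.coe_one] at h
    rw [h]
    exact finsum_mem_of_eqOn_zero fun c hc => absurd hc (hnone c)
  let φ : Multiplicative (Fin w → ZMod p) →* (alternatingGroup (Fin n)) := (cyclesHom e).codRestrict (alternatingGroup (Fin n)) (heven e)
  have hφ : ∀ f, ((φ f : (alternatingGroup (Fin n))) : Equiv.Perm (Fin n)) = cyclesHom e f := fun _ => rfl
  let E := φ.range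
  have hmem : ∀ g : (alternatingGroup (Fin n)), g ∈ E ↔ (g : Equiv.Perm (Fin n)) ∈ (cyclesHom e).range := fun g =>
    ⟨fun ⟨f, hf⟩ => ⟨f, by rw [← hf, hφ]⟩, fun ⟨f, hf⟩ => ⟨f, Subtype.ext hf⟩⟩
  have hEH : E ≤ H := fun g hg => (hH g).mpr
    (Subtype.ext ((mem_range_cyclesHom e g).mp ((hmem g).mp hg)).1.symm.eq)
  have hEp : IsPGroup p E := by
    refine fun g => ⟨1, Subtype.ext ?_⟩
    obtain ⟨f, hf⟩ := g.2
    rw [Subgroup.coe_pow, pow_one, ← hf]
    exact Subtype.ext (by rw [Subgroup.coe_pow, hφ, cyclesHom_pow]; rfl)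
  have : (E.subgroupOf H).Normal := by
    refine ⟨fun g hg h => ?_⟩
    rw [Subgroup.mem_subgroupOf] at hg ⊢
    obtain ⟨hcomm, hz⟩ := (mem_range_cyclesHom e _).mp ((hmem _).mp hg)
    refine (hmem _).mpr ((mem_range_cyclesHom e _).mpr ⟨?_, fun z => ?_⟩)
    · have hhx : Commute ((h : (alternatingGroup (Fin n))) : Equiv.Perm (Fin n)) (cyclesElt e) :=
        (((hH _).mp h.2).map (alternatingGroup (Fin n)).subtype).symm
      exact (hhx.mul_left hcomm).mul_left hhx.inv_left
    · obtain ⟨k, hk⟩ := hz (((h : (alternatingGroup (Fin n))) : Equiv.Perm (Fin n))⁻¹ z)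
      refine ⟨k, ?_⟩
      have hhx : Commute ((h : (alternatingGroup (Fin n))) : Equiv.Perm (Fin n)) (cyclesElt e) :=
        (((hH _).mp h.2).map (alternatingGroup (Fin n)).subtype).symm
      rw [Subgroup.coe_mul, Subgroup.coe_mul, Subgroup.coe_inv, Subgroup.coe_mul, Subgroup.coe_mul,
        Subgroup.coe_inv, Equiv.Perm.mul_apply, Equiv.Perm.mul_apply, hk, ← Equiv.Perm.mul_apply,
        (hhx.pow_right k).eq, Equiv.Perm.mul_apply]
      exact congrArg _ (Equiv.apply_symm_apply _ _)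
  obtain ⟨D₁, hD₁⟩ := Blocks.exists_isDefectGroup hM (B := b) hb.1
  have hED₁ : E.subgroupOf H ≤ D₁ :=
    Blocks.normal_le_defectGroup hM (hEp.of_equiv (Subgroup.subgroupOfEquivOfLe hEH).symm) hb.1 hD₁
  obtain ⟨D', hD', hle⟩ := Blocks.exists_defectGroup_ge_of_induced hM hb hD₁
  refine ⟨m, e, D', hD', heven e, fun f h => hle ⟨⟨⟨cyclesHom e f, h⟩, hEH ⟨f, rfl⟩⟩,
    hED₁ (Subgroup.mem_subgroupOf.mpr ⟨f, rfl⟩), rfl⟩⟩

/-- For odd `p`, a defect group contains `(ℤ/p)^w`. -/
theorem exists_weight_subgroup_alt_odd {M : Ideal AlgInt} (hM : IsPModular p M) (hp2 : p ≠ 2)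
    (hn : n ≤ N) {B : Set (IrrCharacter (alternatingGroup (Fin n)))}
    (hB : IsPBlock M B) {ξ : IrrCharacter (alternatingGroup (Fin n))} (hξ : ξ ∈ B)
    {ψ : IrrCharacter (Equiv.Perm (Fin n))}
    (hover : classInner (resA n (ψ : Equiv.Perm (Fin n) → ℂ))
      (ξ : alternatingGroup (Fin n) → ℂ) ≠ 0)
    {α : Fin N → ℕ} (hα : α ∈ lev N n) (hne : coef N α ψ ≠ 0) {w : ℕ}
    (hw : ∑ i, α i = (∑ i, core0 p α i) + p * w) :
    ∃ E D' : Subgroup (alternatingGroup (Fin n)), IsDefectGroup p M B D' ∧ E ≤ D' ∧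
      IsMulCommutative E ∧ (∀ a ∈ E, a ^ p = 1) ∧ Nat.card E = p ^ w := by
  have : NeZero p := ⟨hM.1.ne_zero⟩
  obtain ⟨m, e, D', hD', heven, hmem⟩ :=
    exists_cycles_le_defect_alt_odd hM hp2 hn hB hξ hover hα hne hw
  let φ : Multiplicative (Fin w → ZMod p) →* (alternatingGroup (Fin n)) :=
    (cyclesHom e).codRestrict (alternatingGroup (Fin n)) heven
  have hφ : ∀ f, ((φ f : (alternatingGroup (Fin n))) : Equiv.Perm (Fin n)) = cyclesHom e f := fun _ => rfl
  have hφinj : Function.Injective φ := fun f g h =>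
    cyclesHom_injective e (congrArg Subtype.val h)
  refine ⟨φ.range, D', hD', by rintro _ ⟨f, rfl⟩; exact hmem f (heven f),
    ⟨⟨fun a b => ?_⟩⟩, fun a ha => ?_, ?_⟩
  · obtain ⟨f, hf⟩ := a.2
    obtain ⟨g, hg⟩ := b.2
    exact Subtype.ext (by rw [Subgroup.coe_mul, Subgroup.coe_mul, ← hf, ← hg, ← map_mul, ← map_mul,
      mul_comm])
  · obtain ⟨f, rfl⟩ := ha
    exact Subtype.ext (by rw [Subgroup.coe_pow, hφ, cyclesHom_pow]; rfl)
  · rw [← Nat.card_congr (MonoidHom.ofInjective hφinj).toEquiv,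
      Nat.card_eq_fintype_card, Fintype.card_multiplicative, Fintype.card_fun, ZMod.card,
      Fintype.card_fin]

/-- The regular four-group translations on `q` blocks. -/
noncomputable def fourHom {q : ℕ} (ι : Fin q × (ZMod 2 × ZMod 2) ↪ Fin n) :
    Multiplicative (Fin q → ZMod 2 × ZMod 2) →* Equiv.Perm (Fin n) :=
  (Equiv.Perm.viaEmbeddingHom ι).comp
    { toFun := fun f => Equiv.prodCongrRight fun i => Equiv.addRight (Multiplicative.toAdd f i)
      map_one' := by ext ⟨i, v⟩ <;> simp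
      map_mul' := fun f g => by ext ⟨i, v⟩ <;> simp [add_comm, add_left_comm] }

theorem fourHom_apply {q : ℕ} (ι : Fin q × (ZMod 2 × ZMod 2) ↪ Fin n)
    (f : Multiplicative (Fin q → ZMod 2 × ZMod 2)) :
    fourHom ι f = Equiv.Perm.viaEmbedding
      (Equiv.prodCongrRight fun i => Equiv.addRight (Multiplicative.toAdd f i)) ι := rfl

theorem fourHom_mem {q : ℕ} (ι : Fin q × (ZMod 2 × ZMod 2) ↪ Fin n)
    (f : Multiplicative (Fin q → ZMod 2 × ZMod 2)) : fourHom ι f ∈ alternatingGroup (Fin n) := by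
  classical
  have h1 : ∀ v : ZMod 2 × ZMod 2, Equiv.Perm.sign (Equiv.addRight v) = 1 := by decide
  rw [Equiv.Perm.mem_alternatingGroup, fourHom_apply, Equiv.Perm.viaEmbedding]
  rw [Equiv.Perm.sign_extendDomain, Equiv.Perm.sign_prodCongrRight]
  exact Finset.prod_eq_one fun i _ => h1 _

theorem fourHom_injective {q : ℕ} (ι : Fin q × (ZMod 2 × ZMod 2) ↪ Fin n) :
    Function.Injective (fourHom ι) := by
  intro f g h
  have h2 := Equiv.Perm.viaEmbeddingHom_injective ι h
  refine Multiplicative.toAdd.injective (funext fun i => ?_)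
  have h3 := congrArg Prod.snd (DFunLike.congr_fun h2 (i, 0))
  simpa using h3

theorem fourHom_pow {q : ℕ} (ι : Fin q × (ZMod 2 × ZMod 2) ↪ Fin n)
    (f : Multiplicative (Fin q → ZMod 2 × ZMod 2)) : fourHom ι f ^ 2 = 1 := by
  have h : ∀ v : ZMod 2 × ZMod 2, 2 • v = 0 := by decide
  rw [← map_pow, show f ^ 2 = 1 from Multiplicative.toAdd.injective (funext fun i => by
    simp only [toAdd_pow, toAdd_one, Pi.smul_apply, Pi.zero_apply]
    exact h _), map_one]

theorem commute_fourHom {q : ℕ} (ι : Fin q × (ZMod 2 × ZMod 2) ↪ Fin n) {g : Equiv.Perm (Fin n)}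
    (hg : ∀ a, g (ι a) = ι a) (f : Multiplicative (Fin q → ZMod 2 × ZMod 2)) :
    Commute (fourHom ι f) g := by
  refine Equiv.ext fun z => ?_
  rw [Equiv.Perm.mul_apply, Equiv.Perm.mul_apply, fourHom_apply]
  by_cases hz : z ∈ Set.range ι
  · obtain ⟨a, rfl⟩ := hz
    rw [hg, Equiv.Perm.viaEmbedding_apply, hg]
  · have hgz : g z ∉ Set.range ι := by
      rintro ⟨a, ha⟩
      exact hz ⟨a, g.injective (by rw [hg, ha])⟩
    rw [Equiv.Perm.viaEmbedding_apply_of_notMem _ _ _ hgz,
      Equiv.Perm.viaEmbedding_apply_of_notMem _ _ _ hz]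

/-- An element of odd order commuting with the shifts along disjoint transpositions fixes their
support. -/
theorem apply_eq_of_commute_cycles {w m : ℕ} (e : (Fin w × ZMod 2) ⊕ Fin m ≃ Fin n)
    {g : Equiv.Perm (Fin n)} (hg : ¬ 2 ∣ orderOf g) (hc : ∀ f, Commute g (cyclesHom e f))
    (a : Fin w × ZMod 2) : g (e (Sum.inl a)) = e (Sum.inl a) := by
  obtain ⟨i, v⟩ := a
  set τ := cyclesHom e (Multiplicative.ofAdd (Pi.single i (1 : ZMod 2))) with hτ
  set z := e (Sum.inl (i, v)) with hz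
  have hτz : τ z ≠ z := by
    rw [hτ, hz, cyclesHom_inl, toAdd_ofAdd, Pi.single_eq_same]
    intro h
    have h1 := congrArg Prod.snd (Sum.inl_injective (e.injective h))
    simp at h1
  have hττ : τ (τ z) = z := by
    rw [← Equiv.Perm.mul_apply, ← pow_two, hτ, cyclesHom_pow]
    rfl
  have hmoved : τ (g z) ≠ g z := fun h => hτz (g.injective (by
    rw [← Equiv.Perm.mul_apply, (hc _).eq, Equiv.Perm.mul_apply, h]))
  have hcase : g z = z ∨ g z = τ z := by
    obtain ⟨b, hb⟩ := e.surjective (g z)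
    rw [← hb] at hmoved ⊢
    rcases b with ⟨j, u⟩ | b
    · by_cases hji : j = i
      · subst hji
        rw [hτ, hz, cyclesHom_inl, toAdd_ofAdd, Pi.single_eq_same]
        have h2 : ∀ u v : ZMod 2, u = v ∨ u = v + 1 := by decide
        rcases h2 u v with h | h
        · exact Or.inl (by rw [h])
        · exact Or.inr (by rw [h])
      · exact absurd (by rw [hτ, cyclesHom_inl, toAdd_ofAdd, Pi.single_eq_of_ne hji, add_zero])
          hmoved
    · exact absurd (by rw [hτ, cyclesHom_inr]) hmoved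
  have h2z : g (g z) = z := by
    rcases hcase with h | h
    · rw [h, h]
    · rw [h, ← Equiv.Perm.mul_apply, (hc _).eq, Equiv.Perm.mul_apply, h, hττ]
  obtain ⟨j, hj⟩ : ∃ j, orderOf g = 2 * j + 1 := ⟨orderOf g / 2, by omega⟩
  have hg' : g = (g * g) ^ (j + 1) := by
    rw [← pow_two, ← pow_mul, show 2 * (j + 1) = orderOf g + 1 by omega, pow_succ, pow_orderOf_eq_one,
      one_mul]
  have hfix : ∀ k : ℕ, ((g * g) ^ k) z = z := by
    intro k
    induction k with
    | zero => rfl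
    | succ k ih => rw [pow_succ, Equiv.Perm.mul_apply, Equiv.Perm.mul_apply, h2z, ih]
  conv_lhs => rw [hg']
  exact hfix _

set_option maxHeartbeats 800000 in
/-- For `p = 2`, the idempotent sees an element fixing the support of the weight. -/
theorem exists_fix_alt_two {M : Ideal AlgInt} (hM : IsPModular 2 M)
    (hn : n ≤ N) {B : Set (IrrCharacter (alternatingGroup (Fin n)))}
    (hB : IsPBlock M B) {ξ : IrrCharacter (alternatingGroup (Fin n))} (hξ : ξ ∈ B)
    {ψ : IrrCharacter (Equiv.Perm (Fin n))}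
    (hover : classInner (resA n (ψ : Equiv.Perm (Fin n) → ℂ))
      (ξ : alternatingGroup (Fin n) → ℂ) ≠ 0)
    {α : Fin N → ℕ} (hα : α ∈ lev N n) (hne : coef N α ψ ≠ 0) {w : ℕ}
    (hw : ∑ i, α i = (∑ i, core0 2 α i) + 2 * w) :
    ∃ (m : ℕ) (e : (Fin w × ZMod 2) ⊕ Fin m ≃ Fin n) (a : alternatingGroup (Fin n)),
      ¬ MemLocalIdeal M (blockCoeff B a) ∧
      ∀ z, (a : Equiv.Perm (Fin n)) (e (Sum.inl z)) = e (Sum.inl z) := by
  classical
  have : Fact (Nat.Prime 2) := ⟨hM.1⟩
  set b₀ := blockOf M (ψ : Equiv.Perm (Fin n) → ℂ) with hb₀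
  have hb : IsPBlock M b₀ := ⟨ψ, rfl⟩
  have hψb : ψ ∈ b₀ := Blocks.mem_blockOf_self hM ψ
  obtain ⟨m, e, D₀, hD₀, hle⟩ := exists_cycles_le_defect hM hn hb hψb hα hne hw
  obtain ⟨g, hgcl, hgD⟩ := hD₀
  have hgodd : ¬ 2 ∣ orderOf g := Blocks.pRegular_of_blockCoeff hM hb hgcl.2.1
  have hcomm : ∀ f, Commute g (cyclesHom e f) := fun f =>
    (Blocks.mem_centralizer_singleton.mp (Blocks.sylowIn_le hgD (hle ⟨f, rfl⟩))).symm
  have hgA : g ∈ (alternatingGroup (Fin n)) := by
    rw [Equiv.Perm.mem_alternatingGroup]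
    obtain ⟨j, hj⟩ : ∃ j, orderOf g = 2 * j + 1 := ⟨orderOf g / 2, by omega⟩
    have h1 := congrArg Equiv.Perm.sign (pow_orderOf_eq_one g)
    rwa [map_pow, map_one, hj, pow_succ, pow_mul, pow_two, Int.units_mul_self, one_pow,
      one_mul] at h1
  have hfix := apply_eq_of_commute_cycles e hgodd hcomm
  -- the characters of `A` under the block of `ψ`
  have hU := Blocks.blockInd_mem_intRing hM hb
  have hodd : ∀ y : Equiv.Perm (Fin n), y ∉ (alternatingGroup (Fin n)) → Blocks.ofOmega (Blocks.blockInd b₀) y = 0 := by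
    intro y hy
    refine Blocks.ofOmega_singular_eq_zero hM hU ?_
    by_contra hdvd
    obtain ⟨j, hj⟩ : ∃ j, orderOf y = 2 * j + 1 := ⟨orderOf y / 2, by omega⟩
    have h1 := congrArg Equiv.Perm.sign (pow_orderOf_eq_one y)
    rw [map_pow, map_one, hj, pow_succ, pow_mul, pow_two, Int.units_mul_self, one_pow,
      one_mul] at h1
    exact hy (Equiv.Perm.mem_alternatingGroup.mpr h1)
  obtain ⟨hint, hcoef⟩ := overSet_spec hM hU hodd
  have hBO : B ⊆ overSet b₀ := fun η hη =>
    Blocks.mem_of_sameBlock hM hint ⟨ψ, hψb, hover⟩ (Blocks.sameBlock_of_mem hM hB hξ hη)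
  have hbad : ∃ a : (alternatingGroup (Fin n)), (∃ u : Equiv.Perm (Fin n), (a : Equiv.Perm (Fin n)) = u * g * u⁻¹) ∧
      ¬ MemLocalIdeal M (blockCoeff B a) := by
    by_contra hcon
    push Not at hcon
    refine hgcl.2.1 ?_
    have hover' : ∀ η ∈ overSet b₀, ∃ u, BlocksNormal.conjIrr (alternatingGroup (Fin n)) u η ∈ B := by
      rintro η ⟨φ, hφ, hφη⟩
      exact BlocksNormal.exists_conjIrr_mem_of_sameBlock (alternatingGroup (Fin n)) hM hB
        (Blocks.sameBlock_of_mem hM hb hψb hφ) hξ hover hφη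
    have hinner : ∀ u ∈ (alternatingGroup (Fin n)), ∀ η : IrrCharacter (alternatingGroup (Fin n)), BlocksNormal.conjIrr (alternatingGroup (Fin n)) u η = η := by
      intro u hu η
      refine Subtype.ext (funext fun a => ?_)
      show (η : (alternatingGroup (Fin n)) → ℂ) (MulAut.conjNormal u⁻¹ a) = _
      refine Blocks.classFunction_eq_of_isConj (Char.IsIrrCharacter.isClassFunction η.2)
        (isConj_iff.mpr ⟨⟨u, hu⟩, Subtype.ext ?_⟩)
      simp [mul_assoc]
    show MemLocalIdeal M (blockCoeff b₀ g)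
    rw [← hcoef ⟨g, hgA⟩, Blocks.blockCoeff_eq_ofOmega]
    by_cases hall : ∀ η ∈ overSet b₀, η ∈ B
    · rw [show overSet b₀ = B from Set.Subset.antisymm hall hBO, ← Blocks.blockCoeff_eq_ofOmega]
      exact hcon ⟨g, hgA⟩ ⟨1, by simp⟩
    push Not at hall
    obtain ⟨η₀, hη₀, hη₀B⟩ := hall
    obtain ⟨t, ht⟩ := hover' η₀ hη₀
    have htA : t ∉ (alternatingGroup (Fin n)) := fun h => hη₀B (by rwa [hinner t h] at ht)
    set B' : Set (IrrCharacter (alternatingGroup (Fin n))) := {θ | BlocksNormal.conjIrr (alternatingGroup (Fin n)) t θ ∈ B} with hB'def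
    have hB' : IsPBlock M B' := BlocksNormal.isPBlock_conjIrr_preimage (alternatingGroup (Fin n)) hM hB t
    have hdisj : ∀ θ, θ ∈ B → θ ∉ B' := fun θ h h' =>
      hη₀B (by rw [Blocks.isPBlock_eq_of_mem hM hB hB' h h']; exact ht)
    have hind : Blocks.blockInd (overSet b₀)
        = Blocks.blockInd B + Blocks.blockInd B' := by
      funext θ
      rw [Pi.add_apply]
      by_cases hθ : θ ∈ B
      · rw [Blocks.blockInd_of_mem hθ, Blocks.blockInd_of_notMem (hdisj θ hθ),
          Blocks.blockInd_of_mem (hBO hθ), add_zero]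
      rw [Blocks.blockInd_of_notMem hθ, zero_add]
      by_cases hθ' : θ ∈ overSet b₀
      · obtain ⟨u, hu⟩ := hover' θ hθ'
        have huA : u ∉ (alternatingGroup (Fin n)) := fun h => hθ (by rwa [hinner u h] at hu)
        have hut : t * u⁻¹ ∈ (alternatingGroup (Fin n)) := by
          rw [Equiv.Perm.mem_alternatingGroup, map_mul, map_inv]
          rw [Equiv.Perm.mem_alternatingGroup] at htA huA
          rcases Int.units_eq_one_or (Equiv.Perm.sign t) with h | h
          · exact absurd h htA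
          rcases Int.units_eq_one_or (Equiv.Perm.sign u) with h' | h'
          · exact absurd h' huA
          rw [h, h']
          simp
        have : θ ∈ B' := by
          show BlocksNormal.conjIrr (alternatingGroup (Fin n)) t θ ∈ B
          rw [← inv_mul_cancel_right t u, BlocksNormal.conjIrr_mul, hinner _ hut]
          exact hu
        rw [Blocks.blockInd_of_mem hθ', Blocks.blockInd_of_mem this]
      · rw [Blocks.blockInd_of_notMem hθ', Blocks.blockInd_of_notMem]
        intro h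
        obtain ⟨φ, hφ, hφθ⟩ := hBO h
        exact hθ' ⟨φ, hφ, by rwa [resA, show LinearMap.funLeft ℂ ℂ Subtype.val
          (φ : Equiv.Perm (Fin n) → ℂ) = fun a : (alternatingGroup (Fin n)) => (φ : Equiv.Perm (Fin n) → ℂ) a from rfl,
          BlocksNormal.constituent_conjIrr] at hφθ⟩
    rw [hind, Blocks.ofOmega_add, Pi.add_apply]
    refine Blocks.memI_add hM ?_ ?_
    · rw [← Blocks.blockCoeff_eq_ofOmega]
      exact hcon ⟨g, hgA⟩ ⟨1, by simp⟩
    · have := Fintype.ofFinite (IrrCharacter (alternatingGroup (Fin n)))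
      let cj : IrrCharacter (alternatingGroup (Fin n)) ≃ IrrCharacter (alternatingGroup (Fin n)) :=
        ⟨BlocksNormal.conjIrr (alternatingGroup (Fin n)) t, BlocksNormal.conjIrr (alternatingGroup (Fin n)) t⁻¹,
          fun θ => by rw [← BlocksNormal.conjIrr_mul, inv_mul_cancel, BlocksNormal.conjIrr_one],
          fun θ => by rw [← BlocksNormal.conjIrr_mul, mul_inv_cancel, BlocksNormal.conjIrr_one]⟩
      have h2 : Blocks.ofOmega (Blocks.blockInd B') ⟨g, hgA⟩
          = Blocks.ofOmega (Blocks.blockInd B) (MulAut.conjNormal t ⟨g, hgA⟩) := by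
        rw [Blocks.ofOmega_eq_sum, Blocks.ofOmega_eq_sum]
        congr 1
        refine Fintype.sum_equiv cj _ _ fun θ => ?_
        have hv : ∀ a, (cj θ : (alternatingGroup (Fin n)) → ℂ) a = (θ : (alternatingGroup (Fin n)) → ℂ) (MulAut.conjNormal t⁻¹ a) := fun _ => rfl
        rw [hv, hv, map_one]
        congr 2
        refine congrArg _ (Subtype.ext ?_)
        simp 
      rw [h2, ← Blocks.blockCoeff_eq_ofOmega]
      exact hcon _ ⟨t, MulAut.conjNormal_apply t ⟨g, hgA⟩⟩
  obtain ⟨a, ⟨u, hu⟩, ha⟩ := hbad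
  refine ⟨m, e.trans u, a, ha, fun z => ?_⟩
  show (a : Equiv.Perm (Fin n)) (u (e (Sum.inl z))) = u (e (Sum.inl z))
  rw [hu, Equiv.Perm.mul_apply, Equiv.Perm.mul_apply,
    show u⁻¹ (u (e (Sum.inl z))) = e (Sum.inl z) from u.symm_apply_apply _, hfix]

/-- For `p = 2`, a defect group contains the four-groups on the support of the weight. -/
theorem exists_weight_subgroup_alt_two {M : Ideal AlgInt} (hM : IsPModular 2 M)
    (hn : n ≤ N) {B : Set (IrrCharacter (alternatingGroup (Fin n)))}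
    (hB : IsPBlock M B) {ξ : IrrCharacter (alternatingGroup (Fin n))} (hξ : ξ ∈ B)
    {ψ : IrrCharacter (Equiv.Perm (Fin n))}
    (hover : classInner (resA n (ψ : Equiv.Perm (Fin n) → ℂ))
      (ξ : alternatingGroup (Fin n) → ℂ) ≠ 0)
    {α : Fin N → ℕ} (hα : α ∈ lev N n) (hne : coef N α ψ ≠ 0) {w : ℕ}
    (hw : ∑ i, α i = (∑ i, core0 2 α i) + 2 * w) :
    ∃ E D' : Subgroup (alternatingGroup (Fin n)), IsDefectGroup 2 M B D' ∧ E ≤ D' ∧
      IsMulCommutative E ∧ (∀ a ∈ E, a ^ 2 = 1) ∧ Nat.card E = 2 ^ (2 * (w / 2)) := by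
  classical
  have : Fact (Nat.Prime 2) := ⟨hM.1⟩
  obtain ⟨m, e, a, ha, hfix⟩ := exists_fix_alt_two hM hn hB hξ hover hα hne hw
  let q := w / 2
  let ι : Fin q × (ZMod 2 × ZMod 2) ↪ Fin n :=
    ⟨fun a => e (Sum.inl (⟨2 * (a.1 : ℕ) + a.2.1.val, by
        have h1 := a.1.isLt
        have h2 := ZMod.val_lt a.2.1
        omega⟩, a.2.2)), fun a b h => by
      have h1 := Sum.inl_injective (e.injective h)
      rw [Prod.mk.injEq, Fin.mk.injEq] at h1
      have ha := ZMod.val_lt a.2.1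
      have hb' := ZMod.val_lt b.2.1
      exact Prod.ext (Fin.ext (by omega)) (Prod.ext (ZMod.val_injective 2 (by omega)) h1.2)⟩
  let φ : Multiplicative (Fin q → ZMod 2 × ZMod 2) →* (alternatingGroup (Fin n)) :=
    (fourHom ι).codRestrict (alternatingGroup (Fin n)) (fourHom_mem ι)
  have hφ : ∀ f, ((φ f : (alternatingGroup (Fin n))) : Equiv.Perm (Fin n)) = fourHom ι f := fun _ => rfl
  have hφinj : Function.Injective φ := fun f g h => fourHom_injective ι (congrArg Subtype.val h)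
  have haι : ∀ b, (a : Equiv.Perm (Fin n)) (ι b) = ι b := fun b => hfix _
  have hEp : IsPGroup 2 φ.range := by
    refine fun x => ⟨1, Subtype.ext ?_⟩
    obtain ⟨f, hf⟩ := x.2
    rw [Subgroup.coe_pow, pow_one, ← hf]
    exact Subtype.ext (by rw [Subgroup.coe_pow, hφ, fourHom_pow]; rfl)
  have hEa : φ.range ≤ Subgroup.centralizer ({a} : Set (alternatingGroup (Fin n))) := by
    rintro _ ⟨f, rfl⟩
    exact SecondMain.commute_iff_mem_centralizer_singleton.mpr
      (Subtype.ext (commute_fourHom ι haι f).symm.eq)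
  obtain ⟨D', hD', hle'⟩ := exists_defect_ge hM hB hEp hEa ha
  refine ⟨φ.range, D', hD', hle', ⟨⟨fun x y => ?_⟩⟩, fun x hx => ?_, ?_⟩
  · obtain ⟨f, hf⟩ := x.2
    obtain ⟨f', hf'⟩ := y.2
    exact Subtype.ext (by rw [Subgroup.coe_mul, Subgroup.coe_mul, ← hf, ← hf', ← map_mul, ← map_mul,
      mul_comm])
  · obtain ⟨f, rfl⟩ := hx
    exact Subtype.ext (by rw [Subgroup.coe_pow, hφ, fourHom_pow]; rfl)
  · rw [← Nat.card_congr (MonoidHom.ofInjective hφinj).toEquiv, Nat.card_eq_fintype_card,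
      Fintype.card_multiplicative, Fintype.card_fun, Fintype.card_prod, ZMod.card, Fintype.card_fin,
      pow_mul]
    rfl

end Cfsg.Agent.SymBlocks
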