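import Cfsg.Agent.Lib.SymBlocks.AltDefect
import Cfsg.Agent.S4534
import Cfsg.Agent.Lib.Char.PRegular

/-!
# Sectional rank, weight zero at `p = 2`, and generators of the regular parts
-/

set_option autoImplicit false

open Finset
open scoped ComplexConjugate

namespace Cfsg.Agent.SymBlocks

open Cfsg

variable {N n p : ℕ}

/-- An elementary abelian subgroup of some defect group bounds the sectional rank from below. -/
theorem rank_le_of_subgroup {G : Type*} [Group G] [Finite G] [Fact p.Prime] {M : Ideal AlgInt}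
    (hM : IsPModular p M) {B : Set (IrrCharacter G)} (hB : IsPBlock M B) {D : Subgroup G}
    (hD : IsDefectGroup p M B D) {s : ℕ} (hs : SectionalPRankLE p s D) {r : ℕ}
    (h : ∃ E D' : Subgroup G, IsDefectGroup p M B D' ∧ E ≤ D' ∧ IsMulCommutative E ∧
      (∀ a ∈ E, a ^ p = 1) ∧ Nat.card E = p ^ r) : r ≤ s := by
  obtain ⟨E, D', hD', hED, hcomm, hexp, hcard⟩ := h
  obtain ⟨g, hg⟩ := Blocks.isDefectGroup_conj_eq hM hB hD' hD
  have hE' : Blocks.conjSub g E ≤ D := hg ▸ Blocks.conjSub_mono g hED
  refine (Nat.pow_le_pow_iff_right (Fact.out (p := p.Prime)).one_lt).mp ?_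
  have h1 := Cfsg.Agent.S4534.card_le_of_sectional hs ((Blocks.conjSub g E).subgroupOf D)
    ⟨⟨fun a b => ?_⟩⟩ ?_
  · rwa [Nat.card_congr (Subgroup.subgroupOfEquivOfLe hE').toEquiv, Blocks.card_conjSub, hcard] at h1
  · refine Subtype.ext (Subtype.ext ?_)
    obtain ha := Blocks.mem_conjSub.mp (Subgroup.mem_subgroupOf.mp a.2)
    obtain hb := Blocks.mem_conjSub.mp (Subgroup.mem_subgroupOf.mp b.2)
    have h2 := congrArg Subtype.val (hcomm.is_comm.comm ⟨_, ha⟩ ⟨_, hb⟩)
    simp only [Subgroup.coe_mul] at h2 ⊢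
    have h3 := congrArg (fun z => g * z * g⁻¹) h2
    simpa [mul_assoc] using h3
  · intro a ha
    have h2 := hexp _ (Blocks.mem_conjSub.mp (Subgroup.mem_subgroupOf.mp ha))
    have h3 : g⁻¹ * (a : G) * g = g⁻¹ * (a : G) * g⁻¹⁻¹ := by rw [inv_inv]
    rw [h3, conj_pow, conj_eq_one_iff] at h2
    exact Subtype.ext h2

/-- A nontrivial `p`-group has sectional rank at least one. -/
theorem one_le_of_ne_bot {G : Type*} [Group G] [Finite G] [hpf : Fact p.Prime] {D : Subgroup G}
    (hDp : IsPGroup p D) (hD1 : D ≠ ⊥) {s : ℕ} (hs : SectionalPRankLE p s D) : 1 ≤ s := by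
  have hp := hpf.out
  have : Nontrivial D := (Subgroup.nontrivial_iff_ne_bot D).mpr hD1
  obtain ⟨x, hx⟩ := exists_prime_orderOf_dvd_card' (G := D) p (by
    obtain ⟨k, hk⟩ := hDp.exists_card_eq
    rw [hk]
    refine dvd_pow_self p fun h0 => ?_
    rw [h0, pow_zero] at hk
    exact absurd hk (Finite.one_lt_card (α := D)).ne')
  have h1 := Cfsg.Agent.S4534.card_le_of_sectional hs (Subgroup.zpowers x) inferInstance
    fun a ha => by
      obtain ⟨i, rfl⟩ := Subgroup.mem_zpowers_iff.mp ha
      have h4 : x ^ p = 1 := orderOf_dvd_iff_pow_eq_one.mp hx.dvd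
      rw [← zpow_natCast, ← zpow_mul, mul_comm, zpow_mul, zpow_natCast, h4, one_zpow]
  rw [Nat.card_zpowers, hx] at h1
  by_contra h0
  rw [Nat.lt_one_iff.mp (not_le.mp h0), pow_zero] at h1
  exact absurd h1 (not_le.mpr hp.one_lt)

/-- At weight zero a character of the alternating group under a core character vanishes on the
`2`-singular elements. -/
theorem apply_eq_zero_of_weight_zero (hn : n ≤ N) {ξ : IrrCharacter (alternatingGroup (Fin n))}
    {ψ : IrrCharacter (Equiv.Perm (Fin n))}
    (hover : classInner (resA n (ψ : Equiv.Perm (Fin n) → ℂ))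
      (ξ : alternatingGroup (Fin n) → ℂ) ≠ 0)
    {α : Fin N → ℕ} (hα : α ∈ lev N n) (hne : coef N α ψ ≠ 0)
    (hw : ∑ i, α i = ∑ i, core0 2 α i) (y : alternatingGroup (Fin n)) (hy : 2 ∣ orderOf y) :
    (ξ : alternatingGroup (Fin n) → ℂ) y = 0 := by
  classical
  have := Fintype.ofFinite (IrrCharacter (alternatingGroup (Fin n)))
  have hinj : Function.Injective α := by
    by_contra hn'
    refine hne ?_
    rw [coef, show (chi N α : Equiv.Perm (Fin n) → ℂ) = 0 from
      funext fun σ => (anti_vM _).zero_of_not_injective hn']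
    simp [classInner]
  have he : core0 2 α = α := funext fun i => (Finset.sum_eq_sum_iff_of_le
    (fun i _ => core0_le hinj i)).mp hw.symm i (Finset.mem_univ i)
  rw [← Subgroup.orderOf_coe] at hy
  obtain ⟨a, ha, hd⟩ := (dvd_orderOf_iff Nat.prime_two _).mp hy
  have hψy : (ψ : Equiv.Perm (Fin n) → ℂ) y = 0 := by
    have h := congrFun (chi_eq_coef_smul hn hα hne) (y : Equiv.Perm (Fin n))
    rw [chi, ← he, vM_core_eq_zero (not_movable_core0 two_pos hinj) ha (parts_pos _ ha) hd, he,
      Pi.smul_apply, smul_eq_mul] at h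
    exact (mul_eq_zero.mp h.symm).resolve_left hne
  -- an odd permutation commuting with `y`
  obtain ⟨c, hcy, hcA⟩ : ∃ c : Equiv.Perm (Fin n), Commute c (y : Equiv.Perm (Fin n)) ∧
      c ∉ alternatingGroup (Fin n) := by
    have ha' : a ∈ (y : Equiv.Perm (Fin n)).cycleType := by
      rw [Equiv.Perm.parts_partition, Multiset.mem_add] at ha
      rcases ha with ha | ha
      · exact ha
      · rw [Multiset.eq_of_mem_replicate ha] at hd
        omega
    rw [Equiv.Perm.cycleType_def, Multiset.mem_map] at ha'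
    obtain ⟨c, hc0, hca⟩ := ha'
    have hc : c ∈ (y : Equiv.Perm (Fin n)).cycleFactorsFinset := hc0
    refine ⟨c, Equiv.Perm.self_mem_cycle_factors_commute hc, fun hA => ?_⟩
    rw [Equiv.Perm.mem_alternatingGroup,
      (Equiv.Perm.mem_cycleFactorsFinset_iff.mp hc).1.sign] at hA
    obtain ⟨j, rfl⟩ := hd
    simp only [Function.comp_apply] at hca
    rw [hca, pow_mul, Int.units_pow_two] at hA
    simp at hA
  have hsame : ∀ η : IrrCharacter (alternatingGroup (Fin n)),
      classInner (resA n (ψ : Equiv.Perm (Fin n) → ℂ)) (η : alternatingGroup (Fin n) → ℂ) ≠ 0 →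
      (η : alternatingGroup (Fin n) → ℂ) y = (ξ : alternatingGroup (Fin n) → ℂ) y := by
    intro η hη
    obtain ⟨t, ht⟩ := CliffordChar.constituents_conjugate (alternatingGroup (Fin n)) ψ.2 ξ.2 η.2
      hover hη
    rw [← congrFun ht y, CliffordChar.conjFun]
    refine Blocks.classFunction_eq_of_isConj (Char.IsIrrCharacter.isClassFunction ξ.2) ?_
    by_cases htA : t ∈ alternatingGroup (Fin n)
    · refine isConj_iff.mpr ⟨⟨t, htA⟩, Subtype.ext ?_⟩
      simp [mul_assoc]
    · have htc : c⁻¹ * t ∈ alternatingGroup (Fin n) := by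
        rw [Equiv.Perm.mem_alternatingGroup] at htA hcA ⊢
        rcases Int.units_eq_one_or (Equiv.Perm.sign t) with h | h
        · exact absurd h htA
        rcases Int.units_eq_one_or (Equiv.Perm.sign c) with h' | h'
        · exact absurd h' hcA
        rw [map_mul, map_inv, h, h']
        simp
      refine isConj_iff.mpr ⟨⟨c⁻¹ * t, htc⟩, Subtype.ext ?_⟩
      simp only [Subgroup.coe_mul, Subgroup.coe_inv, MulAut.conjNormal_apply, mul_inv_rev, inv_inv]
      have h3 : c⁻¹ * (y : Equiv.Perm (Fin n)) * c = y := by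
        rw [mul_assoc, ← hcy.eq, ← mul_assoc, inv_mul_cancel, one_mul]
      simpa [mul_assoc] using h3
  have hexp := congrFun (Char.classFunction_eq_sum
    (Char.IsCharacter.isClassFunction (isCharacter_resA ψ))) y
  rw [resA_apply, hψy, Finset.sum_apply] at hexp
  have hterm : ∀ η : IrrCharacter (alternatingGroup (Fin n)),
      classInner (resA n (ψ : Equiv.Perm (Fin n) → ℂ)) (η : alternatingGroup (Fin n) → ℂ)
        • (η : alternatingGroup (Fin n) → ℂ) y
      = classInner (resA n (ψ : Equiv.Perm (Fin n) → ℂ)) (η : alternatingGroup (Fin n) → ℂ)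
        * (ξ : alternatingGroup (Fin n) → ℂ) y := by
    intro η
    by_cases h0 : classInner (resA n (ψ : Equiv.Perm (Fin n) → ℂ))
        (η : alternatingGroup (Fin n) → ℂ) = 0
    · simp [h0]
    · rw [smul_eq_mul, hsame η h0]
  simp only [Pi.smul_apply, hterm, ← Finset.sum_mul] at hexp
  refine (mul_eq_zero.mp hexp.symm).resolve_left fun hz => hover ?_
  choose m hm using fun η : IrrCharacter (alternatingGroup (Fin n)) =>
    Char.IsCharacter.classInner_nat (isCharacter_resA ψ) (Char.IsIrrCharacter.isCharacter η.2)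
  simp only [hm] at hz
  rw [← Nat.cast_sum, Nat.cast_eq_zero] at hz
  rw [hm, Finset.sum_eq_zero_iff.mp hz ξ (Finset.mem_univ _), Nat.cast_zero]

/-- A character vanishing on the singular elements has trivial defect. -/
theorem defect_eq_bot_of_vanishing {G : Type*} [Group G] [Finite G] [hpf : Fact p.Prime]
    {M : Ideal AlgInt} (hM : IsPModular p M) {B : Set (IrrCharacter G)} (hB : IsPBlock M B)
    {χ : IrrCharacter G} (hχ : χ ∈ B) (hv : ∀ y, p ∣ orderOf y → (χ : G → ℂ) y = 0)
    {D : Subgroup G} (hD : IsDefectGroup p M B D) : D = ⊥ := by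
  classical
  have hp := hpf.out
  have := Fintype.ofFinite G
  obtain ⟨k, hk⟩ := Char.dvd_apply_one_of_vanishing hp
    (Char.isGeneralizedCharacter_of_isCharacter (Char.IsIrrCharacter.isCharacter χ.2)) hv
  rw [← Blocks.charDegree_cast χ] at hk
  have hd : p ^ (Nat.card G).factorization p ∣ charDegree (χ : G → ℂ) := by
    have hk' : ((charDegree (χ : G → ℂ) : ℕ) : ℤ)
        = ((p ^ (Nat.card G).factorization p : ℕ) : ℤ) * k := by
      exact_mod_cast hk
    exact Int.natCast_dvd_natCast.1 ⟨k, hk'⟩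
  have hsingle := (Blocks.singleton_iff_not_dvd hM χ).1 fun hdiv => by
    have h1 : p ^ ((Nat.card G).factorization p + 1) ∣ Nat.card G := by
      rw [pow_succ]
      exact (mul_dvd_mul hd hdiv).trans (Nat.mul_div_cancel' (Blocks.charDegree_dvd_card χ)).dvd
    have := (hp.pow_dvd_iff_le_factorization Nat.card_pos.ne').1 h1
    omega
  have hBeq : B = {χ} := (Blocks.isPBlock_eq_blockOf hM hB hχ).trans hsingle
  have hle := (hp.pow_dvd_iff_le_factorization (Blocks.charDegree_pos χ).ne').mp hd
  rw [← Subgroup.card_eq_one, Blocks.card_defectGroup hM hB hD, hBeq, blockDefect,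
    Set.image_singleton, csInf_singleton, Nat.sub_eq_zero_of_le hle, pow_zero]

/-- The generators of the regular parts, restricted. -/
theorem resA_chi_mem (hp : p.Prime) (hn : n ≤ N) {α₀ : Fin N → ℕ} {w : ℕ}
    (hs : ∑ i, α₀ i = stair N + n) (hw : ∑ i, α₀ i = (∑ i, core0 p α₀ i) + p * w)
    {β : Fin N → ℕ} (hcβ : cnt p β = cnt p α₀) :
    resA n (pRegularPart p (chi N β)) ∈ Submodule.span ℂ
      ((fun S => resA n (pRegularPart p (chi N (tupleOf N S)))) ''
        (exactSets p α₀ w : Set (Finset ℕ))) := by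
  have h := Submodule.mem_map_of_mem (f := resA n) (pRegularPart_chi_mem (n := n) hp hn hs hw hcβ)
  rw [Submodule.map_span, Set.image_image] at h
  exact h

end Cfsg.Agent.SymBlocks
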