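import Cfsg.Agent.Lib.SymBlocks.Fixed
import Cfsg.Agent.Lib.Blocks.HeightZeroValues

/-!
# One block for every core

`mem_block_of_coreSet`: characters of the symmetric group with the same core lie in the same block
(the converse half of Nakayama's conjecture).
-/

set_option autoImplicit false

open Finset
open scoped ComplexConjugate

namespace Cfsg.Agent.SymBlocks

open Cfsg

variable {N n p : ℕ}

/-- A central character only sees the classes where it is a unit. -/
theorem memI_omega_of {G : Type*} [Group G] [Finite G] {M : Ideal AlgInt} (hM : IsPModular p M)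
    {z : G → ℂ} (hz : IsClassFunction G z) (hR : ∀ g, MemLocalRing M (z g)) (χ : IrrCharacter G)
    (h : ∀ g, ¬ MemLocalIdeal M (centralChar (χ : G → ℂ) g) → MemLocalIdeal M (z g)) :
    MemLocalIdeal M (Blocks.omega (χ : G → ℂ) z) := by
  have := Fintype.ofFinite (ConjClasses G)
  rw [Blocks.omega_eq_sum_classes hz χ]
  refine Blocks.memI_sum hM _ fun q _ => ?_
  by_cases hu : MemLocalIdeal M (centralChar (χ : G → ℂ) (Quotient.out q))
  · exact Blocks.memI_mul_left hM (hR _) hu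
  · exact Blocks.memI_mul_right hM (h _ hu) (Blocks.memR_centralChar hM χ _)

theorem injective_of_coef {α : Fin N → ℕ} {ψ : IrrCharacter (Equiv.Perm (Fin n))}
    (hne : coef N α ψ ≠ 0) : Function.Injective α := by
  by_contra hn'
  refine hne ?_
  rw [coef, show (chi N α : Equiv.Perm (Fin n) → ℂ) = 0 from
    funext fun σ => (anti_vM _).zero_of_not_injective hn']
  simp [classInner]

theorem cntS_core_down (hp : 0 < p) {α : Fin N → ℕ} (hα : Function.Injective α) (r : ℕ) :
    Down p (Finset.univ.image (core0 p α)) r := by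
  have hinj := core0_injective hp hα
  refine down_of_sum_eq hp hα ?_ ?_ r
  · rw [cntS_image hinj, cnt_core0]
  · rw [Finset.sum_image hinj.injOn]

/-- Two tuples of one core have the same core tuple up to order. -/
theorem exists_core_perm (hp : 0 < p) {α β : Fin N → ℕ} (hα : Function.Injective α)
    (hβ : Function.Injective β) (hc : cnt p α = cnt p β) :
    ∃ π : Equiv.Perm (Fin N), core0 p α = core0 p β ∘ π := by
  have ha := core0_injective hp hα
  have hb := core0_injective hp hβ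
  have himg : Finset.univ.image (core0 p α) = Finset.univ.image (core0 p β) :=
    eq_of_down hp (cntS_core_down hp hα) (cntS_core_down hp hβ) (by
      rw [cntS_image ha, cntS_image hb, cnt_core0, cnt_core0, hc])
  have hex : ∀ i, ∃ j, core0 p β j = core0 p α i := fun i => by
    have h1 : core0 p α i ∈ Finset.univ.image (core0 p β) :=
      himg ▸ Finset.mem_image_of_mem _ (Finset.mem_univ i)
    obtain ⟨j, -, hj⟩ := Finset.mem_image.mp h1
    exact ⟨j, hj⟩
  choose π hπ using hex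
  have hbij : Function.Bijective π := Finite.injective_iff_bijective.mp fun a b h =>
    ha (by rw [← hπ a, ← hπ b, h])
  exact ⟨Equiv.ofBijective π hbij, funext fun i => (hπ i).symm⟩

variable [hpf : Fact p.Prime] {M : Ideal AlgInt}

/-- On `w` cycles times a permutation of the rest all characters of a core are proportional. -/
theorem value_cycles (hn : n ≤ N) {β : Fin N → ℕ} (hβi : Function.Injective β) {γ : Fin N → ℕ}
    (hγ : γ ∈ lev N n) {φ : IrrCharacter (Equiv.Perm (Fin n))} (hne : coef N γ φ ≠ 0)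
    (hc : cnt p γ = cnt p β) {w : ℕ} (hw : ∑ i, γ i = (∑ i, core0 p γ i) + p * w) :
    ∃ κ : ℂ, ∀ {m : ℕ} (e : (Fin w × ZMod p) ⊕ Fin m ≃ Fin n) (y : Equiv.Perm (Fin m)),
      (φ : Equiv.Perm (Fin n) → ℂ) (cyclesElt e * onRest e y)
        = κ * vM N y.partition.parts (core0 p β) := by
  have : NeZero p := ⟨hpf.out.ne_zero⟩
  have hγi := injective_of_coef hne
  obtain ⟨P, -, hPf⟩ := paths hpf.out.pos w hγi hw
  obtain ⟨π, hπ⟩ := exists_core_perm hpf.out.pos hγi hβi hc
  refine ⟨(coef N γ φ)⁻¹ * (P : ℂ) * ((Equiv.Perm.sign π : ℤ) : ℂ), fun e y => ?_⟩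
  have h := congrFun (chi_eq_coef_smul hn hγ hne) (cyclesElt e * onRest e y)
  rw [Pi.smul_apply, smul_eq_mul, chi, parts_cycles_mul, vM_replicate_add, hPf _ (anti_vM _), hπ,
    anti_vM _ (core0 p β) π] at h
  rw [mul_assoc, mul_assoc, h, inv_mul_cancel_left₀ hne]

/-- Classes seen by a block centralise the cycles, so fix their support. -/
theorem exists_fix_conj (hM : IsPModular p M) {B : Set (IrrCharacter (Equiv.Perm (Fin n)))}
    (hB : IsPBlock M B) {χ : IrrCharacter (Equiv.Perm (Fin n))} (hχ : χ ∈ B) {w m : ℕ}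
    (e : (Fin w × ZMod p) ⊕ Fin m ≃ Fin n) {g₀ : Equiv.Perm (Fin n)}
    (hg₀ : ¬ MemLocalIdeal M (blockCoeff B g₀)) (hE : ∀ f, Commute g₀ (cyclesHom e f))
    {g : Equiv.Perm (Fin n)} (hg : ¬ p ∣ orderOf g)
    (hu : ¬ MemLocalIdeal M (centralChar (χ : Equiv.Perm (Fin n) → ℂ) g)) :
    ∃ (x : Equiv.Perm (Fin n)) (y : Equiv.Perm (Fin m)), x * g * x⁻¹ = onRest e y := by
  have : NeZero p := ⟨hpf.out.ne_zero⟩
  have hEp : IsPGroup p (cyclesHom e).range := by
    refine fun z => ⟨1, Subtype.ext ?_⟩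
    obtain ⟨f, hf⟩ := z.2
    rw [Subgroup.coe_pow, pow_one, ← hf, cyclesHom_pow]
    rfl
  obtain ⟨D, hD⟩ := Blocks.sylowIn_exists p (Subgroup.centralizer ({g} : Set (Equiv.Perm (Fin n))))
  obtain ⟨x, hx⟩ := Blocks.minmax hM hB hχ hu hg₀ hEp
    (Blocks.le_centralizer_singleton.mpr (by
      rintro _ ⟨f, rfl⟩
      exact (hE f).symm)) hD
  have hcomm : ∀ f, Commute (x * g * x⁻¹) (cyclesHom e f) := by
    intro f
    have h1 := Blocks.mem_centralizer_singleton.mp
      (Blocks.sylowIn_le hD (Blocks.mem_conjSub.mp (hx ⟨f, rfl⟩)))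
    have h2 : x * (x⁻¹ * cyclesHom e f * x) * x⁻¹ = cyclesHom e f := by group
    rw [← h2]
    exact (show Commute _ _ from h1.symm).map (MulAut.conj x).toMonoidHom
  have hreg : ¬ p ∣ orderOf (x * g * x⁻¹) := by
    rwa [show x * g * x⁻¹ = MulAut.conj x g from rfl, MulEquiv.orderOf_eq]
  refine ⟨x, exists_onRest e fun a => ?_⟩
  by_cases h3 : p = 2 → 3 ≤ w
  · exact apply_eq_of_commute_even e hreg h3 (fun f _ => hcomm f) a
  · push Not at h3
    obtain ⟨rfl, -⟩ := h3
    exact apply_eq_of_commute_cycles e hreg hcomm a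

/-- The defect class of a block, on the remaining points, with a unit value. -/
theorem exists_unit_rest (hM : IsPModular p M) (hn : n ≤ N)
    {B : Set (IrrCharacter (Equiv.Perm (Fin n)))} (hB : IsPBlock M B)
    {η : IrrCharacter (Equiv.Perm (Fin n))} (hη : η ∈ B)
    (h0 : blockHeight p B (η : Equiv.Perm (Fin n) → ℂ) = 0) {β : Fin N → ℕ} (hβ : β ∈ lev N n)
    (hne : coef N β η ≠ 0) {w : ℕ} (hw : ∑ i, β i = (∑ i, core0 p β i) + p * w) :
    ∃ (m : ℕ) (e : (Fin w × ZMod p) ⊕ Fin m ≃ Fin n) (g₀ : Equiv.Perm (Fin n))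
      (y₀ : Equiv.Perm (Fin m)), ¬ MemLocalIdeal M (blockCoeff B g₀) ∧
      (∀ f, Commute g₀ (cyclesHom e f)) ∧
      ¬ MemLocalIdeal M ((η : Equiv.Perm (Fin n) → ℂ) (cyclesElt e * onRest e y₀)) := by
  have : NeZero p := ⟨hpf.out.ne_zero⟩
  obtain ⟨m, e, D', hD', hle⟩ := exists_cycles_le_defect hM hn hB hη hβ hne hw
  obtain ⟨g₀, hg₀, hgD⟩ := hD'
  have hcomm : ∀ f, Commute g₀ (cyclesHom e f) := fun f =>
    (Blocks.mem_centralizer_singleton.mp (Blocks.sylowIn_le hgD (hle ⟨f, rfl⟩))).symm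
  have hreg := Blocks.pRegular_of_blockCoeff hM hB hg₀.2.1
  obtain ⟨y₀, hy₀⟩ := exists_onRest e fun a => by
    by_cases h3 : p = 2 → 3 ≤ w
    · exact apply_eq_of_commute_even e hreg h3 (fun f _ => hcomm f) a
    · push Not at h3
      obtain ⟨rfl, -⟩ := h3
      exact apply_eq_of_commute_cycles e hreg hcomm a
  refine ⟨m, e, g₀, y₀, hg₀.2.1, hcomm, ?_⟩
  rw [← hy₀]
  refine Blocks.not_memI_apply_of_height_zero hM hB hg₀ hη h0 ?_ (hcomm _).symm
  rcases hpf.out.eq_one_or_self_of_dvd _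
    (orderOf_dvd_of_pow_eq_one (cyclesHom_pow e _) : orderOf (cyclesElt e) ∣ p) with h | h
  · exact ⟨0, by rw [h, pow_zero]⟩
  · exact ⟨1, by rw [h, pow_one]⟩

/-- Characters with the same core lie in the same block. -/
theorem mem_block_of_coreSet (hM : IsPModular p M) (hn : n ≤ N)
    {B : Set (IrrCharacter (Equiv.Perm (Fin n)))} (hB : IsPBlock M B)
    {ψ : IrrCharacter (Equiv.Perm (Fin n))} (hψ : ψ ∈ B) {c : ℕ → ℕ}
    (hψc : ψ ∈ coreSet (n := n) N p c) {φ : IrrCharacter (Equiv.Perm (Fin n))}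
    (hφc : φ ∈ coreSet (n := n) N p c) : φ ∈ B := by
  have : NeZero p := ⟨hpf.out.ne_zero⟩
  have hp := hpf.out.pos
  set B' := blockOf M (φ : Equiv.Perm (Fin n) → ℂ) with hB'def
  have hB' : IsPBlock M B' := ⟨φ, rfl⟩
  have hφB' : φ ∈ B' := Blocks.mem_blockOf_self hM φ
  obtain ⟨η, hη, hη0⟩ := Blocks.exists_blockHeight_eq_zero p (Blocks.isPBlock_nonempty hM hB)
  obtain ⟨ξ, hξ, hξ0⟩ := Blocks.exists_blockHeight_eq_zero p (Blocks.isPBlock_nonempty hM hB')
  have hcore : ∀ {C : Set (IrrCharacter (Equiv.Perm (Fin n)))}, IsPBlock M C →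
      ∀ {χ χ' : IrrCharacter (Equiv.Perm (Fin n))}, χ ∈ C → χ' ∈ C →
      χ ∈ coreSet (n := n) N p c → χ' ∈ coreSet (n := n) N p c := by
    rintro C hC χ χ' hχ hχ' ⟨α, hα, hne, rfl⟩
    exact cnt_eq_of_mem_block hM hn hC hχ hχ' hα hne
  obtain ⟨β, hβ, hβne, hβc⟩ := hcore hB hψ hη hψc
  obtain ⟨γ, hγ, hγne, hγc⟩ := hcore hB' hφB' hξ hφc
  have hβi := injective_of_coef hβne
  have hγi := injective_of_coef hγne
  obtain ⟨w, hw⟩ := exists_weight (p := p) hβi
  have hwγ : ∑ i, γ i = (∑ i, core0 p γ i) + p * w := by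
    rw [mem_lev.mp hγ, ← mem_lev.mp hβ, hw, sum_core0_eq hp hγi hβi (hγc.trans hβc.symm)]
  obtain ⟨m, e, g₀, y₀, hg₀, hE, hu⟩ := exists_unit_rest hM hn hB hη hη0 hβ hβne hw
  obtain ⟨m', e', g₀', y₀', -, -, hv'⟩ := exists_unit_rest hM hn hB' hξ hξ0 hγ hγne hwγ
  obtain ⟨κη, hκη⟩ := value_cycles hn hβi hβ hβne rfl hw
  obtain ⟨κξ, hκξ⟩ := value_cycles hn hβi hγ hγne (hγc.trans hβc.symm) hwγ
  set u := (η : Equiv.Perm (Fin n) → ℂ) (cyclesElt e * onRest e y₀) with hudef
  set v := (ξ : Equiv.Perm (Fin n) → ℂ) (cyclesElt e * onRest e y₀) with hvdef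
  have hR : ∀ (χ : IrrCharacter (Equiv.Perm (Fin n))) (g : Equiv.Perm (Fin n)),
      MemLocalRing M ((χ : Equiv.Perm (Fin n) → ℂ) g) := fun χ g =>
    Blocks.memR_of_isIntegral hM (Blocks.isIntegral_irr χ g)
  have hv : ¬ MemLocalIdeal M v := by
    intro hI
    refine Blocks.not_memI_mul hM (hR _ _) (hR _ _) hu hv' ?_
    have : u * (ξ : Equiv.Perm (Fin n) → ℂ) (cyclesElt e' * onRest e' y₀')
        = v * (η : Equiv.Perm (Fin n) → ℂ) (cyclesElt e' * onRest e' y₀') := by
      rw [hudef, hvdef, hκη, hκξ, hκη, hκξ]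
      ring
    rw [this]
    exact Blocks.memI_mul_right hM hI (hR _ _)
  by_contra hφ
  have hηB' : η ∉ B' := fun h => hφ (by rwa [Blocks.isPBlock_eq_of_mem hM hB hB' hη h])
  set z : Equiv.Perm (Fin n) → ℂ := u • Blocks.regConj p (ξ : Equiv.Perm (Fin n) → ℂ)
    - v • Blocks.regConj p (η : Equiv.Perm (Fin n) → ℂ) with hzdef
  have hz : IsClassFunction (Equiv.Perm (Fin n)) z := fun g h => by
    simp only [hzdef, Pi.sub_apply, Pi.smul_apply]
    rw [Blocks.isClassFunction_regConj (Blocks.irr_class ξ) g h,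
      Blocks.isClassFunction_regConj (Blocks.irr_class η) g h]
  have hzR : ∀ g, MemLocalRing M (z g) := fun g => Blocks.memR_sub hM
    (Blocks.memR_mul hM (hR _ _) (Blocks.memR_regConj hM ξ g))
    (Blocks.memR_mul hM (hR _ _) (Blocks.memR_regConj hM η g))
  have hzI := memI_omega_of hM hz hzR η fun g hg => by
    by_cases hreg : p ∣ orderOf g
    · have h0 : z g = 0 := by
        simp [hzdef, Blocks.regConj, pRegularPart, IsPRegular, hreg]
      rw [h0]
      exact Blocks.memI_zero hM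
    obtain ⟨x, y, hxy⟩ := exists_fix_conj hM hB hη e hg₀ hE hreg hg
    have hval : ∀ χ : IrrCharacter (Equiv.Perm (Fin n)),
        Blocks.regConj p (χ : Equiv.Perm (Fin n) → ℂ) g
          = (χ : Equiv.Perm (Fin n) → ℂ) (onRest e y) := by
      intro χ
      simp only [Blocks.regConj, pRegularPart, IsPRegular, hreg, not_false_eq_true, if_true,
        conj_irr hn χ]
      exact Blocks.classFunction_eq_of_isConj (Blocks.irr_class χ) (isConj_iff.mpr ⟨x, hxy⟩)
    have hx : ∃ k, orderOf (cyclesElt e) = p ^ k := by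
      rcases hpf.out.eq_one_or_self_of_dvd _
        (orderOf_dvd_of_pow_eq_one (cyclesHom_pow e _) : orderOf (cyclesElt e) ∣ p) with h | h
      · exact ⟨0, by rw [h, pow_zero]⟩
      · exact ⟨1, by rw [h, pow_one]⟩
    have hcy := (disjoint_cyclesElt_onRest e y).commute
    have hξI := Blocks.memI_apply_mul_sub hM (χ := ξ) hx hcy
    have hηI := Blocks.memI_apply_mul_sub hM (χ := η) hx hcy
    have hcross : u * (ξ : Equiv.Perm (Fin n) → ℂ) (cyclesElt e * onRest e y)
        = v * (η : Equiv.Perm (Fin n) → ℂ) (cyclesElt e * onRest e y) := by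
      rw [hudef, hvdef, hκη, hκξ, hκη, hκξ]
      ring
    have hz' : z g = v * ((η : Equiv.Perm (Fin n) → ℂ) (cyclesElt e * onRest e y)
          - (η : Equiv.Perm (Fin n) → ℂ) (onRest e y))
        - u * ((ξ : Equiv.Perm (Fin n) → ℂ) (cyclesElt e * onRest e y)
          - (ξ : Equiv.Perm (Fin n) → ℂ) (onRest e y)) := by
      simp only [hzdef, Pi.sub_apply, Pi.smul_apply, smul_eq_mul, hval]
      linear_combination hcross
    rw [hz']
    exact Blocks.memI_sub hM (Blocks.memI_mul_left hM (hR _ _) hηI)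
      (Blocks.memI_mul_left hM (hR _ _) hξI)
  have := Fintype.ofFinite (Equiv.Perm (Fin n))
  have hlin : Blocks.omega (η : Equiv.Perm (Fin n) → ℂ) z
      = u * Blocks.omega (η : Equiv.Perm (Fin n) → ℂ) (Blocks.regConj p (ξ : Equiv.Perm (Fin n) → ℂ))
        - v * Blocks.omega (η : Equiv.Perm (Fin n) → ℂ)
          (Blocks.regConj p (η : Equiv.Perm (Fin n) → ℂ)) := by
    simp only [Blocks.omega_eq_sum, hzdef, Pi.sub_apply, Pi.smul_apply, smul_eq_mul, sub_mul,
      Finset.sum_sub_distrib, sub_div, mul_assoc, ← Finset.mul_sum, mul_div_assoc]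
  rw [hlin, Blocks.omega_regConj_eq_zero hM hB' hξ hηB', mul_zero, zero_sub] at hzI
  have hωR := Blocks.memR_omega hM (Blocks.isClassFunction_regConj (Blocks.irr_class η))
    (Blocks.memR_regConj hM η) η
  exact Blocks.not_memI_mul hM (hR ξ _) hωR hv (Blocks.not_memI_omega_regConj hM hB hη hη0 hη)
    (by simpa using Blocks.memI_neg hzI)

end Cfsg.Agent.SymBlocks
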