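import Cfsg.Agent.Lib.SymBlocks.Height
import Cfsg.Agent.Lib.SymBlocks.AltRank
import Cfsg.Agent.Lib.SymBlocks.OneBlock

/-!
# Heights in blocks of alternating groups

`le_degree`, `blockDefect_eq`: the defect of a block of weight `w`; `exists_defect_equiv`: its defect
groups; `conj_mem`: blocks of positive weight are invariant in the symmetric group.
-/

set_option autoImplicit false

open Finset
open scoped ComplexConjugate

namespace Cfsg.Agent.SymBlocks

open Cfsg

variable {N n m p w : ℕ}

/-- The defect of a block of the alternating group of weight `w`. -/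
def eA (p w : ℕ) : ℕ := w + padicValNat p w.factorial - if p = 2 then 1 else 0

theorem eA_zero [Fact p.Prime] : eA p 0 = 0 := by simp [eA]

theorem factorization_card_alt [hp : Fact p.Prime] (hn2 : 2 ≤ n) :
    (Nat.card (alternatingGroup (Fin n))).factorization p + (if p = 2 then 1 else 0)
      = padicValNat p n.factorial := by
  have : Nontrivial (Fin n) := Fin.nontrivial_iff_two_le.mpr hn2
  have h := congrArg (padicValNat p) (two_mul_nat_card_alternatingGroup (α := Fin n))
  rw [padicValNat.mul two_ne_zero Nat.card_pos.ne', Nat.card_perm, Nat.card_fin] at h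
  rw [Nat.factorization_def _ hp.out, ← h, add_comm]
  congr 1
  split_ifs with h2
  · subst h2
    exact (padicValNat_self (p := 2)).symm
  · exact (padicValNat.eq_zero_of_not_dvd fun hd =>
      h2 ((Nat.prime_dvd_prime_iff_eq hp.out Nat.prime_two).mp hd)).symm

/-- A class commuting with an odd permutation is not split. -/
theorem apply_conjNormal_of_commute {η : IrrCharacter (alternatingGroup (Fin n))}
    {y : alternatingGroup (Fin n)} {c : Equiv.Perm (Fin n)}
    (hc : Commute c (y : Equiv.Perm (Fin n))) (hcA : c ∉ alternatingGroup (Fin n))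
    (t : Equiv.Perm (Fin n)) :
    (η : alternatingGroup (Fin n) → ℂ) (MulAut.conjNormal t y)
      = (η : alternatingGroup (Fin n) → ℂ) y := by
  refine (Blocks.classFunction_eq_of_isConj (Char.IsIrrCharacter.isClassFunction η.2) ?_).symm
  by_cases htA : t ∈ alternatingGroup (Fin n)
  · refine isConj_iff.mpr ⟨⟨t, htA⟩, Subtype.ext ?_⟩
    simp
  · have htc : t * c ∈ alternatingGroup (Fin n) := by
      rw [Equiv.Perm.mem_alternatingGroup] at htA hcA ⊢
      rw [map_mul, (Int.units_eq_one_or _).resolve_left htA,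
        (Int.units_eq_one_or _).resolve_left hcA, Int.units_mul_self]
    refine isConj_iff.mpr ⟨⟨t * c, htc⟩, Subtype.ext ?_⟩
    simp only [Subgroup.coe_mul, Subgroup.coe_inv, MulAut.conjNormal_apply, mul_inv_rev]
    have h3 : c * (y : Equiv.Perm (Fin n)) * c⁻¹ = y := by rw [hc.eq, mul_inv_cancel_right]
    simp only [← mul_assoc]
    rw [mul_assoc t, mul_assoc t, h3]

/-- A constituent of a self-conjugate restriction has half its degree. -/
theorem charDegree_of_selfConj (hn : 2 ≤ n) {φ : IrrCharacter (Equiv.Perm (Fin n))}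
    (h : sgnIrr φ = φ) {η : IrrCharacter (alternatingGroup (Fin n))}
    (hover : classInner (resA n (φ : Equiv.Perm (Fin n) → ℂ))
      (η : alternatingGroup (Fin n) → ℂ) ≠ 0) :
    charDegree (φ : Equiv.Perm (Fin n) → ℂ)
      = 2 * charDegree (η : alternatingGroup (Fin n) → ℂ) := by
  classical
  obtain ⟨ξ₁, hξ₁⟩ := res_split hn h
  set θ := resA n (φ : Equiv.Perm (Fin n) → ℂ) with hθ
  have hsame : ∀ η' : IrrCharacter (alternatingGroup (Fin n)),
      classInner θ (η' : alternatingGroup (Fin n) → ℂ) ≠ 0 →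
      (η' : alternatingGroup (Fin n) → ℂ) 1 = (η : alternatingGroup (Fin n) → ℂ) 1 := by
    intro η' hη'
    obtain ⟨t, ht⟩ := CliffordChar.constituents_conjugate (alternatingGroup (Fin n)) φ.2 η.2 η'.2
      hover hη'
    rw [← congrFun ht 1, CliffordChar.conjFun, map_one]
  have := Fintype.ofFinite (IrrCharacter (alternatingGroup (Fin n)))
  have hθc : IsClassFunction (alternatingGroup (Fin n)) θ :=
    Char.IsCharacter.isClassFunction (isCharacter_resA φ)
  have hnorm : classInner θ θ = 2 := by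
    rw [hθ, classInner_resA hn, show (fun g => (φ : Equiv.Perm (Fin n) → ℂ) g * sgnC g)
      = (sgnIrr φ : Equiv.Perm (Fin n) → ℂ) from rfl, h, Char.classInner_irr_self φ.2]
    norm_num
  choose k hk using fun ξ : IrrCharacter (alternatingGroup (Fin n)) =>
    Char.IsCharacter.classInner_nat (isCharacter_resA φ) (Char.IsIrrCharacter.isCharacter ξ.2)
  rw [Char.classInner_eq_sum hθc] at hnorm
  simp only [hθ, hk, map_natCast] at hnorm
  have hsq : ∑ ξ, k ξ * k ξ = 2 := by
    apply Nat.cast_injective (R := ℂ)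
    push_cast
    exact hnorm
  have hone : ∀ ξ, k ξ * k ξ = k ξ := by
    intro ξ
    have h1 := Finset.single_le_sum (f := fun ξ => k ξ * k ξ) (fun _ _ => Nat.zero_le _)
      (Finset.mem_univ ξ)
    rcases Nat.lt_or_ge (k ξ) 2 with h2 | h2
    · interval_cases k ξ <;> rfl
    · have := Nat.mul_le_mul h2 h2
      omega
  simp only [hone] at hsq
  have hexp := congrFun (Char.classFunction_eq_sum hθc) 1
  rw [Finset.sum_apply] at hexp
  have hterm : ∀ ξ : IrrCharacter (alternatingGroup (Fin n)),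
      classInner θ (ξ : alternatingGroup (Fin n) → ℂ) • (ξ : alternatingGroup (Fin n) → ℂ) 1
      = (k ξ : ℂ) * (η : alternatingGroup (Fin n) → ℂ) 1 := by
    intro ξ
    rw [hθ, hk, smul_eq_mul]
    by_cases h0 : k ξ = 0
    · simp [h0]
    · rw [hsame ξ (by rw [hθ, hk]; exact Nat.cast_ne_zero.mpr h0)]
  simp only [Pi.smul_apply, hterm, ← Finset.sum_mul, ← Nat.cast_sum, hsq] at hexp
  rw [hθ, resA_apply, OneMemClass.coe_one, ← Blocks.charDegree_cast, ← Blocks.charDegree_cast]
    at hexp
  exact_mod_cast hexp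

variable [hpf : Fact p.Prime] {M : Ideal AlgInt}

/-- The two cases for the degree of a character under a tuple. -/
theorem degree_alt (hn2 : 2 ≤ n) (hn : n ≤ N) {β : Fin N → ℕ} (hβ : β ∈ lev N n)
    {φ : IrrCharacter (Equiv.Perm (Fin n))} (hne : coef N β φ ≠ 0)
    {η : IrrCharacter (alternatingGroup (Fin n))}
    (hover : classInner (resA n (φ : Equiv.Perm (Fin n) → ℂ))
      (η : alternatingGroup (Fin n) → ℂ) ≠ 0) {w : ℕ}
    (hw : ∑ i, β i = (∑ i, core0 p β i) + p * w) :
    (sgnIrr φ ≠ φ ∧ (charDegree (η : alternatingGroup (Fin n) → ℂ)).factorization p + w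
        + qE p (Finset.univ.image β) = padicValNat p n.factorial) ∨
    (sgnIrr φ = φ ∧ (charDegree (η : alternatingGroup (Fin n) → ℂ)).factorization p
        + (if p = 2 then 1 else 0) + w + qE p (Finset.univ.image β) = padicValNat p n.factorial) := by
  have h := (degree_weight hn hβ hne hw).1
  by_cases hs : sgnIrr φ = φ
  · refine Or.inr ⟨hs, ?_⟩
    rw [charDegree_of_selfConj hn2 hs hover, Nat.factorization_mul two_ne_zero
      (Blocks.charDegree_pos η).ne', Finsupp.add_apply] at h
    have h2 : (2 : ℕ).factorization p = if p = 2 then 1 else 0 := by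
      rw [Nat.prime_two.factorization, Finsupp.single_apply]
      simp [eq_comm]
    omega
  · refine Or.inl ⟨hs, ?_⟩
    have heq : resA n (φ : Equiv.Perm (Fin n) → ℂ) = (η : alternatingGroup (Fin n) → ℂ) := by
      by_contra hne'
      exact hover (Char.classInner_irr_of_ne (res_irr_of_ne hn2 hs) η.2 hne')
    have hdeg : charDegree (η : alternatingGroup (Fin n) → ℂ)
        = charDegree (φ : Equiv.Perm (Fin n) → ℂ) := by
      rw [← heq]
      rfl
    rw [hdeg]
    exact h

omit hpf in
theorem factorization_degree_le (η : IrrCharacter (alternatingGroup (Fin n))) :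
    (charDegree (η : alternatingGroup (Fin n) → ℂ)).factorization p
      ≤ (Nat.card (alternatingGroup (Fin n))).factorization p :=
  (Nat.factorization_le_iff_dvd (Blocks.charDegree_pos η).ne' Nat.card_pos.ne').2
    (Blocks.charDegree_dvd_card η) p

/-- The lower bound on the degrees of the characters under a tuple of weight `w`. -/
theorem le_degree (hn2 : 2 ≤ n) (hn : n ≤ N) {β : Fin N → ℕ} (hβ : β ∈ lev N n)
    {φ : IrrCharacter (Equiv.Perm (Fin n))} (hne : coef N β φ ≠ 0)
    {η : IrrCharacter (alternatingGroup (Fin n))}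
    (hover : classInner (resA n (φ : Equiv.Perm (Fin n) → ℂ))
      (η : alternatingGroup (Fin n) → ℂ) ≠ 0) {w : ℕ}
    (hw : ∑ i, β i = (∑ i, core0 p β i) + p * w) :
    (Nat.card (alternatingGroup (Fin n))).factorization p
      ≤ (charDegree (η : alternatingGroup (Fin n) → ℂ)).factorization p + eA p w := by
  have hA := factorization_card_alt (p := p) hn2
  have hq := (degree_weight hn hβ hne hw).2
  rcases Nat.eq_zero_or_pos w with rfl | hw1
  · rw [Nat.factorial_zero, padicValNat_one_right] at hq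
    rcases degree_alt hn2 hn hβ hne hover hw with ⟨-, h⟩ | ⟨-, h⟩ <;> omega
  rw [eA]
  rcases degree_alt hn2 hn hβ hne hover hw with ⟨-, h⟩ | ⟨hs, h⟩
  · split_ifs at hA ⊢ <;> omega
  · by_cases hp2 : p = 2
    · subst hp2
      have hlt := qE_lt_of_mirror (mirror_of_selfConj hn hs hβ hne)
        (sum_rw' two_pos (injective_of_coef hne) hw) hw1
      simp only [if_true] at hA h ⊢
      omega
    · rw [if_neg hp2] at hA h ⊢
      omega

/-- Members of a block lie under tuples of the core and weight of one of them. -/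
theorem exists_over_core (hM : IsPModular p M) (hn : n ≤ N)
    {B : Set (IrrCharacter (alternatingGroup (Fin n)))} (hB : IsPBlock M B)
    {ξ : IrrCharacter (alternatingGroup (Fin n))} (hξ : ξ ∈ B)
    {ψ : IrrCharacter (Equiv.Perm (Fin n))}
    (hover : classInner (resA n (ψ : Equiv.Perm (Fin n) → ℂ))
      (ξ : alternatingGroup (Fin n) → ℂ) ≠ 0)
    {α : Fin N → ℕ} (hα : α ∈ lev N n) (hne : coef N α ψ ≠ 0) {w : ℕ}
    (hw : ∑ i, α i = (∑ i, core0 p α i) + p * w)
    {η : IrrCharacter (alternatingGroup (Fin n))} (hη : η ∈ B) :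
    ∃ (φ : IrrCharacter (Equiv.Perm (Fin n))) (β : Fin N → ℕ), β ∈ lev N n ∧ coef N β φ ≠ 0 ∧
      cnt p β = cnt p α ∧ classInner (resA n (φ : Equiv.Perm (Fin n) → ℂ))
        (η : alternatingGroup (Fin n) → ℂ) ≠ 0 ∧ ∑ i, β i = (∑ i, core0 p β i) + p * w := by
  obtain ⟨φ₀, hφ₀, hφ₀η⟩ := alt_block_subset hM hn hB hξ
    (c := cnt p α) ⟨α, hα, hne, rfl⟩ hover hη
  obtain ⟨φ, ⟨β, hβ, hβne, hc⟩, hφη⟩ : ∃ φ ∈ coreSet (n := n) N p (cnt p α),
      classInner (resA n (φ : Equiv.Perm (Fin n) → ℂ)) (η : alternatingGroup (Fin n) → ℂ) ≠ 0 := by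
    rcases hφ₀ with h | h
    · exact ⟨φ₀, h, hφ₀η⟩
    · exact ⟨sgnIrr φ₀, h, by rwa [resA_sgnIrr]⟩
  exact ⟨φ, β, hβ, hβne, hc, hφη, by
    rw [mem_lev.mp hβ, ← mem_lev.mp hα, hw,
      sum_core0_eq hpf.out.pos (injective_of_coef hβne) (injective_of_coef hne) hc]⟩

/-- An element seen by the idempotent fixing the support of the weight. -/
theorem exists_fix_alt (hM : IsPModular p M) (hn : n ≤ N)
    {B : Set (IrrCharacter (alternatingGroup (Fin n)))} (hB : IsPBlock M B)
    {ξ : IrrCharacter (alternatingGroup (Fin n))} (hξ : ξ ∈ B)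
    {ψ : IrrCharacter (Equiv.Perm (Fin n))}
    (hover : classInner (resA n (ψ : Equiv.Perm (Fin n) → ℂ))
      (ξ : alternatingGroup (Fin n) → ℂ) ≠ 0)
    {α : Fin N → ℕ} (hα : α ∈ lev N n) (hne : coef N α ψ ≠ 0) {w : ℕ}
    (hw : ∑ i, α i = (∑ i, core0 p α i) + p * w) :
    ∃ (m : ℕ) (e : (Fin w × ZMod p) ⊕ Fin m ≃ Fin n) (a : alternatingGroup (Fin n)),
      ¬ MemLocalIdeal M (blockCoeff B a) ∧
      ∀ z, (a : Equiv.Perm (Fin n)) (e (Sum.inl z)) = e (Sum.inl z) := by
  by_cases hp2 : p = 2
  · subst hp2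
    exact exists_fix_alt_two hM hn hB hξ hover hα hne hw
  obtain ⟨m, e, D', ⟨g, hg, hgD⟩, -, hmem⟩ :=
    exists_cycles_le_defect_alt_odd hM hp2 hn hB hξ hover hα hne hw
  refine ⟨m, e, g, hg.2.1, fun z => apply_eq_of_commute_even e (g := (g : Equiv.Perm (Fin n))) ?_
    (fun h => absurd h hp2) (fun f hf => ?_) z⟩
  · rw [Subgroup.orderOf_coe]
    exact Blocks.pRegular_of_blockCoeff hM hB hg.2.1
  · exact (Commute.map (Blocks.mem_centralizer_singleton.mp (Blocks.sylowIn_le hgD (hmem f hf)))
      (alternatingGroup (Fin n)).subtype).symm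

theorem isPGroup_partSub_bot (e : (Fin w × ZMod p) ⊕ Fin m ≃ Fin n) :
    IsPGroup p (partSub e (⊥ : Subgroup (Equiv.Perm (Fin w)))) := by
  have : NeZero p := ⟨hpf.out.ne_zero⟩
  refine fun z => ⟨1, ?_⟩
  obtain ⟨g, hg, he⟩ := z.2
  have hg1 : g = SemidirectProduct.inl g.left := SemidirectProduct.ext rfl (Subgroup.mem_bot.mp hg)
  refine Subtype.ext (Subtype.ext ?_)
  rw [Subgroup.coe_pow, Subgroup.coe_pow, pow_one]
  rw [show ((z : alternatingGroup (Fin n)) : Equiv.Perm (Fin n)) = wreathHom e g from he.symm, hg1,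
    wreathHom_inl_eq, cyclesHom_pow]
  rfl

theorem mem_partSub_bot (e : (Fin w × ZMod p) ⊕ Fin m ≃ Fin n)
    (f : Multiplicative (Fin w → ZMod p)) (hf : cyclesHom e f ∈ alternatingGroup (Fin n)) :
    (⟨cyclesHom e f, hf⟩ : alternatingGroup (Fin n)) ∈ partSub e ⊥ :=
  ⟨SemidirectProduct.inl f, Subgroup.mem_bot.mpr (SemidirectProduct.rightHom_inl f),
    wreathHom_inl_eq e f⟩

omit hpf in
theorem partSub_le_centralizer (e : (Fin w × ZMod p) ⊕ Fin m ≃ Fin n)
    (Q : Subgroup (Equiv.Perm (Fin w))) {a : alternatingGroup (Fin n)}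
    (ha : ∀ z, (a : Equiv.Perm (Fin n)) (e (Sum.inl z)) = e (Sum.inl z)) :
    partSub e Q ≤ Subgroup.centralizer ({a} : Set (alternatingGroup (Fin n))) := fun z hz =>
  Blocks.mem_centralizer_singleton.mpr
    (Subtype.ext (commute_of_fix (g := (a : Equiv.Perm (Fin n))) (partSub_apply_inr hz) ha).eq)

/-- The defect and the defect groups of a block of positive weight. -/
theorem exists_defect_equiv (hM : IsPModular p M) (hn2 : 2 ≤ n) (hn : n ≤ N)
    {B : Set (IrrCharacter (alternatingGroup (Fin n)))} (hB : IsPBlock M B)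
    {ξ : IrrCharacter (alternatingGroup (Fin n))} (hξ : ξ ∈ B)
    {ψ : IrrCharacter (Equiv.Perm (Fin n))}
    (hover : classInner (resA n (ψ : Equiv.Perm (Fin n) → ℂ))
      (ξ : alternatingGroup (Fin n) → ℂ) ≠ 0)
    {α : Fin N → ℕ} (hα : α ∈ lev N n) (hne : coef N α ψ ≠ 0) {w : ℕ}
    (hw : ∑ i, α i = (∑ i, core0 p α i) + p * w) (hw1 : 1 ≤ w)
    {D : Subgroup (alternatingGroup (Fin n))} (hD : IsDefectGroup p M B D) :
    blockDefect p B = eA p w ∧
    ∃ (m : ℕ) (e : (Fin w × ZMod p) ⊕ Fin m ≃ Fin n) (T : Sylow p (Equiv.Perm (Fin w))),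
      Nonempty (D ≃* partSub e (T : Subgroup (Equiv.Perm (Fin w)))) := by
  have hp := hpf.out
  obtain ⟨m, e, a, ha, hfix⟩ := exists_fix_alt hM hn hB hξ hover hα hne hw
  obtain ⟨T⟩ : Nonempty (Sylow p (Equiv.Perm (Fin w))) := inferInstance
  have hcard := card_partSub hw1 e T
  obtain ⟨D', hD', hle⟩ := exists_defect_ge hM hB (IsPGroup.of_card hcard)
    (partSub_le_centralizer e _ hfix) ha
  have hD'card := Blocks.card_defectGroup hM hB hD'
  have hge : eA p w ≤ blockDefect p B := by
    have h1 := Subgroup.card_le_of_le hle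
    rw [hcard, hD'card] at h1
    exact (Nat.pow_le_pow_iff_right hp.one_lt).mp h1
  have hle' : blockDefect p B ≤ eA p w := by
    rw [blockDefect, Nat.sub_le_iff_le_add']
    obtain ⟨η, hη, hmin⟩ := Nat.sInf_mem
      (s := (fun χ : IrrCharacter (alternatingGroup (Fin n)) =>
        (charDegree (χ : alternatingGroup (Fin n) → ℂ)).factorization p) '' B)
      ((Blocks.isPBlock_nonempty hM hB).image _)
    obtain ⟨φ, β, hβ, hβne, -, hφη, hβw⟩ := exists_over_core hM hn hB hξ hover hα hne hw hη
    rw [← hmin]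
    exact le_degree hn2 hn hβ hβne hφη hβw
  have hdef := le_antisymm hle' hge
  refine ⟨hdef, m, e, T, ?_⟩
  have heq : partSub e (T : Subgroup (Equiv.Perm (Fin w))) = D' :=
    Subgroup.eq_of_le_of_card_ge hle (by rw [hD'card, hcard, hdef]; rfl)
  obtain ⟨x, hx⟩ := Blocks.isDefectGroup_conj_eq hM hB hD hD'
  exact ⟨(D.equivMapOfInjective (MulAut.conj x).toMonoidHom (MulAut.conj x).injective).trans
    (MulEquiv.subgroupCongr (hx.trans heq.symm))⟩

/-- A block of positive weight is invariant in the symmetric group. -/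
theorem conj_mem (hM : IsPModular p M) (hn : n ≤ N)
    {B : Set (IrrCharacter (alternatingGroup (Fin n)))} (hB : IsPBlock M B)
    {ξ : IrrCharacter (alternatingGroup (Fin n))} (hξ : ξ ∈ B)
    {ψ : IrrCharacter (Equiv.Perm (Fin n))}
    (hover : classInner (resA n (ψ : Equiv.Perm (Fin n) → ℂ))
      (ξ : alternatingGroup (Fin n) → ℂ) ≠ 0)
    {α : Fin N → ℕ} (hα : α ∈ lev N n) (hne : coef N α ψ ≠ 0) {w : ℕ}
    (hw : ∑ i, α i = (∑ i, core0 p α i) + p * w) (hw1 : 1 ≤ w) (h3 : p = 2 → 3 ≤ w)
    (t : Equiv.Perm (Fin n)) {θ : IrrCharacter (alternatingGroup (Fin n))} (hθ : θ ∈ B) :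
    BlocksNormal.conjIrr (alternatingGroup (Fin n)) t θ ∈ B := by
  classical
  obtain ⟨m, e, a, ha, hfix⟩ := exists_fix_alt hM hn hB hξ hover hα hne hw
  obtain ⟨η, hη, hη0⟩ := Blocks.exists_blockHeight_eq_zero p (Blocks.isPBlock_nonempty hM hB)
  set η' := BlocksNormal.conjIrr (alternatingGroup (Fin n)) t η with hη'
  suffices hmem : η' ∈ B by
    have hpre := BlocksNormal.isPBlock_conjIrr_preimage (alternatingGroup (Fin n)) hM hB t
    have heq := Blocks.isPBlock_eq_of_mem hM hB hpre hη (show η ∈ {θ | _} from hmem)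
    exact (Set.ext_iff.mp heq θ).mp hθ
  by_contra hη'B
  set B' := blockOf M (η' : alternatingGroup (Fin n) → ℂ)
  have hB' : IsPBlock M B' := ⟨η', rfl⟩
  have hηB' : η ∉ B' := fun h => hη'B (by
    rw [Blocks.isPBlock_eq_of_mem hM hB hB' hη h]; exact Blocks.mem_blockOf_self hM η')
  set z : alternatingGroup (Fin n) → ℂ := Blocks.regConj p (η' : alternatingGroup (Fin n) → ℂ)
    - Blocks.regConj p (η : alternatingGroup (Fin n) → ℂ) with hzdef
  have hz : IsClassFunction (alternatingGroup (Fin n)) z := fun g h => by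
    simp only [hzdef, Pi.sub_apply]
    rw [Blocks.isClassFunction_regConj (Blocks.irr_class η') g h,
      Blocks.isClassFunction_regConj (Blocks.irr_class η) g h]
  have hzI := memI_omega_of hM hz (fun g => Blocks.memR_sub hM (Blocks.memR_regConj hM η' g)
    (Blocks.memR_regConj hM η g)) η fun g hg => by
    suffices h0 : z g = 0 by
      rw [h0]
      exact Blocks.memI_zero hM
    by_cases hreg : p ∣ orderOf g
    · simp [hzdef, Blocks.regConj, pRegularPart, IsPRegular, hreg]
    obtain ⟨D, hD⟩ := Blocks.sylowIn_exists p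
      (Subgroup.centralizer ({g} : Set (alternatingGroup (Fin n))))
    obtain ⟨x, hx⟩ := Blocks.minmax hM hB hη hg ha (isPGroup_partSub_bot e)
      (partSub_le_centralizer e ⊥ hfix) hD
    set g' := (x : Equiv.Perm (Fin n)) * g * (x : Equiv.Perm (Fin n))⁻¹ with hg'
    have hfix' : ∀ z, g' (e (Sum.inl z)) = e (Sum.inl z) := fun z => by
      refine apply_eq_of_commute_even e ?_ h3 (fun f hf => ?_) z
      · rwa [hg', show (x : Equiv.Perm (Fin n)) * g * (x : Equiv.Perm (Fin n))⁻¹
          = MulAut.conj (x : Equiv.Perm (Fin n)) g from rfl, MulEquiv.orderOf_eq,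
          Subgroup.orderOf_coe]
      · have h1 := Blocks.mem_centralizer_singleton.mp
          (Blocks.sylowIn_le hD (Blocks.mem_conjSub.mp (hx (mem_partSub_bot e f hf))))
        have h2 := ((show Commute _ _ from h1.symm).map (alternatingGroup (Fin n)).subtype).map
          (MulAut.conj (x : Equiv.Perm (Fin n))).toMonoidHom
        simp only [Subgroup.coe_subtype, MulEquiv.coe_toMonoidHom, MulAut.conj_apply,
          Subgroup.coe_mul, Subgroup.coe_inv, mul_assoc, mul_inv_cancel_left,
          mul_inv_cancel, mul_one] at h2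
        simpa only [hg', mul_assoc] using h2
    have hp1 := hpf.out.one_lt
    have : Nontrivial (ZMod p) := ZMod.nontrivial_iff.mpr (by omega)
    set z₀ := e (Sum.inl (⟨0, hw1⟩, (0 : ZMod p))) with hz₀
    set z₁ := e (Sum.inl (⟨0, hw1⟩, (1 : ZMod p))) with hz₁
    have hne01 : z₀ ≠ z₁ := fun h => zero_ne_one
      (congrArg Prod.snd (Sum.inl_injective (e.injective h)))
    set s := Equiv.swap z₀ z₁ with hs
    have hsg : Commute s g' := by
      refine mul_inv_eq_iff_eq_mul.mp ?_ |>.symm
      rw [hs, ← Equiv.swap_apply_apply, hfix' (⟨0, hw1⟩, 0), hfix' (⟨0, hw1⟩, 1)]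
    have hc : Commute ((x : Equiv.Perm (Fin n))⁻¹ * s * x) (g : Equiv.Perm (Fin n)) := by
      have h2 := hsg.map (MulAut.conj ((x : Equiv.Perm (Fin n))⁻¹)).toMonoidHom
      simpa [hg', mul_assoc] using h2
    have hcA : (x : Equiv.Perm (Fin n))⁻¹ * s * x ∉ alternatingGroup (Fin n) := by
      rw [Equiv.Perm.mem_alternatingGroup, map_mul, map_mul, map_inv, hs,
        Equiv.Perm.sign_swap hne01]
      simp
    have hval : (η' : alternatingGroup (Fin n) → ℂ) g = (η : alternatingGroup (Fin n) → ℂ) g :=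
      apply_conjNormal_of_commute hc hcA t⁻¹
    simp [hzdef, Blocks.regConj, pRegularPart, hval]
  have := Fintype.ofFinite (alternatingGroup (Fin n))
  have hlin : Blocks.omega (η : alternatingGroup (Fin n) → ℂ) z
      = Blocks.omega (η : alternatingGroup (Fin n) → ℂ)
          (Blocks.regConj p (η' : alternatingGroup (Fin n) → ℂ))
        - Blocks.omega (η : alternatingGroup (Fin n) → ℂ)
          (Blocks.regConj p (η : alternatingGroup (Fin n) → ℂ)) := by
    simp only [Blocks.omega_eq_sum, hzdef, Pi.sub_apply, sub_mul, Finset.sum_sub_distrib, sub_div]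
  rw [hlin, Blocks.omega_regConj_eq_zero hM hB' (Blocks.mem_blockOf_self hM η') hηB', zero_sub]
    at hzI
  exact Blocks.not_memI_omega_regConj hM hB hη hη0 hη (by simpa using Blocks.memI_neg hzI)

omit hpf in
theorem exists_irr_of_tuple {α : Fin N → ℕ} (hα : Function.Injective α)
    (hlev : α ∈ lev N n) : ∃ ψ : IrrCharacter (Equiv.Perm (Fin n)), coef N α ψ ≠ 0 := by
  by_contra hcon
  push Not at hcon
  have := Fintype.ofFinite (IrrCharacter (Equiv.Perm (Fin n)))
  refine vM_ones_ne_zero hα (mem_lev.mp hlev) ?_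
  have h := congrFun (Char.classFunction_eq_sum (isClassFunction_chi (n := n) α)) 1
  rw [Finset.sum_apply, Finset.sum_eq_zero fun φ _ => by
    rw [Pi.smul_apply, show classInner (chi N α) (φ : Equiv.Perm (Fin n) → ℂ) = 0 from hcon φ,
      zero_smul], chi, parts_one] at h
  exact h

/-- A tuple whose bead set is its own mirror gives a self-conjugate character. -/
theorem selfConj_of_mirror (hn : n ≤ N) {β : Fin N → ℕ} (hβ : β ∈ lev N n)
    {φ : IrrCharacter (Equiv.Perm (Fin n))} (hne : coef N β φ ≠ 0)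
    (h : mirrorSet N (Finset.univ.image β) = Finset.univ.image β) : sgnIrr φ = φ := by
  have hinj := injective_of_coef hne
  have hlt := lt_of_level hinj (mem_lev.mp hβ) hn
  obtain ⟨e, -, he⟩ := chi_mirror (n := n) (mirrored_tupleOf hinj hlt hinj h.symm)
  have hchi := chi_eq_coef_smul hn hβ hne
  have hval : ∀ σ, (φ : Equiv.Perm (Fin n) → ℂ) σ
      = e * (sgnC σ * (φ : Equiv.Perm (Fin n) → ℂ) σ) := by
    intro σ
    have h1 := he σ
    rw [congrFun hchi σ, Pi.smul_apply, smul_eq_mul] at h1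
    refine mul_left_cancel₀ hne ?_
    linear_combination h1
  have he1 : e = 1 := by
    have h1 := hval 1
    rw [sgnC_of_mem (Subgroup.one_mem _), one_mul] at h1
    exact (mul_eq_right₀ (Blocks.irr_one_ne_zero φ)).mp h1.symm
  refine Subtype.ext (funext fun σ => ?_)
  rw [sgnIrr_apply]
  conv_rhs => rw [hval σ, he1, one_mul, mul_comm]

/-- Two runners of weight one each form a self-mirrored set. -/
theorem mirror_eq_of_one_one {S : Finset ℕ} (hlt : ∀ x ∈ S, x < N + N) (hc : S.card = N)
    (h0 : rw' 2 S 0 = 1) (h1 : rw' 2 S 1 = 1) : mirrorSet N S = S := by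
  have hrun : ∀ r, r < 2 → runner 2 (mirrorSet N S) r = runner 2 S r := by
    intro r hr
    have e1 : rw' 2 (mirrorSet N S) r = 1 := by
      rw [rw'_mirror hlt hr]
      interval_cases r <;> assumption
    have e2 : rw' 2 S r = 1 := by interval_cases r <;> assumption
    refine eq_of_weight_one (card_runner_mirror hlt hc hr) ?_ ?_
    · rw [← e1, rw'_add]
    · rw [← e2, rw'_add]
  ext x
  have hx : x = x % 2 + 2 * (x / 2) := (Nat.mod_add_div x 2).symm
  rw [hx, ← mem_runner two_pos (Nat.mod_lt x two_pos), ← mem_runner two_pos (Nat.mod_lt x two_pos),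
    hrun _ (Nat.mod_lt x two_pos)]

end Cfsg.Agent.SymBlocks
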