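import Cfsg.Agent.Lib.SymBlocks.FixCount
import Cfsg.Agent.Lib.BlocksNormal.Cover

/-!
# From blocks of the symmetric group to blocks of the alternating group

`resA`: restriction; `res_irr_of_ne`, `res_split`: Clifford theory in index two;
`overSet_spec`: characters of the alternating group under a set with integral idempotent supported
on even permutations; `blockRank_alt_le`: the bound on the `p`-regular rank.
-/

set_option autoImplicit false

open Finset
open scoped ComplexConjugate

namespace Cfsg.Agent.SymBlocks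

open Cfsg

variable {N n p : ℕ}

/-- The sign as a linear character. -/
noncomputable def sgnHom (n : ℕ) : Equiv.Perm (Fin n) →* ℂ :=
  (Int.castRingHom ℂ).toMonoidHom.comp ((Units.coeHom ℤ).comp Equiv.Perm.sign)

theorem sgnHom_apply (σ : Equiv.Perm (Fin n)) : sgnHom n σ = sgnC σ := rfl

theorem sgnC_mul_self (σ : Equiv.Perm (Fin n)) : sgnC σ * sgnC σ = 1 := by
  rw [sgnC, ← Int.cast_mul, ← Units.val_mul, Int.units_mul_self]
  simp

theorem conj_sgnC (σ : Equiv.Perm (Fin n)) : conj (sgnC σ) = sgnC σ := map_intCast _ _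

theorem sgnC_of_mem {σ : Equiv.Perm (Fin n)} (h : σ ∈ alternatingGroup (Fin n)) : sgnC σ = 1 := by
  rw [sgnC, Equiv.Perm.mem_alternatingGroup.mp h]
  simp

theorem sgnC_of_notMem {σ : Equiv.Perm (Fin n)} (h : σ ∉ alternatingGroup (Fin n)) :
    sgnC σ = -1 := by
  rw [Equiv.Perm.mem_alternatingGroup] at h
  rcases Int.units_eq_one_or (Equiv.Perm.sign σ) with h' | h'
  · exact absurd h' h
  · rw [sgnC, h']
    simp

/-- The twist of a character by the sign. -/
noncomputable def sgnIrr (ψ : IrrCharacter (Equiv.Perm (Fin n))) :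
    IrrCharacter (Equiv.Perm (Fin n)) :=
  ⟨fun g => (ψ : Equiv.Perm (Fin n) → ℂ) g * sgnHom n g,
    Char.IsIrrCharacter.mul_linear ψ.2 (sgnHom n)⟩

theorem sgnIrr_apply (ψ : IrrCharacter (Equiv.Perm (Fin n))) (g : Equiv.Perm (Fin n)) :
    (sgnIrr ψ : Equiv.Perm (Fin n) → ℂ) g = (ψ : Equiv.Perm (Fin n) → ℂ) g * sgnC g := rfl

theorem sgnIrr_sgnIrr (ψ : IrrCharacter (Equiv.Perm (Fin n))) : sgnIrr (sgnIrr ψ) = ψ :=
  Subtype.ext (funext fun g => by rw [sgnIrr_apply, sgnIrr_apply, mul_assoc, sgnC_mul_self, mul_one])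

/-- Restriction to the alternating group, as a linear map. -/
noncomputable def resA (n : ℕ) :
    (Equiv.Perm (Fin n) → ℂ) →ₗ[ℂ] (alternatingGroup (Fin n) → ℂ) :=
  LinearMap.funLeft ℂ ℂ Subtype.val

theorem resA_apply (f : Equiv.Perm (Fin n) → ℂ) (a : alternatingGroup (Fin n)) :
    resA n f a = f (a : Equiv.Perm (Fin n)) := rfl

theorem resA_sgnIrr (ψ : IrrCharacter (Equiv.Perm (Fin n))) :
    resA n (sgnIrr ψ : Equiv.Perm (Fin n) → ℂ) = resA n (ψ : Equiv.Perm (Fin n) → ℂ) :=
  funext fun a => by rw [resA_apply, resA_apply, sgnIrr_apply, sgnC_of_mem a.2, mul_one]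

theorem pRegularPart_resA (f : Equiv.Perm (Fin n) → ℂ) :
    pRegularPart p (resA n f) = resA n (pRegularPart p f) := by
  funext a
  by_cases h : p ∣ orderOf a
  · simp [resA_apply, pRegularPart, IsPRegular, h]
  · simp [resA_apply, pRegularPart, IsPRegular, h]

theorem card_perm_eq_two_mul (hn : 2 ≤ n) :
    (Nat.card (Equiv.Perm (Fin n)) : ℂ) = 2 * (Nat.card (alternatingGroup (Fin n)) : ℂ) := by
  have : Nontrivial (Fin n) := Fin.nontrivial_iff_two_le.mpr hn
  rw [← two_mul_nat_card_alternatingGroup (α := Fin n)]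
  push_cast
  ring

theorem classInner_resA (hn : 2 ≤ n) (f h : Equiv.Perm (Fin n) → ℂ) :
    classInner (resA n f) (resA n h) = classInner f h + classInner f fun g => h g * sgnC g := by
  classical
  have hA : (Nat.card (alternatingGroup (Fin n)) : ℂ) ≠ 0 := Nat.cast_ne_zero.mpr Nat.card_pos.ne'
  have hsum : ∑ a : alternatingGroup (Fin n), f (a : Equiv.Perm (Fin n)) * conj (h a) * 2
      = ∑ g : Equiv.Perm (Fin n), (f g * conj (h g) + f g * conj (h g * sgnC g)) := by
    rw [← Finset.sum_subtype (Finset.univ.filter fun g => g ∈ alternatingGroup (Fin n))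
      (fun g => by simp) (fun g => f g * conj (h g) * 2), Finset.sum_filter]
    refine Finset.sum_congr rfl fun g _ => ?_
    by_cases hg : g ∈ alternatingGroup (Fin n)
    · rw [if_pos hg, sgnC_of_mem hg, mul_one]
      ring
    · rw [if_neg hg, sgnC_of_notMem hg, map_mul, map_neg, map_one]
      ring
  rw [classInner, classInner, classInner, ← mul_add, ← Finset.sum_add_distrib, ← hsum,
    ← Finset.sum_mul, card_perm_eq_two_mul hn, mul_inv]
  simp only [resA_apply]
  ring

theorem isCharacter_resA (ψ : IrrCharacter (Equiv.Perm (Fin n))) :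
    IsCharacter (alternatingGroup (Fin n)) (resA n (ψ : Equiv.Perm (Fin n) → ℂ)) :=
  Char.IsCharacter.restrict (Char.IsIrrCharacter.isCharacter ψ.2) _

theorem res_irr_of_ne (hn : 2 ≤ n) {ψ : IrrCharacter (Equiv.Perm (Fin n))} (h : sgnIrr ψ ≠ ψ) :
    IsIrrCharacter (alternatingGroup (Fin n)) (resA n (ψ : Equiv.Perm (Fin n) → ℂ)) := by
  rw [Char.isIrrCharacter_iff_norm_one (isCharacter_resA ψ), classInner_resA hn,
    Char.classInner_irr_self ψ.2]
  have h0 := Char.classInner_irr_of_ne ψ.2 (sgnIrr ψ).2 fun e => h (Subtype.ext e).symm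
  rw [show (fun g => (ψ : Equiv.Perm (Fin n) → ℂ) g * sgnC g)
    = (sgnIrr ψ : Equiv.Perm (Fin n) → ℂ) from rfl, h0, add_zero]

/-- The restriction of a self-conjugate character is the sum of two constituents. -/
theorem res_split (hn : 2 ≤ n) {ψ : IrrCharacter (Equiv.Perm (Fin n))} (h : sgnIrr ψ = ψ) :
    ∃ ξ₁ : IrrCharacter (alternatingGroup (Fin n)), ∀ ξ : IrrCharacter (alternatingGroup (Fin n)),
      classInner (resA n (ψ : Equiv.Perm (Fin n) → ℂ)) (ξ : alternatingGroup (Fin n) → ℂ) ≠ 0 →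
      ξ = ξ₁ ∨ (ξ : alternatingGroup (Fin n) → ℂ)
        = resA n (ψ : Equiv.Perm (Fin n) → ℂ) - (ξ₁ : alternatingGroup (Fin n) → ℂ) := by
  classical
  have := Fintype.ofFinite (IrrCharacter (alternatingGroup (Fin n)))
  set θ := resA n (ψ : Equiv.Perm (Fin n) → ℂ) with hθ
  have hθc : IsCharacter (alternatingGroup (Fin n)) θ := isCharacter_resA ψ
  choose m hm using fun ξ : IrrCharacter (alternatingGroup (Fin n)) =>
    Char.IsCharacter.classInner_nat hθc (Char.IsIrrCharacter.isCharacter ξ.2)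
  have hnorm : classInner θ θ = 2 := by
    rw [hθ, classInner_resA hn, show (fun g => (ψ : Equiv.Perm (Fin n) → ℂ) g * sgnC g)
      = (sgnIrr ψ : Equiv.Perm (Fin n) → ℂ) from rfl, h, Char.classInner_irr_self ψ.2]
    norm_num
  rw [Char.classInner_eq_sum (Char.IsCharacter.isClassFunction hθc)] at hnorm
  simp only [hm, map_natCast] at hnorm
  have hsq : ∑ ξ, m ξ * m ξ = 2 := by
    apply Nat.cast_injective (R := ℂ)
    push_cast
    exact hnorm
  have hle : ∀ ξ, m ξ ≤ 1 := by
    intro ξ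
    have h1 := Finset.single_le_sum (f := fun ξ => m ξ * m ξ) (fun _ _ => Nat.zero_le _)
      (Finset.mem_univ ξ)
    by_contra hh
    have := Nat.mul_le_mul (not_le.mp hh) (not_le.mp hh)
    omega
  obtain ⟨ξ₁, -, hξ₁⟩ := Finset.exists_ne_zero_of_sum_ne_zero (hsq.trans_ne two_ne_zero)
  have hm1 : m ξ₁ = 1 := by
    have := hle ξ₁
    rcases Nat.eq_zero_or_pos (m ξ₁) with h0 | h0
    · simp [h0] at hξ₁
    · omega
  refine ⟨ξ₁, fun ξ hξ => ?_⟩
  rw [hm, Nat.cast_ne_zero] at hξ
  by_cases he : ξ = ξ₁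
  · exact Or.inl he
  refine Or.inr ?_
  have hmξ : m ξ = 1 := by
    have := hle ξ
    omega
  have hrest : ∀ η, η ≠ ξ → η ≠ ξ₁ → m η = 0 := by
    intro η h1 h2
    have hthree : m η * m η + (m ξ * m ξ + m ξ₁ * m ξ₁) ≤ ∑ ξ, m ξ * m ξ := by
      refine le_of_eq_of_le ?_ (Finset.sum_le_sum_of_subset (Finset.subset_univ {η, ξ, ξ₁}))
      rw [Finset.sum_insert (by simp [h1, h2]), Finset.sum_pair he]
    rw [hmξ, hm1, hsq] at hthree
    exact Nat.eq_zero_of_not_pos fun hp' => by
      have := Nat.mul_pos hp' hp'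
      omega
  have hexp : θ = ∑ η, (m η : ℂ) • (η : alternatingGroup (Fin n) → ℂ) := by
    conv_lhs => rw [Char.classFunction_eq_sum (Char.IsCharacter.isClassFunction hθc)]
    simp only [hm]
  rw [hexp, Finset.sum_eq_add ξ ξ₁ he (fun η _ hη => by
      rw [hrest η hη.1 hη.2, Nat.cast_zero, zero_smul])
    (fun hh => absurd (Finset.mem_univ _) hh) (fun hh => absurd (Finset.mem_univ _) hh),
    hmξ, hm1, Nat.cast_one, one_smul, one_smul, add_sub_cancel_right]

/-- The characters of the alternating group lying under a set of characters. -/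
def overSet (U : Set (IrrCharacter (Equiv.Perm (Fin n)))) :
    Set (IrrCharacter (alternatingGroup (Fin n))) :=
  {ξ | ∃ ψ ∈ U,
    classInner (resA n (ψ : Equiv.Perm (Fin n) → ℂ)) (ξ : alternatingGroup (Fin n) → ℂ) ≠ 0}

/-- An integral idempotent supported on the even permutations restricts to one. -/
theorem overSet_spec {M : Ideal AlgInt} (hM : IsPModular p M)
    {U : Set (IrrCharacter (Equiv.Perm (Fin n)))} (hU : Blocks.blockInd U ∈ Blocks.intRing hM)
    (hodd : ∀ g : Equiv.Perm (Fin n), g ∉ alternatingGroup (Fin n) →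
      Blocks.ofOmega (Blocks.blockInd U) g = 0) :
    Blocks.blockInd (overSet U) ∈ Blocks.intRing hM ∧
      ∀ a : alternatingGroup (Fin n), blockCoeff (overSet U) a
        = blockCoeff U (a : Equiv.Perm (Fin n)) := by
  classical
  set A := alternatingGroup (Fin n) with hAdef
  let z : A → ℂ := fun a => Blocks.ofOmega (Blocks.blockInd U) (a : Equiv.Perm (Fin n))
  have hz : IsClassFunction A z := fun x g =>
    Blocks.isClassFunction_ofOmega (Blocks.blockInd U) (x : Equiv.Perm (Fin n)) g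
  have hzinv : ∀ x : Equiv.Perm (Fin n), CliffordChar.conjFun A x z = z := fun x => funext fun a =>
    Blocks.classFunction_eq_of_isConj (Blocks.isClassFunction_ofOmega (Blocks.blockInd U))
      (isConj_iff.mpr ⟨x, by simp [mul_assoc]⟩)
  have hext : extendByZero A z = Blocks.ofOmega (Blocks.blockInd U) := by
    funext g
    rw [Char.extendByZero_eq]
    by_cases hg : g ∈ A
    · rw [dif_pos hg]
    · rw [dif_neg hg, hodd g hg]
  have hc : Blocks.omegaFun z = Blocks.blockInd (overSet U) := by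
    funext θ
    obtain ⟨ψ, hψ⟩ := BlocksNormal.exists_over A θ
    have h1 := RealBlock.omega_extendByZero A z hzinv ψ θ hψ
    rw [hext, Blocks.omega_ofOmega] at h1
    show Blocks.omega (θ : A → ℂ) z = _
    rw [← h1]
    by_cases hψU : ψ ∈ U
    · rw [Blocks.blockInd_of_mem hψU, Blocks.blockInd_of_mem (show θ ∈ overSet U from ⟨ψ, hψU, hψ⟩)]
    · rw [Blocks.blockInd_of_notMem hψU, Blocks.blockInd_of_notMem]
      rintro ⟨φ, hφU, hφ⟩
      have h2 := RealBlock.omega_extendByZero A z hzinv φ θ hφ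
      rw [hext, Blocks.omega_ofOmega, Blocks.blockInd_of_mem hφU, ← h1,
        Blocks.blockInd_of_notMem hψU] at h2
      exact one_ne_zero h2
  refine ⟨hc ▸ Blocks.omega_mem_intRing hM hz fun a => hU (a : Equiv.Perm (Fin n)), fun a => ?_⟩
  rw [Blocks.blockCoeff_eq_ofOmega, Blocks.blockCoeff_eq_ofOmega, ← hc, Blocks.ofOmega_omega hz]

/-- The characters with core `c` after at most a twist by the sign. -/
def coreSetPair (N p : ℕ) (c : ℕ → ℕ) : Set (IrrCharacter (Equiv.Perm (Fin n))) :=
  {ψ | ψ ∈ coreSet (n := n) N p c ∨ sgnIrr ψ ∈ coreSet (n := n) N p c}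

theorem coreSetPair_spec {M : Ideal AlgInt} (hM : IsPModular p M) (hn : n ≤ N) (c : ℕ → ℕ) :
    Blocks.blockInd (coreSetPair (n := n) N p c) ∈ Blocks.intRing hM ∧
      ∀ g : Equiv.Perm (Fin n), g ∉ alternatingGroup (Fin n) →
        Blocks.ofOmega (Blocks.blockInd (coreSetPair (n := n) N p c)) g = 0 := by
  classical
  have := Fintype.ofFinite (IrrCharacter (Equiv.Perm (Fin n)))
  set e := Blocks.blockInd (coreSet (n := n) N p c) with he
  set e' : IrrCharacter (Equiv.Perm (Fin n)) → ℂ := fun ψ => e (sgnIrr ψ) with he'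
  let eqv : IrrCharacter (Equiv.Perm (Fin n)) ≃ IrrCharacter (Equiv.Perm (Fin n)) :=
    ⟨sgnIrr, sgnIrr, sgnIrr_sgnIrr, sgnIrr_sgnIrr⟩
  have htwist : ∀ (f : IrrCharacter (Equiv.Perm (Fin n)) → ℂ) (g : Equiv.Perm (Fin n)),
      Blocks.ofOmega (fun ψ => f (sgnIrr ψ)) g = sgnC g * Blocks.ofOmega f g := by
    intro f g
    rw [Blocks.ofOmega_eq_sum, Blocks.ofOmega_eq_sum, ← mul_assoc, mul_comm (sgnC g), mul_assoc]
    congr 1
    rw [Finset.mul_sum]
    refine Fintype.sum_equiv eqv _ _ fun ψ => ?_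
    show _ = sgnC g * (f (sgnIrr ψ) * (sgnIrr ψ : Equiv.Perm (Fin n) → ℂ) 1 *
      conj ((sgnIrr ψ : Equiv.Perm (Fin n) → ℂ) g))
    rw [sgnIrr_apply, sgnIrr_apply, sgnC_of_mem (Subgroup.one_mem _), mul_one, map_mul, conj_sgnC]
    have hsq := sgnC_mul_self g
    linear_combination -(f (sgnIrr ψ) * (ψ : Equiv.Perm (Fin n) → ℂ) 1 *
      conj ((ψ : Equiv.Perm (Fin n) → ℂ) g)) * hsq
  have hei := blockInd_coreSet_intRing (n := n) hM hn c
  have he'i : e' ∈ Blocks.intRing hM := by
    intro g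
    show MemLocalRing M (Blocks.ofOmega e' g)
    rw [he', htwist]
    exact Blocks.memR_mul hM (Blocks.memR_of_isIntegral hM isIntegral_algebraMap) (hei g)
  have hU : Blocks.blockInd (coreSetPair (n := n) N p c) = 1 - (1 - e) * (1 - e') := by
    funext ψ
    simp only [Pi.sub_apply, Pi.mul_apply, Pi.one_apply, he', he]
    by_cases h1 : ψ ∈ coreSet (n := n) N p c
    · rw [Blocks.blockInd_of_mem h1, Blocks.blockInd_of_mem (B := coreSetPair N p c) (Or.inl h1)]
      ring
    by_cases h2 : sgnIrr ψ ∈ coreSet (n := n) N p c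
    · rw [Blocks.blockInd_of_mem h2, Blocks.blockInd_of_mem (B := coreSetPair N p c) (Or.inr h2)]
      ring
    · rw [Blocks.blockInd_of_notMem h1, Blocks.blockInd_of_notMem h2,
        Blocks.blockInd_of_notMem fun h => h.elim h1 h2]
      ring
  refine ⟨hU ▸ (Blocks.intRing hM).sub_mem (Blocks.intRing hM).one_mem
    ((Blocks.intRing hM).mul_mem ((Blocks.intRing hM).sub_mem (Blocks.intRing hM).one_mem hei)
      ((Blocks.intRing hM).sub_mem (Blocks.intRing hM).one_mem he'i)), fun g hg => ?_⟩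
  have hinv : (fun ψ => Blocks.blockInd (coreSetPair (n := n) N p c) (sgnIrr ψ))
      = Blocks.blockInd (coreSetPair (n := n) N p c) := by
    funext ψ
    simp only [hU, Pi.sub_apply, Pi.mul_apply, Pi.one_apply, he', sgnIrr_sgnIrr]
    ring
  have h1 := htwist (Blocks.blockInd (coreSetPair (n := n) N p c)) g
  rw [hinv, sgnC_of_notMem hg] at h1
  linear_combination h1 / 2

/-- The block of the alternating group under a character with core `c`. -/
theorem alt_block_subset {M : Ideal AlgInt} (hM : IsPModular p M) (hn : n ≤ N)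
    {B : Set (IrrCharacter (alternatingGroup (Fin n)))} (hB : IsPBlock M B)
    {ξ : IrrCharacter (alternatingGroup (Fin n))} (hξ : ξ ∈ B)
    {ψ : IrrCharacter (Equiv.Perm (Fin n))} {c : ℕ → ℕ} (hψ : ψ ∈ coreSet (n := n) N p c)
    (hover : classInner (resA n (ψ : Equiv.Perm (Fin n) → ℂ))
      (ξ : alternatingGroup (Fin n) → ℂ) ≠ 0) :
    B ⊆ overSet (coreSetPair (n := n) N p c) := fun η hη => by
  obtain ⟨hU, hodd⟩ := coreSetPair_spec hM hn c
  exact Blocks.mem_of_sameBlock hM (overSet_spec hM hU hodd).1 ⟨ψ, Or.inl hψ, hover⟩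
    (Blocks.sameBlock_of_mem hM hB hξ hη)

open Classical in
/-- The self-conjugate characters with a given core. -/
noncomputable def selfConj (N n p : ℕ) (c : ℕ → ℕ) : Finset (IrrCharacter (Equiv.Perm (Fin n))) :=
  haveI := Fintype.ofFinite (IrrCharacter (Equiv.Perm (Fin n)))
  Finset.univ.filter fun ψ => sgnIrr ψ = ψ ∧ ψ ∈ coreSet (n := n) N p c

theorem mem_selfConj {c : ℕ → ℕ} {ψ : IrrCharacter (Equiv.Perm (Fin n))} :
    ψ ∈ selfConj N n p c ↔ sgnIrr ψ = ψ ∧ ψ ∈ coreSet (n := n) N p c := by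
  classical
  simp [selfConj]

/-- The `p`-regular rank is at most the number of generators plus the self-conjugate characters. -/
theorem blockRank_alt_le (hn2 : 2 ≤ n) (hn : n ≤ N) {c : ℕ → ℕ}
    {B : Set (IrrCharacter (alternatingGroup (Fin n)))}
    (hB : B ⊆ overSet (coreSetPair (n := n) N p c)) (gens : Finset (Finset ℕ))
    (hspan : ∀ β : Fin N → ℕ, cnt p β = c → resA n (pRegularPart p (chi N β)) ∈
      Submodule.span ℂ ((fun S => resA n (pRegularPart p (chi N (tupleOf N S)))) ''
        (gens : Set (Finset ℕ)))) :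
    blockRank p B ≤ gens.card + (selfConj N n p c).card := by
  classical
  have hch : ∀ ψ : IrrCharacter (Equiv.Perm (Fin n)), ∃ ξ₁ : IrrCharacter (alternatingGroup (Fin n)),
      sgnIrr ψ = ψ → ∀ ξ : IrrCharacter (alternatingGroup (Fin n)),
        classInner (resA n (ψ : Equiv.Perm (Fin n) → ℂ)) (ξ : alternatingGroup (Fin n) → ℂ) ≠ 0 →
        ξ = ξ₁ ∨ (ξ : alternatingGroup (Fin n) → ℂ)
          = resA n (ψ : Equiv.Perm (Fin n) → ℂ) - (ξ₁ : alternatingGroup (Fin n) → ℂ) := by
    intro ψ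
    by_cases h : sgnIrr ψ = ψ
    · obtain ⟨ξ₁, hξ₁⟩ := res_split hn2 h
      exact ⟨ξ₁, fun _ => hξ₁⟩
    · obtain ⟨ξ₁, -⟩ := BlocksNormal.exists_constituent (alternatingGroup (Fin n)) ψ
      exact ⟨ξ₁, fun hh => absurd hh h⟩
  choose first hfirst using hch
  let G1 := gens.image fun S => resA n (pRegularPart p (chi N (tupleOf N S)))
  let G2 := (selfConj N n p c).image fun ψ =>
    pRegularPart p (first ψ : alternatingGroup (Fin n) → ℂ)
  let W : Submodule ℂ (alternatingGroup (Fin n) → ℂ) :=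
    Submodule.span ℂ ((G1 ∪ G2 : Finset _) : Set (alternatingGroup (Fin n) → ℂ))
  have hG1 : Submodule.span ℂ (G1 : Set (alternatingGroup (Fin n) → ℂ)) ≤ W :=
    Submodule.span_mono (Finset.coe_subset.mpr Finset.subset_union_left)
  have hplus : ∀ φ ∈ coreSet (n := n) N p c,
      pRegularPart p (resA n (φ : Equiv.Perm (Fin n) → ℂ)) ∈ W := by
    rintro φ ⟨β, hβ, hne, hc⟩
    have hφ : (φ : Equiv.Perm (Fin n) → ℂ)
        = (coef N β φ)⁻¹ • (chi N β : Equiv.Perm (Fin n) → ℂ) := by
      rw [chi_eq_coef_smul hn hβ hne, inv_smul_smul₀ hne]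
    have hsm : pRegularPart p (φ : Equiv.Perm (Fin n) → ℂ)
        = (coef N β φ)⁻¹ • pRegularPart p (chi N β : Equiv.Perm (Fin n) → ℂ) := by
      funext σ
      simp only [pRegularPart, Pi.smul_apply, congrFun hφ σ, smul_eq_mul]
      split_ifs <;> simp
    rw [pRegularPart_resA, hsm, map_smul]
    refine W.smul_mem _ (hG1 ?_)
    simpa only [G1, Finset.coe_image] using hspan β hc
  have hle : Submodule.span ℂ ((fun χ : IrrCharacter (alternatingGroup (Fin n)) =>
      pRegularPart p (χ : alternatingGroup (Fin n) → ℂ)) '' B) ≤ W := by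
    rw [Submodule.span_le]
    rintro _ ⟨ξ, hξ, rfl⟩
    show pRegularPart p (ξ : alternatingGroup (Fin n) → ℂ) ∈ W
    obtain ⟨φ₀, hφU, hover₀⟩ := hB hξ
    obtain ⟨φ, hφc, hover⟩ : ∃ φ ∈ coreSet (n := n) N p c,
        classInner (resA n (φ : Equiv.Perm (Fin n) → ℂ))
          (ξ : alternatingGroup (Fin n) → ℂ) ≠ 0 := by
      rcases hφU with h | h
      · exact ⟨φ₀, h, hover₀⟩
      · exact ⟨sgnIrr φ₀, h, by rwa [resA_sgnIrr]⟩
    by_cases hsc : sgnIrr φ = φ
    · have hmem2 : pRegularPart p (first φ : alternatingGroup (Fin n) → ℂ) ∈ W :=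
        Submodule.subset_span (Finset.mem_coe.mpr (Finset.mem_union_right _
          (Finset.mem_image_of_mem _ (mem_selfConj.mpr ⟨hsc, hφc⟩))))
      rcases hfirst φ hsc ξ hover with h | h
      · rwa [h]
      · have e : pRegularPart p (ξ : alternatingGroup (Fin n) → ℂ)
            = pRegularPart p (resA n (φ : Equiv.Perm (Fin n) → ℂ))
              - pRegularPart p (first φ : alternatingGroup (Fin n) → ℂ) := by
          funext a
          simp only [pRegularPart, congrFun h a, Pi.sub_apply]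
          split_ifs <;> simp
        rw [e]
        exact W.sub_mem (hplus φ hφc) hmem2
    · have heq : resA n (φ : Equiv.Perm (Fin n) → ℂ) = (ξ : alternatingGroup (Fin n) → ℂ) := by
        by_contra hne
        exact hover (Char.classInner_irr_of_ne (res_irr_of_ne hn2 hsc) ξ.2 hne)
      rw [← heq]
      exact hplus φ hφc
  refine le_trans (Submodule.finrank_mono hle) ((finrank_span_finset_le_card _).trans ?_)
  exact (Finset.card_union_le _ _).trans (Nat.add_le_add Finset.card_image_le Finset.card_image_le)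

/-- The bead set of a self-conjugate character is its own mirror. -/
theorem mirror_of_selfConj (hn : n ≤ N) {ψ : IrrCharacter (Equiv.Perm (Fin n))}
    (h : sgnIrr ψ = ψ) {β : Fin N → ℕ} (hβ : β ∈ lev N n) (hne : coef N β ψ ≠ 0) :
    mirrorSet N (Finset.univ.image β) = Finset.univ.image β := by
  classical
  obtain ⟨α, hα, hsum, -, -, huniq⟩ := exists_label hn ψ
  obtain ⟨π, rfl⟩ := huniq β hβ hne
  have himg : Finset.univ.image (α ∘ π) = Finset.univ.image α := by
    rw [← Finset.image_image, Finset.image_univ_of_surjective π.surjective]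
  rw [himg]
  have hlt := lt_of_level hα hsum hn
  have hltS : ∀ x ∈ Finset.univ.image α, x < N + N := by
    intro x hx
    obtain ⟨i, -, rfl⟩ := Finset.mem_image.mp hx
    exact hlt i
  have hcard : (Finset.univ.image α).card = N := by
    rw [Finset.card_image_of_injective _ hα, Finset.card_fin]
  have hcm := card_mirrorSet hltS hcard
  set γ : Fin N → ℕ := ⇑((mirrorSet N (Finset.univ.image α)).orderEmbOfFin hcm) with hγ
  have hγimg : Finset.univ.image γ = mirrorSet N (Finset.univ.image α) :=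
    Finset.image_orderEmbOfFin_univ _ hcm
  have hγinj : Function.Injective γ := (Finset.orderEmbOfFin _ hcm).injective
  obtain ⟨e, he, hchi⟩ := chi_mirror (n := n) (mirrored_tupleOf hα hlt hγinj hγimg)
  have hγlev : γ ∈ lev N n := by
    rw [mem_lev, ← hsum, ← Finset.sum_image (f := fun x => x) hγinj.injOn, hγimg,
      sum_mirrorSet hltS hcard, Finset.sum_image hα.injOn]
  have hαne : coef N α ψ ≠ 0 := by
    intro h0
    rw [coef_comp, h0, mul_zero] at hne
    exact hne rfl
  have hγne : coef N γ ψ ≠ 0 := by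
    have hval : (chi N γ : Equiv.Perm (Fin n) → ℂ)
        = fun σ => (e * coef N α ψ) * (ψ : Equiv.Perm (Fin n) → ℂ) σ := by
      funext σ
      rw [hchi, congrFun (chi_eq_coef_smul hn (mem_lev.mpr hsum) hαne) σ, Pi.smul_apply,
        smul_eq_mul]
      have h2 : (ψ : Equiv.Perm (Fin n) → ℂ) σ
          = (ψ : Equiv.Perm (Fin n) → ℂ) σ * sgnC σ := by rw [← sgnIrr_apply, h]
      linear_combination -(e * coef N α ψ) * h2
    have he0 : e * coef N α ψ ≠ 0 :=
      mul_ne_zero (fun e0 => by rw [e0, mul_zero] at he; exact zero_ne_one he) hαne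
    intro h0
    apply he0
    have hcl : coef N γ ψ = (e * coef N α ψ)
        * classInner (ψ : Equiv.Perm (Fin n) → ℂ) (ψ : Equiv.Perm (Fin n) → ℂ) := by
      rw [coef, hval, classInner, classInner]
      simp only [mul_assoc, ← Finset.mul_sum]
      ring
    rw [h0, Char.classInner_irr_self ψ.2, mul_one] at hcl
    exact hcl.symm
  obtain ⟨π', hπ'⟩ := huniq γ hγlev hγne
  rw [← hγimg, hπ', ← Finset.image_image, Finset.image_univ_of_surjective π'.surjective]

/-- The number of self-conjugate characters is bounded by the self-mirrored bead sets. -/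
theorem card_selfConj_le (hn : n ≤ N) {α₀ : Fin N → ℕ} {w : ℕ}
    (hsum : ∑ i, α₀ i = stair N + n) (hw : ∑ i, α₀ i = (∑ i, core0 p α₀ i) + p * w) :
    (selfConj N n p (cnt p α₀)).card ≤ (symExact p α₀ w).card := by
  classical
  choose lab hlab using fun ψ : IrrCharacter (Equiv.Perm (Fin n)) => exists_label hn ψ
  refine Finset.card_le_card_of_injOn (fun ψ => Finset.univ.image (lab ψ)) ?_ ?_
  · intro ψ hψ
    simp only [Finset.mem_coe] at hψ ⊢
    rw [mem_selfConj] at hψ
    obtain ⟨hinj, hs, hε, -, huniq⟩ := hlab ψ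
    have hne : coef N (lab ψ) ψ ≠ 0 := by rcases hε with h | h <;> simp [h]
    obtain ⟨β, hβ, hβne, hc⟩ := hψ.2
    rw [mem_symExact]
    refine ⟨mirror_of_selfConj hn hψ.1 (mem_lev.mpr hs) hne, ?_, ?_⟩
    · rw [cntS_image hinj, ← hc]
      exact cnt_unique hn (mem_lev.mpr hs) hβ hne hβne
    · rw [Finset.sum_image hinj.injOn, hs, ← hsum, hw]
  · intro ψ _ φ _ he
    simp only at he
    obtain ⟨hinj, hs, hε, hchi, -⟩ := hlab ψ
    obtain ⟨hinj', -, hε', hchi', -⟩ := hlab φ
    have hrange : ∀ i, ∃ j, lab ψ j = lab φ i := by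
      intro i
      have h1 : lab φ i ∈ Finset.univ.image (lab ψ) := he ▸ Finset.mem_image_of_mem _ (Finset.mem_univ i)
      obtain ⟨j, -, hj⟩ := Finset.mem_image.mp h1
      exact ⟨j, hj⟩
    choose π₀ hπ₀ using hrange
    have hbij : Function.Bijective π₀ := Finite.injective_iff_bijective.mp fun a b h => hinj' (by
      rw [← hπ₀ a, ← hπ₀ b, h])
    have hcomp : lab φ = lab ψ ∘ Equiv.ofBijective π₀ hbij := funext fun i => (hπ₀ i).symm
    have hne' : coef N (lab φ) φ ≠ 0 := by rcases hε' with h | h <;> simp [h]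
    have hone : (1 : ℂ) = 0 ∨ ψ = φ := by
      by_cases hψφ : ψ = φ
      · exact Or.inr hψφ
      left
      have h0 : coef N (lab ψ) φ = 0 := by
        rw [coef, hchi]
        simp only [classInner, Pi.smul_apply, smul_eq_mul, mul_assoc, ← Finset.mul_sum]
        have := Char.classInner_irr_of_ne ψ.2 φ.2 fun e => hψφ (Subtype.ext e)
        rw [classInner] at this
        rw [mul_left_comm, this, mul_zero]
      rw [hcomp, coef_comp, h0, mul_zero] at hne'
      exact absurd rfl hne'
    exact hone.resolve_left one_ne_zero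

end Cfsg.Agent.SymBlocks
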