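import Cfsg.Agent.Lib.SymBlocks.PWreath
import Cfsg.Agent.Lib.SymBlocks.AltDefect

/-!
# Sylow subgroups of alternating groups on the support of the weight

`evenSub`, `partSub`: the even part of a Sylow subgroup of the wreath product inside the alternating
group; its order, and its character of degree `p`.
-/

set_option autoImplicit false

open Finset

namespace Cfsg.Agent.SymBlocks

open Cfsg

variable {n m w p : ℕ}

/-- The even part of the wreath product. -/
noncomputable def evenSub (e : (Fin w × ZMod p) ⊕ Fin m ≃ Fin n) : Subgroup (WR p w) :=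
  (alternatingGroup (Fin n)).comap (wreathHom e)

/-- The even permutations in the image of a part of the wreath product. -/
noncomputable def partSub (e : (Fin w × ZMod p) ⊕ Fin m ≃ Fin n)
    (Q : Subgroup (Equiv.Perm (Fin w))) : Subgroup (alternatingGroup (Fin n)) :=
  ((Q.comap SemidirectProduct.rightHom).map (wreathHom e)).comap (alternatingGroup (Fin n)).subtype

/-- The parametrisation of `partSub`. -/
noncomputable def partEquiv (hp : 0 < p) (e : (Fin w × ZMod p) ⊕ Fin m ≃ Fin n)
    (Q : Subgroup (Equiv.Perm (Fin w))) :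
    ↥(Q.comap SemidirectProduct.rightHom ⊓ evenSub e) ≃* partSub e Q :=
  MulEquiv.ofBijective
    ({ toFun := fun g => ⟨⟨wreathHom e g, g.2.2⟩, ⟨g, g.2.1, rfl⟩⟩
       map_one' := Subtype.ext (Subtype.ext (map_one (wreathHom e)))
       map_mul' := fun a b => Subtype.ext (Subtype.ext (map_mul (wreathHom e) (a : WR p w) b)) } :
      ↥(Q.comap SemidirectProduct.rightHom ⊓ evenSub e) →* partSub e Q)
    ⟨fun a b h => Subtype.ext (wreathHom_injective hp e
        (congrArg (fun z : partSub e Q => ((z : alternatingGroup (Fin n)) : Equiv.Perm (Fin n))) h)),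
      fun z => by
        obtain ⟨g, hg, he⟩ := z.2
        refine ⟨⟨g, hg, ?_⟩, Subtype.ext (Subtype.ext he)⟩
        show wreathHom e g ∈ alternatingGroup (Fin n)
        rw [he]
        exact (z : alternatingGroup (Fin n)).2⟩

theorem sylow_card_perm [hp : Fact p.Prime] (T : Sylow p (Equiv.Perm (Fin w))) :
    Nat.card T = p ^ padicValNat p w.factorial := by
  rw [Sylow.card_eq_multiplicity, Nat.card_perm, Nat.card_fin, Nat.factorization_def _ hp.out]

theorem partSub_apply_inr {e : (Fin w × ZMod p) ⊕ Fin m ≃ Fin n}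
    {Q : Subgroup (Equiv.Perm (Fin w))} {z : alternatingGroup (Fin n)} (hz : z ∈ partSub e Q)
    (b : Fin m) : (z : Equiv.Perm (Fin n)) (e (Sum.inr b)) = e (Sum.inr b) := by
  obtain ⟨g, -, hg⟩ := hz
  rw [show (z : Equiv.Perm (Fin n)) = wreathHom e g from hg.symm, wreathHom_inr]

/-- A permutation fixing the support centralises the wreath product. -/
theorem commute_of_fix {e : (Fin w × ZMod p) ⊕ Fin m ≃ Fin n} {z g : Equiv.Perm (Fin n)}
    (hz : ∀ b, z (e (Sum.inr b)) = e (Sum.inr b))
    (hg : ∀ a, g (e (Sum.inl a)) = e (Sum.inl a)) : Commute z g := by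
  refine Equiv.ext fun x => ?_
  obtain ⟨c, rfl⟩ := e.surjective x
  rw [Equiv.Perm.mul_apply, Equiv.Perm.mul_apply]
  rcases c with a | b
  · obtain ⟨c', hc'⟩ := e.surjective (z (e (Sum.inl a)))
    rcases c' with a' | b'
    · rw [hg, ← hc', hg]
    · exact absurd (z.injective ((hz b').trans hc')) fun h => Sum.inr_ne_inl (e.injective h)
  · obtain ⟨c', hc'⟩ := e.surjective (g (e (Sum.inr b)))
    rcases c' with a' | b'
    · exact absurd (g.injective ((hg a').trans hc')) fun h => Sum.inl_ne_inr (e.injective h)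
    · rw [hz, ← hc', hz]

theorem wreathHom_inl_eq (e : (Fin w × ZMod p) ⊕ Fin m ≃ Fin n)
    (f : Multiplicative (Fin w → ZMod p)) :
    wreathHom e (SemidirectProduct.inl f) = cyclesHom e f := SemidirectProduct.lift_inl _ _ _ f

theorem wreathHom_inr_eq (e : (Fin w × ZMod p) ⊕ Fin m ≃ Fin n) (σ : Equiv.Perm (Fin w)) :
    wreathHom e (SemidirectProduct.inr σ) = blockHom e σ := SemidirectProduct.lift_inr _ _ _ σ

theorem sign_of_pow_odd {g : Equiv.Perm (Fin n)} {k : ℕ} (hk : Odd k) (hg : g ^ k = 1) :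
    g ∈ alternatingGroup (Fin n) := by
  rw [Equiv.Perm.mem_alternatingGroup]
  have h1 := congrArg Equiv.Perm.sign hg
  obtain ⟨j, rfl⟩ := hk
  rwa [map_pow, map_one, pow_succ, pow_mul, pow_two, Int.units_mul_self, one_pow, one_mul] at h1

theorem isPGroup_comap [hp : Fact p.Prime] {Q : Subgroup (Equiv.Perm (Fin w))} (hQ : IsPGroup p Q) :
    IsPGroup p (Q.comap (SemidirectProduct.rightHom : WR p w →* Equiv.Perm (Fin w))) := by
  have : NeZero p := ⟨hp.out.ne_zero⟩
  obtain ⟨k, hk⟩ := hQ.exists_card_eq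
  exact IsPGroup.of_card (n := w + k) (by rw [card_WR_comap, hk, pow_add])

theorem comap_le_evenSub_of_odd [hp : Fact p.Prime] (hp2 : p ≠ 2)
    (e : (Fin w × ZMod p) ⊕ Fin m ≃ Fin n) {Q : Subgroup (Equiv.Perm (Fin w))} (hQ : IsPGroup p Q) :
    Q.comap (SemidirectProduct.rightHom : WR p w →* Equiv.Perm (Fin w)) ≤ evenSub e := by
  intro g hg
  obtain ⟨k, hk⟩ := isPGroup_comap hQ ⟨g, hg⟩
  have h1 : g ^ p ^ k = 1 := congrArg Subtype.val hk
  exact sign_of_pow_odd ((hp.out.odd_of_ne_two hp2).pow (n := k)) (by rw [← map_pow, h1, map_one])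

theorem inr_mem_evenSub_two (e : (Fin w × ZMod 2) ⊕ Fin m ≃ Fin n) (σ : Equiv.Perm (Fin w)) :
    SemidirectProduct.inr σ ∈ evenSub e := by
  show wreathHom e _ ∈ alternatingGroup (Fin n)
  rw [wreathHom_inr_eq, Equiv.Perm.mem_alternatingGroup, sign_blockHom, sq, Int.units_mul_self]

theorem sign_single_two (e : (Fin w × ZMod 2) ⊕ Fin m ≃ Fin n) (i : Fin w) :
    Equiv.Perm.sign (cyclesHom e (Multiplicative.ofAdd (Pi.single i (1 : ZMod 2)))) = -1 := by
  classical
  show Equiv.Perm.sign (e.permCongr _) = _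
  rw [Equiv.Perm.sign_permCongr, show ∀ (x : Equiv.Perm (Fin w × ZMod 2)),
      Equiv.sumCongr x (Equiv.refl (Fin m)) = Equiv.Perm.sumCongr x 1 from fun _ => rfl,
    Equiv.Perm.sign_sumCongr, map_one, mul_one, Equiv.Perm.sign_prodCongrRight,
    Finset.prod_eq_single i]
  · simp only [toAdd_ofAdd, Pi.single_eq_same]
    decide
  · intro j _ hj
    simp only [toAdd_ofAdd, Pi.single_eq_of_ne hj]
    decide
  · exact fun h => absurd (Finset.mem_univ i) h

/-- The order of the even part of a Sylow subgroup. -/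
theorem card_partSub [hp : Fact p.Prime] (hw : 1 ≤ w) (e : (Fin w × ZMod p) ⊕ Fin m ≃ Fin n)
    (T : Sylow p (Equiv.Perm (Fin w))) :
    Nat.card (partSub e (T : Subgroup (Equiv.Perm (Fin w))))
      = p ^ (w + padicValNat p w.factorial - if p = 2 then 1 else 0) := by
  have : NeZero p := ⟨hp.out.ne_zero⟩
  have : Finite (WR p w) := Finite.of_equiv _ SemidirectProduct.equivProd.symm
  rw [← Nat.card_congr (partEquiv hp.out.pos e _).toEquiv]
  have hP : Nat.card ((T : Subgroup (Equiv.Perm (Fin w))).comap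
      (SemidirectProduct.rightHom : WR p w →* Equiv.Perm (Fin w)))
      = p ^ (w + padicValNat p w.factorial) := by
    rw [card_WR_comap, show Nat.card (T : Subgroup (Equiv.Perm (Fin w))) = _ from sylow_card_perm T,
      pow_add]
  by_cases hp2 : p = 2
  · subst hp2
    rw [if_pos rfl]
    set P := (T : Subgroup (Equiv.Perm (Fin w))).comap
      (SemidirectProduct.rightHom : WR 2 w →* Equiv.Perm (Fin w))
    set χ : P →* ℤˣ := (Equiv.Perm.sign.comp (wreathHom e)).comp P.subtype
    have hker : Nat.card χ.ker = Nat.card ↥(P ⊓ evenSub e) := Nat.card_congr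
      { toFun := fun g => ⟨g.1.1, g.1.2, Equiv.Perm.mem_alternatingGroup.mpr g.2⟩
        invFun := fun g => ⟨⟨g.1, g.2.1⟩, Equiv.Perm.mem_alternatingGroup.mp g.2.2⟩
        left_inv := fun _ => rfl
        right_inv := fun _ => rfl }
    have hsurj : Function.Surjective χ := by
      intro u
      rcases Int.units_eq_one_or u with rfl | rfl
      · exact ⟨1, map_one χ⟩
      · refine ⟨⟨SemidirectProduct.inl (Multiplicative.ofAdd (Pi.single ⟨0, hw⟩ 1)),
          by simp [P]⟩, ?_⟩
        show Equiv.Perm.sign (wreathHom e (SemidirectProduct.inl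
          (Multiplicative.ofAdd (Pi.single ⟨0, hw⟩ 1)))) = -1
        rw [wreathHom_inl_eq, sign_single_two]
    have h1 := χ.ker.card_mul_index
    rw [Subgroup.index_ker, MonoidHom.range_eq_top.mpr hsurj, Subgroup.card_top, hker, hP,
      show Nat.card ℤˣ = 2 by rw [Nat.card_eq_fintype_card]; rfl] at h1
    have h2 : 2 ^ (w + padicValNat 2 w.factorial)
        = 2 ^ (w + padicValNat 2 w.factorial - 1) * 2 := by
      rw [← pow_succ]
      congr 1
      omega
    omega
  · rw [if_neg hp2, Nat.sub_zero, inf_eq_left.mpr (comap_le_evenSub_of_odd hp2 e T.isPGroup'), hP]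

theorem charDegree_comp_equiv {G H : Type*} [Group G] [Group H] (e : H ≃* G) (f : G → ℂ) :
    charDegree (f ∘ e) = charDegree f := by
  simp [charDegree]

theorem exists_irr_degree_equiv {G H : Type*} [Group G] [Group H] (e : H ≃* G) {d : ℕ}
    (h : ∃ φ : IrrCharacter G, charDegree (φ : G → ℂ) = d) :
    ∃ φ : IrrCharacter H, charDegree (φ : H → ℂ) = d := by
  obtain ⟨φ, hφ⟩ := h
  exact ⟨⟨(φ : G → ℂ) ∘ e, Char.IsIrrCharacter.comp_equiv φ.2 e⟩,
    (charDegree_comp_equiv e _).trans hφ⟩

theorem exists_moved [hp : Fact p.Prime] (hw : p ≤ w) (T : Sylow p (Equiv.Perm (Fin w))) :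
    ∃ i, ∃ q ∈ (T : Subgroup (Equiv.Perm (Fin w))), q i ≠ i := by
  by_contra h
  push Not at h
  have h1 : (T : Subgroup (Equiv.Perm (Fin w))) = ⊥ :=
    (Subgroup.eq_bot_iff_forall _).mpr fun q hq => Equiv.ext fun i => h i q hq
  have h2 := sylow_card_perm T
  rw [show Nat.card T = Nat.card (T : Subgroup (Equiv.Perm (Fin w))) from rfl, h1,
    Subgroup.card_bot] at h2
  have h3 : 1 ≤ padicValNat p w.factorial := one_le_padicValNat_of_dvd (Nat.factorial_ne_zero w)
    ((Nat.Prime.dvd_factorial hp.out).mpr hw)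
  have := Nat.one_lt_pow (a := p) (n := padicValNat p w.factorial) (by omega) hp.out.one_lt
  omega

theorem exists_irr_degree_comap [hp : Fact p.Prime] (hw : p ≤ w)
    (T : Sylow p (Equiv.Perm (Fin w))) :
    ∃ φ : IrrCharacter ↥((T : Subgroup (Equiv.Perm (Fin w))).comap
        (SemidirectProduct.rightHom : WR p w →* Equiv.Perm (Fin w))),
      charDegree (φ : ↥((T : Subgroup (Equiv.Perm (Fin w))).comap
        (SemidirectProduct.rightHom : WR p w →* Equiv.Perm (Fin w))) → ℂ) = p := by
  classical
  obtain ⟨i, hi⟩ := exists_moved hw T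
  refine exists_irr_degree_equiv (MulEquiv.subgroupCongr (inf_top_eq _).symm)
    (exists_irr_degree_wreath T.isPGroup' ⊤ (fun _ _ => Subgroup.mem_top _) hi
      (v := Pi.single i 1) (Subgroup.mem_top _) (Pi.single_eq_same i 1) fun k hk _ =>
        Pi.single_eq_of_ne hk _)

/-- For `p ≤ w` (and `3 ≤ w` when `p = 2`) the even part has a character of degree `p`. -/
theorem exists_irr_degree_partSub [hp : Fact p.Prime] (hw : p ≤ w) (h3 : p = 2 → 3 ≤ w)
    (e : (Fin w × ZMod p) ⊕ Fin m ≃ Fin n) (T : Sylow p (Equiv.Perm (Fin w))) :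
    ∃ φ : IrrCharacter (partSub e (T : Subgroup (Equiv.Perm (Fin w)))),
      charDegree (φ : partSub e (T : Subgroup (Equiv.Perm (Fin w))) → ℂ) = p := by
  classical
  refine exists_irr_degree_equiv (partEquiv hp.out.pos e _).symm ?_
  by_cases hp2 : p = 2
  swap
  · exact exists_irr_degree_equiv (MulEquiv.subgroupCongr
      (inf_eq_left.mpr (comap_le_evenSub_of_odd hp2 e T.isPGroup'))) (exists_irr_degree_comap hw T)
  subst hp2
  have h3' := h3 rfl
  rcases Nat.lt_or_ge w 4 with h4 | h4
  · obtain rfl : w = 3 := by omega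
    obtain ⟨i, hi⟩ := exists_moved hw T
    -- the third point is fixed by the two-element group
    have hcard : Nat.card (T : Subgroup (Equiv.Perm (Fin 3))) = 2 := by
      rw [show Nat.card (T : Subgroup (Equiv.Perm (Fin 3))) = _ from sylow_card_perm T]
      have : padicValNat 2 (Nat.factorial 3) = 1 := by
        rw [show Nat.factorial 3 = 2 * 3 from rfl, padicValNat.mul two_ne_zero (by norm_num),
          padicValNat_self, padicValNat.eq_zero_of_not_dvd (by norm_num)]
      rw [this, pow_one]
    obtain ⟨q, hq, hqi⟩ := hi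
    have hall : ∀ r ∈ (T : Subgroup (Equiv.Perm (Fin 3))), r = 1 ∨ r = q := by
      intro r hr
      by_contra hne
      push Not at hne
      have hle : ({1, q, r} : Finset (Equiv.Perm (Fin 3))).card
          ≤ Nat.card (T : Subgroup (Equiv.Perm (Fin 3))) := by
        rw [← Nat.card_eq_finsetCard]
        refine Nat.card_le_card_of_injective (fun z => ⟨z.1, ?_⟩) fun a b h => Subtype.ext
          (congrArg Subtype.val h :)
        have := z.2
        simp only [Finset.mem_insert, Finset.mem_singleton] at this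
        rcases this with h | h | h <;> rw [h]
        exacts [Subgroup.one_mem _, hq, hr]
      have hq1 : (1 : Equiv.Perm (Fin 3)) ≠ q := fun h => hqi (by rw [← h]; rfl)
      rw [hcard, Finset.card_insert_of_notMem (by simp [hq1, hne.1.symm]),
        Finset.card_pair hne.2.symm] at hle
      omega
    obtain ⟨j, hji, hjq⟩ : ∃ j, j ≠ i ∧ j ≠ q i := by
      revert i
      intro i _
      have : ∀ a b : Fin 3, ∃ j, j ≠ a ∧ j ≠ b := by decide
      exact this _ _
    refine exists_irr_degree_wreath T.isPGroup' (evenSub e) (fun σ _ => inr_mem_evenSub_two e σ)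
      ⟨q, hq, hqi⟩ (v := Pi.single i 1 + Pi.single j 1) ?_
      (by rw [Pi.add_apply, Pi.single_eq_same, Pi.single_eq_of_ne hji.symm, add_zero]) ?_
    · show wreathHom e _ ∈ alternatingGroup (Fin n)
      rw [wreathHom_inl_eq, Equiv.Perm.mem_alternatingGroup, ofAdd_add, map_mul, map_mul,
        sign_single_two, sign_single_two, Int.units_mul_self]
    · rintro k hk ⟨r, hr, rfl⟩
      rcases hall r hr with rfl | rfl
      · exact absurd rfl hk
      · rw [Pi.add_apply, Pi.single_eq_of_ne hk, Pi.single_eq_of_ne (Ne.symm hjq), add_zero]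
  · -- inflate from a Sylow subgroup of `S_w`
    set P := (T : Subgroup (Equiv.Perm (Fin w))).comap
      (SemidirectProduct.rightHom : WR 2 w →* Equiv.Perm (Fin w)) ⊓ evenSub e
    let π : P →* (T : Subgroup (Equiv.Perm (Fin w))) :=
      (SemidirectProduct.rightHom.comp P.subtype).codRestrict _ fun g => g.2.1
    have hπ : Function.Surjective π := fun r =>
      ⟨⟨SemidirectProduct.inr r, r.2, inr_mem_evenSub_two e r⟩, Subtype.ext rfl⟩
    suffices ∃ φ : IrrCharacter ↥(T : Subgroup (Equiv.Perm (Fin w))),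
        charDegree (φ : ↥(T : Subgroup (Equiv.Perm (Fin w))) → ℂ) = 2 by
      obtain ⟨φ, hφ⟩ := this
      refine ⟨⟨_, Char.IsIrrCharacter.comp_surjective φ.2 π hπ⟩, Eq.trans ?_ hφ⟩
      simp [charDegree]
    -- the Sylow subgroup of `S_w` is that of a wreath product
    let e' : (Fin (w / 2) × ZMod 2) ⊕ Fin (w % 2) ≃ Fin w := Fintype.equivFinOfCardEq (by
      rw [Fintype.card_sum, Fintype.card_prod, Fintype.card_fin, Fintype.card_fin, ZMod.card]
      omega)
    obtain ⟨U⟩ : Nonempty (Sylow 2 (Equiv.Perm (Fin (w / 2)))) := inferInstance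
    set V := ((U : Subgroup (Equiv.Perm (Fin (w / 2)))).comap
      (SemidirectProduct.rightHom : WR 2 (w / 2) →* Equiv.Perm (Fin (w / 2)))).map (wreathHom e')
    have hV : Nat.card V = 2 ^ (Nat.card (Equiv.Perm (Fin w))).factorization 2 := by
      rw [← Nat.card_congr (Subgroup.equivMapOfInjective _ _ (wreathHom_injective two_pos e')).toEquiv,
        card_WR_comap, show Nat.card (U : Subgroup (Equiv.Perm (Fin (w / 2)))) = _ from
          sylow_card_perm U, ← pow_add, Nat.card_perm, Nat.card_fin,
        Nat.factorization_def _ Nat.prime_two]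
      congr 1
      conv_rhs => rw [← Nat.div_add_mod w 2]
      rw [padicValNat_factorial_mul_add _ (Nat.mod_lt w two_pos), padicValNat_factorial_mul,
        add_comm]
    have hEq := Sylow.equiv (Sylow.ofCard V hV) T
    exact exists_irr_degree_equiv (hEq.symm.trans
      (Subgroup.equivMapOfInjective _ _ (wreathHom_injective two_pos e')).symm)
      (exists_irr_degree_comap (by omega) U)

end Cfsg.Agent.SymBlocks
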