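import Cfsg.Agent.Lib.SymBlocks.Count
import Cfsg.Agent.Lib.Char.Perm
import Cfsg.Agent.Lib.Char.Virtual
import Cfsg.Agent.Lib.Char.Orth
import Cfsg.Agent.Lib.Blocks.CentralFun

/-!
# The irreducible characters of the symmetric group from the coefficient functions

`chi N α σ` is the coefficient of `x ^ α` in `Δ · p_σ`; `chi_isGeneralized`, `chi_column`, and
`exists_label`: every irreducible character is plus or minus `chi N α` for an essentially unique `α`.
-/

set_option autoImplicit false

open Finset Equiv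
open scoped ComplexConjugate

namespace Cfsg.Agent.SymBlocks

open Cfsg

variable {N n : ℕ}

/-! ### Cycle lengths through the orbit quotient -/

section Orbits

open scoped Classical

variable (σ : Equiv.Perm (Fin n))

/-- The orbit space of a permutation. -/
abbrev Orb : Type := Quotient (Equiv.Perm.SameCycle.setoid σ)

/-- The size of an orbit. -/
noncomputable def orbW (q : Orb σ) : ℕ :=
  (Finset.univ.filter fun a : Fin n => (⟦a⟧ : Orb σ) = q).card

theorem mk_eq_mk {a b : Fin n} : (⟦a⟧ : Orb σ) = ⟦b⟧ ↔ σ.SameCycle a b := Quotient.eq''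

theorem orbW_moved {q : Orb σ} (h : q.out ∈ σ.support) :
    orbW σ q = (σ.cycleOf q.out).support.card := by
  rw [orbW]
  congr 1
  ext a
  rw [Finset.mem_filter, Equiv.Perm.mem_support_cycleOf_iff]
  constructor
  · rintro ⟨-, ha⟩
    exact ⟨(mk_eq_mk σ).mp (by rw [Quotient.out_eq, ha]), h⟩
  · rintro ⟨ha, -⟩
    exact ⟨Finset.mem_univ _, by rw [← (mk_eq_mk σ).mpr ha, Quotient.out_eq]⟩

theorem orbW_fixed {q : Orb σ} (h : q.out ∉ σ.support) : orbW σ q = 1 := by
  rw [orbW, Finset.card_eq_one]
  refine ⟨q.out, Finset.ext fun a => ?_⟩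
  rw [Finset.mem_filter, Finset.mem_singleton]
  constructor
  · rintro ⟨-, ha⟩
    have hs : σ.SameCycle q.out a := (mk_eq_mk σ).mp (by rw [Quotient.out_eq, ha])
    have hfix : σ q.out = q.out := Equiv.Perm.notMem_support.mp h
    exact (hs.eq_of_left hfix).symm
  · rintro rfl
    exact ⟨Finset.mem_univ _, Quotient.out_eq _⟩

theorem map_orbW : (Finset.univ.val.map (orbW σ)) = σ.partition.parts := by
  rw [← Multiset.filter_add_not (fun q : Orb σ => q.out ∈ σ.support) Finset.univ.val,
    Multiset.map_add, Equiv.Perm.parts_partition]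
  congr 1
  · rw [Equiv.Perm.cycleType_def, Multiset.map_congr rfl fun q hq =>
      orbW_moved σ (Multiset.mem_filter.mp hq).2]
    refine Multiset.map_eq_map_of_bij_of_nodup _ _
      ((Finset.univ.nodup).filter _) σ.cycleFactorsFinset.nodup
      (fun q _ => σ.cycleOf q.out) ?_ ?_ ?_ ?_
    · intro q hq
      exact Equiv.Perm.cycleOf_mem_cycleFactorsFinset_iff.mpr (Multiset.mem_filter.mp hq).2
    · intro q hq q' hq' he
      have h1 : q'.out ∈ (σ.cycleOf q.out).support := by
        rw [he, Equiv.Perm.mem_support_cycleOf_iff]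
        exact ⟨Equiv.Perm.SameCycle.refl _ _, (Multiset.mem_filter.mp hq').2⟩
      rw [Equiv.Perm.mem_support_cycleOf_iff] at h1
      rw [← Quotient.out_eq q, ← Quotient.out_eq q']
      exact (mk_eq_mk σ).mpr h1.1
    · intro c hc0
      have hc : c ∈ σ.cycleFactorsFinset := hc0
      obtain ⟨a, ha⟩ := (Equiv.Perm.mem_cycleFactorsFinset_iff.mp hc).1.nonempty_support
      have hac : c = σ.cycleOf a := Equiv.Perm.cycle_is_cycleOf ha hc
      have has : a ∈ σ.support := Equiv.Perm.mem_cycleFactorsFinset_support_le hc ha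
      have hsc : σ.SameCycle a (⟦a⟧ : Orb σ).out :=
        (mk_eq_mk σ).mp (Quotient.out_eq _).symm
      refine ⟨⟦a⟧, Multiset.mem_filter.mpr
        ⟨(Finset.mem_univ (⟦a⟧ : Orb σ) : _), ?_⟩, ?_⟩
      · exact (hsc.mem_support_iff).mp has
      · rw [hac]
        exact (hsc.cycleOf_eq).symm
    · intro q _
      rfl
  · rw [Multiset.map_congr rfl fun q hq => orbW_fixed σ (Multiset.mem_filter.mp hq).2,
      Multiset.map_const', Fintype.card_fin]
    congr 1
    have hc : (Multiset.filter (fun q : Orb σ => ¬ q.out ∈ σ.support) Finset.univ.val).card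
        = (Finset.univ \ σ.support).card := by
      refine Finset.card_bij' (s := Finset.univ.filter fun q : Orb σ => ¬ q.out ∈ σ.support)
        (t := Finset.univ \ σ.support) (fun q _ => q.out) (fun a _ => ⟦a⟧) ?_ ?_ ?_ ?_
      · intro q hq
        exact Finset.mem_sdiff.mpr ⟨Finset.mem_univ _, (Finset.mem_filter.mp hq).2⟩
      · intro a ha
        refine Finset.mem_filter.mpr ⟨Finset.mem_univ _, fun h => (Finset.mem_sdiff.mp ha).2 ?_⟩
        exact (((mk_eq_mk σ).mp (Quotient.out_eq (⟦a⟧ : Orb σ)).symm).mem_support_iff).mpr h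
      · intro q _
        exact Quotient.out_eq q
      · intro a ha
        exact (((mk_eq_mk σ).mp (Quotient.out_eq (⟦a⟧ : Orb σ)).symm).eq_of_left
          (Equiv.Perm.notMem_support.mp (Finset.mem_sdiff.mp ha).2)).symm
    rw [hc, Finset.card_sdiff_of_subset (Finset.subset_univ _), Finset.card_fin]

end Orbits

/-! ### The expansion over assignments of cycles to variables -/

/-- The antisymmetrised count of assignments of weights `w` to the variables. -/
noncomputable def vF {O : Type*} [Fintype O] [DecidableEq O] (N : ℕ) (w : O → ℕ) : Fn N := fun α =>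
  ∑ π : Equiv.Perm (Fin N), ((Equiv.Perm.sign π : ℤ) : ℂ) *
    ∑ d : O → Fin N, if ∀ j, (π j : ℕ) + (∑ o, if d o = j then w o else 0) = α j then 1 else 0

theorem vF_fin : ∀ (k : ℕ) (w : Fin k → ℕ), vF N w = vM N (Finset.univ.val.map w) := by
  intro k
  induction k with
  | zero =>
    intro w
    funext α
    simp [vF, base]
  | succ k ih =>
    intro w
    rw [Fin.univ_val_map, List.ofFn_succ, ← Multiset.cons_coe, vM_cons,
      ← Fin.univ_val_map (fun i : Fin k => w i.succ), ← ih]
    funext α
    have hcons : ∀ (π : Equiv.Perm (Fin N)) (q : Fin N × (Fin k → Fin N)),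
        (∀ j, (π j : ℕ) + (∑ o : Fin (k + 1),
          if (Fin.cons q.1 q.2 : Fin (k + 1) → Fin N) o = j then w o else 0) = α j) ↔
        (w 0 ≤ α q.1 ∧ ∀ j, (π j : ℕ) + (∑ o : Fin k, if q.2 o = j then w o.succ else 0)
          = Function.update α q.1 (α q.1 - w 0) j) := by
      intro π q
      simp only [Fin.sum_univ_succ, Fin.cons_zero, Fin.cons_succ]
      constructor
      · intro h
        have h1 := h q.1
        rw [if_pos rfl] at h1
        refine ⟨by omega, fun j => ?_⟩
        by_cases hj : j = q.1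
        · subst hj
          rw [Function.update_self]
          omega
        · have h2 := h j
          rw [if_neg (Ne.symm hj), Nat.zero_add] at h2
          rw [Function.update_of_ne hj, h2]
      · rintro ⟨h0, h⟩ j
        have h2 := h j
        by_cases hj : j = q.1
        · subst hj
          rw [Function.update_self] at h2
          rw [if_pos rfl]
          omega
        · rw [Function.update_of_ne hj] at h2
          rw [if_neg (Ne.symm hj), Nat.zero_add, h2]
    simp only [vF, C]
    calc (∑ π : Equiv.Perm (Fin N), ((Equiv.Perm.sign π : ℤ) : ℂ) *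
        ∑ d : Fin (k + 1) → Fin N,
          if ∀ j, (π j : ℕ) + (∑ o, if d o = j then w o else 0) = α j then 1 else 0)
        = ∑ π : Equiv.Perm (Fin N), ((Equiv.Perm.sign π : ℤ) : ℂ) *
          ∑ q : Fin N × (Fin k → Fin N), if (w 0 ≤ α q.1 ∧
            ∀ j, (π j : ℕ) + (∑ o : Fin k, if q.2 o = j then w o.succ else 0)
              = Function.update α q.1 (α q.1 - w 0) j) then 1 else 0 := by
          refine Finset.sum_congr rfl fun π _ => ?_
          congr 1
          refine (Fintype.sum_equiv (Fin.consEquiv fun _ => Fin N) _ _ fun q => ?_).symm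
          exact (if_congr (hcons π q) rfl rfl).symm
      _ = _ := by
          simp only [Fintype.sum_prod_type, Finset.mul_sum]
          rw [Finset.sum_comm]
          refine Finset.sum_congr rfl fun x _ => ?_
          by_cases hx : w 0 ≤ α x
          · simp [hx]
          · simp [hx]

theorem vF_eq {O : Type*} [Fintype O] [DecidableEq O] (w : O → ℕ) :
    vF N w = vM N (Finset.univ.val.map w) := by
  let e := Fintype.equivFin O
  have h1 : (Finset.univ.val.map w) = Finset.univ.val.map (w ∘ e.symm) := by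
    rw [← Multiset.map_map, Multiset.map_univ_val_equiv]
  rw [h1, ← vF_fin]
  funext α
  refine Finset.sum_congr rfl fun π _ => ?_
  congr 1
  refine Fintype.sum_equiv (e.arrowCongr (Equiv.refl (Fin N))) _ _ fun d => ?_
  refine if_congr (forall_congr' fun j => ?_) rfl rfl
  rw [Fintype.sum_equiv e (fun o => if d o = j then w o else 0)
    (fun i => if d (e.symm i) = j then w (e.symm i) else 0) fun o => by simp]
  rfl

/-! ### The functions `chi` -/

/-- The value at `σ` of the function attached to the exponent tuple `α`. -/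
noncomputable def chi (N : ℕ) (α : Fin N → ℕ) (σ : Equiv.Perm (Fin n)) : ℂ :=
  vM N σ.partition.parts α

theorem isClassFunction_chi (α : Fin N → ℕ) :
    IsClassFunction (Equiv.Perm (Fin n)) (chi N α) := by
  intro x g
  rw [chi, chi, Equiv.Perm.partition_eq_of_isConj.mp (isConj_iff.mpr ⟨g, rfl⟩ : IsConj x (g * x * g⁻¹))]

theorem parts_sum (σ : Equiv.Perm (Fin n)) : σ.partition.parts.sum = n := by
  rw [σ.partition.parts_sum, Fintype.card_fin]

theorem parts_pos (σ : Equiv.Perm (Fin n)) {a : ℕ} (ha : a ∈ σ.partition.parts) : 0 < a :=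
  σ.partition.parts_pos ha

theorem conj_vM (μ : Multiset ℕ) : ∀ α : Fin N → ℕ, conj (vM N μ α) = vM N μ α := by
  induction μ using Multiset.induction_on with
  | empty =>
    intro α
    simp [base, map_sum, apply_ite]
  | cons a s ih =>
    intro α
    rw [vM_cons, C, map_sum]
    refine Finset.sum_congr rfl fun j _ => ?_
    split_ifs
    · exact ih _
    · exact map_zero _

theorem conj_chi (α : Fin N → ℕ) (σ : Equiv.Perm (Fin n)) : conj (chi N α σ) = chi N α σ :=
  conj_vM _ α

/-- Colourings with prescribed colour multiplicities. -/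
@[ext]
structure Col (n : ℕ) (β : Fin N → ℕ) where
  val : Fin n → Fin N
  card_fiber : ∀ j, (Finset.univ.filter fun a => val a = j).card = β j

noncomputable instance (β : Fin N → ℕ) : Fintype (Col n β) :=
  Fintype.ofInjective Col.val fun _ _ h => Col.ext h

instance colAction (β : Fin N → ℕ) : MulAction (Equiv.Perm (Fin n)) (Col n β) where
  smul σ c := ⟨c.val ∘ ⇑σ⁻¹, fun j => by
    rw [← c.card_fiber j]
    refine Finset.card_equiv σ⁻¹ fun a => ?_
    simp⟩
  one_smul c := Col.ext rfl
  mul_smul σ τ c := Col.ext (by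
    funext a
    show c.val ((σ * τ)⁻¹ a) = c.val (τ⁻¹ (σ⁻¹ a))
    rw [mul_inv_rev]
    rfl)

theorem card_fixedBy_col (σ : Equiv.Perm (Fin n)) (β : Fin N → ℕ) :
    open scoped Classical in
    (Nat.card (MulAction.fixedBy (Col n β) σ)) = (Finset.univ.filter fun d : Orb σ → Fin N =>
      ∀ j, (∑ q, if d q = j then orbW σ q else 0) = β j).card := by
  classical
  have hfib : ∀ (d : Orb σ → Fin N) (j : Fin N),
      (Finset.univ.filter fun a : Fin n => d ⟦a⟧ = j).card
        = ∑ q, if d q = j then orbW σ q else 0 := by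
    intro d j
    rw [Finset.card_eq_sum_card_fiberwise (f := fun a : Fin n => (⟦a⟧ : Orb σ))
      (t := Finset.univ) fun a _ => Finset.mem_univ _]
    refine Finset.sum_congr rfl fun q _ => ?_
    rw [Finset.filter_filter, orbW]
    split_ifs with h
    · congr 1
      refine Finset.filter_congr fun a _ => ?_
      exact ⟨fun hh => hh.2, fun hh => ⟨by rw [hh, h], hh⟩⟩
    · rw [Finset.card_eq_zero, Finset.filter_eq_empty_iff]
      rintro a - ⟨h1, h2⟩
      exact h (h2 ▸ h1)
  rw [← Fintype.card_subtype, ← Nat.card_eq_fintype_card]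
  have hconst : ∀ c : MulAction.fixedBy (Col n β) σ, ∀ a b, σ.SameCycle a b →
      c.1.val a = c.1.val b := by
    intro c a b hab
    have hc : ∀ x, c.1.val (σ x) = c.1.val x := by
      intro x
      have h := congrArg Col.val c.2
      have h2 := congrFun h (σ x)
      change c.1.val (σ⁻¹ (σ x)) = c.1.val (σ x) at h2
      rw [show σ⁻¹ (σ x) = x from σ.symm_apply_apply x] at h2
      exact h2.symm
    obtain ⟨k, rfl⟩ := hab.exists_nat_pow_eq
    induction k with
    | zero => rfl
    | succ k ih =>
      rw [pow_succ', Equiv.Perm.mul_apply, hc, ← ih ⟨k, by simp⟩]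
  refine Nat.card_congr
    { toFun := fun c => ⟨Quotient.lift c.1.val (hconst c), fun j => by
        rw [← hfib, ← c.1.card_fiber j]
        rfl⟩
      invFun := fun d => ⟨⟨fun a => d.1 ⟦a⟧, fun j => by rw [hfib, d.2 j]⟩, Col.ext (funext fun a => by
        show d.1 ⟦σ⁻¹ a⟧ = d.1 ⟦a⟧
        refine congrArg d.1 ((mk_eq_mk σ).mpr ?_)
        exact ⟨1, by simp⟩)⟩
      left_inv := fun c => Subtype.ext (Col.ext rfl)
      right_inv := fun d => Subtype.ext (funext fun q => Quotient.inductionOn q fun a => rfl) }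

theorem chi_eq (α : Fin N → ℕ) (σ : Equiv.Perm (Fin n)) :
    chi N α σ = ∑ π : Equiv.Perm (Fin N), ((Equiv.Perm.sign π : ℤ) : ℂ) *
      if ∀ j, (π j : ℕ) ≤ α j then
        (Nat.card (MulAction.fixedBy (Col n fun j => α j - π j) σ) : ℂ) else 0 := by
  classical
  rw [chi, ← map_orbW, ← vF_eq]
  refine Finset.sum_congr rfl fun π _ => ?_
  congr 1
  rw [Finset.sum_boole]
  by_cases h : ∀ j, (π j : ℕ) ≤ α j
  · rw [if_pos h, card_fixedBy_col]
    congr 2
    refine Finset.filter_congr fun d _ => forall_congr' fun j => ?_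
    have := h j
    omega
  · rw [if_neg h, Nat.cast_eq_zero, Finset.card_eq_zero, Finset.filter_eq_empty_iff]
    intro d _ hd
    exact h fun j => by have := hd j; omega

theorem chi_isGeneralized (α : Fin N → ℕ) :
    IsGeneralizedCharacter (Equiv.Perm (Fin n)) (chi N α) := by
  classical
  rw [show (chi N α : Equiv.Perm (Fin n) → ℂ) = ∑ π : Equiv.Perm (Fin N),
      ((Equiv.Perm.sign π : ℤ) : ℂ) • (if ∀ j, (π j : ℕ) ≤ α j then
        fun σ : Equiv.Perm (Fin n) =>
          (Nat.card (MulAction.fixedBy (Col n fun j => α j - π j) σ) : ℂ) else 0) from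
    funext fun σ => by
      rw [chi_eq, Finset.sum_apply]
      refine Finset.sum_congr rfl fun π _ => ?_
      rw [Pi.smul_apply, smul_eq_mul]
      split_ifs <;> rfl]
  refine Char.IsGeneralizedCharacter.sum _ fun π _ => Char.IsGeneralizedCharacter.intCast_smul ?_ _
  split_ifs
  · exact Char.isGeneralizedCharacter_of_isCharacter (Char.isCharacter_fixedPoints _)
  · exact Char.IsGeneralizedCharacter.zero

theorem zConst_parts (σ : Equiv.Perm (Fin n)) :
    zConst σ.partition.parts = Nat.card (Subgroup.centralizer ({σ} : Set (Equiv.Perm (Fin n)))) := by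
  classical
  have h1 : 1 ∉ σ.cycleType := fun h => by
    have := Equiv.Perm.two_le_of_mem_cycleType h
    omega
  rw [Equiv.Perm.nat_card_centralizer, Equiv.Perm.parts_partition, zConst, Multiset.prod_add,
    Multiset.prod_replicate, one_pow, mul_one, Equiv.Perm.sum_cycleType]
  set f := Fintype.card (Fin n) - σ.support.card
  have h2 : ∏ a ∈ (σ.cycleType + Multiset.replicate f 1).toFinset,
      ((σ.cycleType + Multiset.replicate f 1).count a).factorial
      = ∏ a ∈ insert 1 σ.cycleType.toFinset,
        ((σ.cycleType + Multiset.replicate f 1).count a).factorial := by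
    refine Finset.prod_subset ?_ fun a _ ha => ?_
    · intro a ha
      rw [Multiset.mem_toFinset, Multiset.mem_add] at ha
      rcases ha with ha | ha
      · exact Finset.mem_insert_of_mem (Multiset.mem_toFinset.mpr ha)
      · exact Finset.mem_insert.mpr (Or.inl (Multiset.eq_of_mem_replicate ha))
    · rw [Multiset.count_eq_zero_of_notMem (fun h => ha (Multiset.mem_toFinset.mpr h)),
        Nat.factorial_zero]
  rw [h2, Finset.prod_insert (fun h => h1 (Multiset.mem_toFinset.mp h)), Multiset.count_add,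
    Multiset.count_eq_zero_of_notMem h1, Multiset.count_replicate_self, Nat.zero_add,
    Finset.prod_congr rfl fun a ha => ?_]
  · ring
  · have hne : a ≠ 1 := fun e => h1 (e ▸ Multiset.mem_toFinset.mp ha)
    rw [Multiset.count_add, Multiset.count_replicate, if_neg (Ne.symm hne), add_zero]

open scoped Classical in
theorem chi_column (hn : n ≤ N) (σ τ : Equiv.Perm (Fin n)) :
    ∑ α ∈ lev N n, chi N α σ * chi N α τ = if IsConj σ τ then
      (N.factorial : ℂ) * (Nat.card (Subgroup.centralizer ({σ} : Set (Equiv.Perm (Fin n)))) : ℂ)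
      else 0 := by
  have h := ip_vM (N := N) σ.partition.parts τ.partition.parts (fun _ => parts_pos σ)
    (fun _ => parts_pos τ) (by rw [parts_sum, parts_sum]) (by rw [parts_sum]; exact hn)
  rw [parts_sum] at h
  simp only [ip] at h
  simp only [chi, h]
  by_cases hc : IsConj σ τ
  · rw [if_pos hc, if_pos (congrArg Nat.Partition.parts (Equiv.Perm.partition_eq_of_isConj.mp hc)),
      zConst_parts]
    push_cast
    rfl
  · rw [if_neg hc, if_neg fun h' => hc (Equiv.Perm.partition_eq_of_isConj.mpr
      (Nat.Partition.ext h')), Nat.cast_zero]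

/-- The multiplicity of `ψ` in `chi N α`. -/
noncomputable def coef (N : ℕ) (α : Fin N → ℕ) (ψ : IrrCharacter (Equiv.Perm (Fin n))) : ℂ :=
  classInner (chi N α) (ψ : Equiv.Perm (Fin n) → ℂ)

theorem coef_int (α : Fin N → ℕ) (ψ : IrrCharacter (Equiv.Perm (Fin n))) :
    ∃ z : ℤ, coef N α ψ = (z : ℂ) :=
  Char.IsGeneralizedCharacter.classInner_int (chi_isGeneralized α)
    (Char.isGeneralizedCharacter_of_isCharacter (Char.IsIrrCharacter.isCharacter ψ.2))

theorem chi_comp (α : Fin N → ℕ) (π : Equiv.Perm (Fin N)) :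
    (chi N (α ∘ π) : Equiv.Perm (Fin n) → ℂ)
      = ((Equiv.Perm.sign π : ℤ) : ℂ) • (chi N α : Equiv.Perm (Fin n) → ℂ) := by
  funext σ
  exact anti_vM _ α π

theorem coef_comp (α : Fin N → ℕ) (π : Equiv.Perm (Fin N))
    (ψ : IrrCharacter (Equiv.Perm (Fin n))) :
    coef N (α ∘ π) ψ = ((Equiv.Perm.sign π : ℤ) : ℂ) * coef N α ψ := by
  simp only [coef, classInner, chi_comp, Pi.smul_apply, smul_eq_mul, mul_assoc, ← Finset.mul_sum]
  ring

theorem sum_coef_mul (hn : n ≤ N) (ψ φ : IrrCharacter (Equiv.Perm (Fin n))) :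
    ∑ α ∈ lev N n, coef N α ψ * coef N α φ = if ψ = φ then (N.factorial : ℂ) else 0 := by
  classical
  have hreal : ∀ α, coef N α φ = conj (coef N α φ) := fun α => by
    obtain ⟨z, hz⟩ := coef_int α φ
    rw [hz, map_intCast]
  have hG : (Nat.card (Equiv.Perm (Fin n)) : ℂ) ≠ 0 := Nat.cast_ne_zero.mpr Nat.card_pos.ne'
  have hclass : ∀ σ : Equiv.Perm (Fin n), ∑ τ : Equiv.Perm (Fin n), (if IsConj σ τ then
      (N.factorial : ℂ) * (Nat.card (Subgroup.centralizer ({σ} : Set (Equiv.Perm (Fin n)))) : ℂ)
      else 0) * (φ : Equiv.Perm (Fin n) → ℂ) τ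
      = (N.factorial : ℂ) * (Nat.card (Equiv.Perm (Fin n)) : ℂ)
        * (φ : Equiv.Perm (Fin n) → ℂ) σ := by
    intro σ
    simp only [ite_mul, zero_mul]
    rw [← Finset.sum_filter, Finset.sum_congr rfl (g := fun _ => (N.factorial : ℂ) *
      (Nat.card (Subgroup.centralizer ({σ} : Set (Equiv.Perm (Fin n)))) : ℂ) *
      (φ : Equiv.Perm (Fin n) → ℂ) σ) fun τ hτ => by
        rw [Blocks.classFunction_eq_of_isConj (Char.IsIrrCharacter.isClassFunction φ.2)
          (Finset.mem_filter.mp hτ).2],
      Finset.sum_const, nsmul_eq_mul, ← Char.card_conjugates_mul_card_centralizer σ]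
    have : Nat.card {x : Equiv.Perm (Fin n) | IsConj σ x}
        = (Finset.univ.filter fun x => IsConj σ x).card := by
      rw [Nat.card_eq_fintype_card, Fintype.card_ofFinset]
      congr 1
    rw [this, Nat.cast_mul]
    ring
  calc ∑ α ∈ lev N n, coef N α ψ * coef N α φ
      = ∑ α ∈ lev N n, coef N α ψ * conj (coef N α φ) := by simp only [← hreal]
    _ = (Nat.card (Equiv.Perm (Fin n)) : ℂ)⁻¹ * (Nat.card (Equiv.Perm (Fin n)) : ℂ)⁻¹ *
        ∑ σ, conj ((ψ : Equiv.Perm (Fin n) → ℂ) σ) *
          ∑ τ, (∑ α ∈ lev N n, chi N α σ * chi N α τ) * (φ : Equiv.Perm (Fin n) → ℂ) τ := by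
        simp only [coef, classInner, map_mul, map_inv₀, Complex.conj_natCast, map_sum,
          Complex.conj_conj, conj_chi, Finset.mul_sum, Finset.sum_mul]
        rw [Finset.sum_comm]
        refine Eq.trans ?_ Finset.sum_comm
        refine Finset.sum_congr rfl fun τ _ => ?_
        rw [Finset.sum_comm]
        refine Finset.sum_congr rfl fun σ _ => Finset.sum_congr rfl fun α _ => ?_
        ring
    _ = (N.factorial : ℂ) * classInner (φ : Equiv.Perm (Fin n) → ℂ) (ψ : Equiv.Perm (Fin n) → ℂ) := by
        simp only [chi_column hn, hclass, classInner, Finset.mul_sum]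
        refine Finset.sum_congr rfl fun σ _ => ?_
        field_simp
    _ = _ := by
        by_cases h : ψ = φ
        · rw [if_pos h, h, Char.classInner_irr_self φ.2, mul_one]
        · rw [if_neg h, Char.classInner_irr_of_ne φ.2 ψ.2 fun e => h (Subtype.ext e).symm, mul_zero]

/-- Every irreducible character is, up to sign, attached to a tuple, uniquely up to reordering. -/
theorem exists_label (hn : n ≤ N) (ψ : IrrCharacter (Equiv.Perm (Fin n))) :
    ∃ α : Fin N → ℕ, Function.Injective α ∧ ∑ i, α i = stair N + n ∧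
      (coef N α ψ = 1 ∨ coef N α ψ = -1) ∧
      (chi N α : Equiv.Perm (Fin n) → ℂ) = coef N α ψ • (ψ : Equiv.Perm (Fin n) → ℂ) ∧
      ∀ β ∈ lev N n, coef N β ψ ≠ 0 → ∃ π : Equiv.Perm (Fin N), β = α ∘ π := by
  classical
  choose z hz using fun (φ : IrrCharacter (Equiv.Perm (Fin n))) (α : Fin N → ℕ) => coef_int α φ
  have hsum : ∀ φ φ', ∑ α ∈ lev N n, z φ α * z φ' α = if φ = φ' then (N.factorial : ℤ) else 0 := by
    intro φ φ'
    have h := sum_coef_mul hn φ φ'
    simp only [hz] at h
    apply Int.cast_injective (α := ℂ)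
    push_cast
    exact h
  obtain ⟨α, hαm, hα0⟩ : ∃ α ∈ lev N n, z ψ α ≠ 0 := by
    by_contra hcon
    push Not at hcon
    have h := hsum ψ ψ
    rw [if_pos rfl, Finset.sum_eq_zero fun α hα => by rw [hcon α hα, zero_mul]] at h
    exact Nat.factorial_ne_zero N (by exact_mod_cast h.symm)
  have hinj : Function.Injective α := by
    by_contra hn'
    refine hα0 (Int.cast_injective (α := ℂ) ?_)
    rw [← hz, Int.cast_zero, coef, show (chi N α : Equiv.Perm (Fin n) → ℂ) = 0 from
      funext fun σ => (anti_vM _).zero_of_not_injective hn']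
    simp [classInner]
  set O := Finset.univ.image fun π : Equiv.Perm (Fin N) => α ∘ π with hO
  have hOinj : Function.Injective fun π : Equiv.Perm (Fin N) => α ∘ π :=
    fun a b h => Equiv.ext fun j => hinj (congrFun h j)
  have hOsub : O ⊆ lev N n := by
    intro β hβ
    obtain ⟨π, -, rfl⟩ := Finset.mem_image.mp hβ
    exact mem_lev.mpr ((Fintype.sum_equiv π _ _ fun _ => rfl).trans (mem_lev.mp hαm))
  have hzO : ∀ φ (π : Equiv.Perm (Fin N)), z φ (α ∘ π) = (Equiv.Perm.sign π : ℤ) * z φ α := by
    intro φ π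
    apply Int.cast_injective (α := ℂ)
    rw [← hz, coef_comp, hz, Int.cast_mul]
  have hOsum : ∀ φ, ∑ β ∈ O, z ψ β * z φ β = (N.factorial : ℤ) * (z ψ α * z φ α) := by
    intro φ
    rw [hO, Finset.sum_image hOinj.injOn]
    rw [Finset.sum_congr rfl fun (π : Equiv.Perm (Fin N)) _ =>
      show z ψ (α ∘ π) * z φ (α ∘ π) = z ψ α * z φ α by
      rw [hzO, hzO]
      rcases Int.units_eq_one_or (Equiv.Perm.sign π) with h | h <;> simp [h]]
    simp [Fintype.card_perm]
  have hsplit := Finset.sum_sdiff (f := fun β => z ψ β * z ψ β) hOsub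
  rw [hOsum, hsum, if_pos rfl] at hsplit
  have hnn : 0 ≤ ∑ β ∈ lev N n \ O, z ψ β * z ψ β :=
    Finset.sum_nonneg fun β _ => mul_self_nonneg _
  have hfac : (0 : ℤ) < N.factorial := by exact_mod_cast Nat.factorial_pos N
  have hge : 1 ≤ z ψ α * z ψ α := by
    have := mul_self_pos.mpr hα0
    omega
  have hsq : z ψ α * z ψ α = 1 := by nlinarith
  have hout : ∀ β ∈ lev N n, z ψ β ≠ 0 → β ∈ O := by
    intro β hβ hne
    by_contra hn'
    rw [hsq, mul_one] at hsplit
    have h0 : ∑ β ∈ lev N n \ O, z ψ β * z ψ β = 0 := by omega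
    have := (Finset.sum_eq_zero_iff_of_nonneg fun β _ => mul_self_nonneg (z ψ β)).mp h0 β
      (Finset.mem_sdiff.mpr ⟨hβ, hn'⟩)
    exact hne (mul_self_eq_zero.mp this)
  have hzero : ∀ φ, φ ≠ ψ → z φ α = 0 := by
    intro φ hφ
    have h := hsum ψ φ
    rw [if_neg (Ne.symm hφ), ← Finset.sum_subset hOsub fun β hβ hn' => by
      by_contra hh
      exact hn' (hout β hβ fun e => hh (by rw [e, zero_mul])), hOsum] at h
    rcases mul_eq_zero.mp h with h | h
    · omega
    · rcases mul_eq_zero.mp h with h | h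
      · exact absurd h hα0
      · exact h
  refine ⟨α, hinj, mem_lev.mp hαm, ?_, ?_, ?_⟩
  · rcases Int.eq_one_or_neg_one_of_mul_eq_one hsq with h | h
    · left; rw [hz, h, Int.cast_one]
    · right; rw [hz, h, Int.cast_neg, Int.cast_one]
  · have := Fintype.ofFinite (IrrCharacter (Equiv.Perm (Fin n)))
    conv_lhs => rw [Char.classFunction_eq_sum (isClassFunction_chi (n := n) α)]
    rw [Finset.sum_eq_single ψ]
    · rfl
    · intro φ _ hφ
      show coef N α φ • _ = _
      rw [hz, hzero φ hφ, Int.cast_zero, zero_smul]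
    · exact fun h => absurd (Finset.mem_univ ψ) h
  · intro β hβ hne
    rw [hz] at hne
    obtain ⟨π, -, hπ⟩ := Finset.mem_image.mp (hout β hβ fun e => hne (by rw [e, Int.cast_zero]))
    exact ⟨π, hπ.symm⟩

end Cfsg.Agent.SymBlocks
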