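import Cfsg.Agent.Lib.SymBlocks.Kernel

/-!
# Cores on the abacus

`core0`: the `p`-core of a tuple, with the beads keeping their labels; `paths`: iterated removal of
`p`-strips ends at the core with a positive multiplicity; `exists_vM_ne_weight`.
-/

set_option autoImplicit false

open Finset

namespace Cfsg.Agent.SymBlocks

variable {N : ℕ} {p : ℕ}

theorem add_le_of_mod_eq {x y : ℕ} (h : x % p = y % p) (hlt : x < y) : x + p ≤ y := by
  have h1 : p ∣ y - x := (Nat.modEq_iff_dvd' hlt.le).mp h
  have := Nat.le_of_dvd (by omega) h1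
  omega

theorem sub_mod_self_right {x : ℕ} (hx : p ≤ x) : (x - p) % p = x % p :=
  (Nat.mod_eq_sub_mod hx).symm

/-- The number of beads on the runner of `i` below `i`. -/
def rk (p : ℕ) (α : Fin N → ℕ) (i : Fin N) : ℕ :=
  (Finset.univ.filter fun j => α j % p = α i % p ∧ α j < α i).card

/-- The core, bead by bead. -/
def core0 (p : ℕ) (α : Fin N → ℕ) (i : Fin N) : ℕ := α i % p + p * rk p α i

/-- The bead counts on the runners. -/
def cnt (p : ℕ) (α : Fin N → ℕ) (r : ℕ) : ℕ := (Finset.univ.filter fun i => α i % p = r).card

/-- A bead that can be moved down. -/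
def Movable (p : ℕ) (α : Fin N → ℕ) (j : Fin N) : Prop := p ≤ α j ∧ ∀ i, α i ≠ α j - p

theorem core0_mod (α : Fin N → ℕ) (i : Fin N) : core0 p α i % p = α i % p := by
  rw [core0, Nat.add_mul_mod_self_left, Nat.mod_mod]

theorem cnt_core0 (α : Fin N → ℕ) : cnt p (core0 p α) = cnt p α := by
  funext r
  simp only [cnt, core0_mod]

theorem rk_lt {α : Fin N → ℕ} {i j : Fin N} (h : α i % p = α j % p) (hlt : α i < α j) :
    rk p α i < rk p α j := by
  refine Finset.card_lt_card (Finset.ssubset_iff_subset_ne.mpr ⟨?_, fun he => ?_⟩)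
  · intro x hx
    simp only [Finset.mem_filter, Finset.mem_univ, true_and] at hx ⊢
    exact ⟨hx.1.trans h, hx.2.trans hlt⟩
  · have : i ∈ Finset.univ.filter fun x => α x % p = α j % p ∧ α x < α j := by simp [h, hlt]
    rw [← he] at this
    simp at this

theorem core0_injective {α : Fin N → ℕ} (hp : 0 < p) (hα : Function.Injective α) :
    Function.Injective (core0 p α) := by
  intro i j h
  have hm : α i % p = α j % p := by rw [← core0_mod α i, h, core0_mod]
  have hr : rk p α i = rk p α j := by
    simp only [core0, hm] at h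
    exact Nat.eq_of_mul_eq_mul_left hp (by omega)
  apply hα
  rcases lt_trichotomy (α i) (α j) with h1 | h1 | h1
  · exact absurd hr (rk_lt hm h1).ne
  · exact h1
  · exact absurd hr.symm (rk_lt hm.symm h1).ne

theorem core0_le {α : Fin N → ℕ} (hα : Function.Injective α) (i : Fin N) :
    core0 p α i ≤ α i := by
  have h1 : rk p α i ≤ α i / p := by
    rw [rk, ← Finset.card_range (α i / p)]
    rcases Nat.eq_zero_or_pos p with rfl | hp
    · refine le_of_eq_of_le (Finset.card_eq_zero.mpr (Finset.filter_eq_empty_iff.mpr
        fun x _ h => ?_)) (Nat.zero_le _)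
      simp only [Nat.mod_zero] at h
      omega
    refine Finset.card_le_card_of_injOn (fun j => α j / p) ?_ ?_
    · intro j hj
      simp only [Finset.coe_filter, Finset.mem_univ, true_and, Set.mem_ofPred_eq] at hj
      simp only [Finset.coe_range, Set.mem_Iio]
      have := add_le_of_mod_eq hj.1 hj.2
      calc α j / p < α j / p + 1 := Nat.lt_succ_self _
        _ = (α j + p) / p := (Nat.add_div_right _ hp).symm
        _ ≤ α i / p := Nat.div_le_div_right this
    · intro a ha b hb hab
      simp only [Finset.coe_filter, Finset.mem_univ, true_and, Set.mem_ofPred_eq] at ha hb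
      apply hα
      rw [← Nat.div_add_mod (α a) p, ← Nat.div_add_mod (α b) p]
      simp only at hab
      rw [hab, ha.1, hb.1]
  calc core0 p α i ≤ α i % p + p * (α i / p) := Nat.add_le_add_left (Nat.mul_le_mul_left p h1) _
    _ = α i := Nat.mod_add_div _ _

theorem exists_weight {α : Fin N → ℕ} (hα : Function.Injective α) :
    ∃ w, ∑ i, α i = (∑ i, core0 p α i) + p * w := by
  have hle : ∑ i, core0 p α i ≤ ∑ i, α i := Finset.sum_le_sum fun i _ => core0_le hα i
  have hdvd : p ∣ (∑ i, α i) - ∑ i, core0 p α i := by
    rw [← Finset.sum_tsub_distrib _ fun i _ => core0_le hα i]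
    exact Finset.dvd_sum fun i _ => (Nat.modEq_iff_dvd' (core0_le hα i)).mp (core0_mod α i)
  obtain ⟨w, hw⟩ := hdvd
  exact ⟨w, by omega⟩

theorem sum_mod_eq (α : Fin N → ℕ) (hp : 0 < p) (g : ℕ → ℕ) :
    ∑ i, g (α i % p) = ∑ r ∈ Finset.range p, cnt p α r * g r := by
  rw [← Finset.sum_fiberwise_of_maps_to (t := Finset.range p) (g := fun i => α i % p)
    fun i _ => Finset.mem_range.mpr (Nat.mod_lt _ hp)]
  refine Finset.sum_congr rfl fun r _ => ?_
  rw [Finset.sum_congr rfl (fun i hi => by rw [(Finset.mem_filter.mp hi).2]), Finset.sum_const,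
    smul_eq_mul, cnt]

theorem sum_core0_eq {α β : Fin N → ℕ} (hp : 0 < p) (hα : Function.Injective α)
    (hβ : Function.Injective β) (hc : cnt p α = cnt p β) :
    ∑ i, core0 p α i = ∑ i, core0 p β i := by
  have key : ∀ {γ : Fin N → ℕ}, Function.Injective γ →
      2 * (∑ i, rk p γ i) + N = ∑ i, cnt p γ (γ i % p) := by
    intro γ hγ
    have h1 : ∀ i, rk p γ i + (Finset.univ.filter fun j =>
        γ j % p = γ i % p ∧ γ i < γ j).card + 1 = cnt p γ (γ i % p) := by
      intro i
      rw [rk, cnt, Finset.card_filter, Finset.card_filter, Finset.card_filter,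
        show (1 : ℕ) = ∑ j, if j = i then 1 else 0 by simp, ← Finset.sum_add_distrib,
        ← Finset.sum_add_distrib]
      refine Finset.sum_congr rfl fun j _ => ?_
      by_cases hm : γ j % p = γ i % p
      · rcases lt_trichotomy (γ j) (γ i) with h | h | h
        · have hne : j ≠ i := fun e => by rw [e] at h; exact lt_irrefl _ h
          simp [hm, h, h.not_gt, hne]
        · simp [hγ h]
        · have hne : j ≠ i := fun e => by rw [e] at h; exact lt_irrefl _ h
          simp [hm, h, h.not_gt, hne]
      · have hne : j ≠ i := fun e => hm (by rw [e])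
        simp [hm, hne]
    have h2 : ∑ i, (Finset.univ.filter fun j => γ j % p = γ i % p ∧ γ i < γ j).card
        = ∑ i, rk p γ i := by
      simp only [rk, Finset.card_filter]
      rw [Finset.sum_comm]
      simp only [eq_comm]
    rw [← Finset.sum_congr rfl fun i _ => h1 i, Finset.sum_add_distrib, Finset.sum_add_distrib, h2,
      Finset.sum_const, Finset.card_fin, smul_eq_mul, mul_one, two_mul]
  have hrk : ∑ i, rk p α i = ∑ i, rk p β i := by
    have e1 := key hα
    have e2 := key hβ
    rw [sum_mod_eq α hp] at e1
    rw [sum_mod_eq β hp, ← hc] at e2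
    omega
  have hres : ∑ i, α i % p = ∑ i, β i % p := by
    have e1 := sum_mod_eq α hp id
    have e2 := sum_mod_eq β hp id
    simp only [id] at e1 e2
    rw [e1, e2, hc]
  simp only [core0, Finset.sum_add_distrib, ← Finset.mul_sum, hrk, hres]

theorem update_injective {α : Fin N → ℕ} (hα : Function.Injective α) {j : Fin N}
    (h : Movable p α j) : Function.Injective (Function.update α j (α j - p)) := by
  intro a b hab
  by_cases ha : a = j <;> by_cases hb : b = j
  · rw [ha, hb]
  · rw [ha, Function.update_self, Function.update_of_ne hb] at hab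
    exact absurd hab.symm (h.2 b)
  · rw [hb, Function.update_self, Function.update_of_ne ha] at hab
    exact absurd hab (h.2 a)
  · rw [Function.update_of_ne ha, Function.update_of_ne hb] at hab
    exact hα hab

theorem update_mod {α : Fin N → ℕ} {j : Fin N} (h : p ≤ α j) (i : Fin N) :
    Function.update α j (α j - p) i % p = α i % p := by
  by_cases hi : i = j
  · subst hi
    rw [Function.update_self, sub_mod_self_right h]
  · rw [Function.update_of_ne hi]

theorem core0_update {α : Fin N → ℕ} (hp : 0 < p) (hα : Function.Injective α) {j : Fin N}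
    (h : Movable p α j) : core0 p (Function.update α j (α j - p)) = core0 p α := by
  funext i
  simp only [core0, update_mod h.1, rk]
  congr 2
  refine congrArg Finset.card (Finset.filter_congr fun x _ => ?_)
  refine and_congr_right fun hm => ?_
  have hA : ∀ y, y ≠ j → α y % p = α j % p → (α y < α j - p ↔ α y < α j) := by
    intro y hy hym
    refine ⟨fun h' => by omega, fun h' => ?_⟩
    have := add_le_of_mod_eq hym h'
    have := h.2 y
    omega
  have hB : ∀ y, y ≠ j → α y % p = α j % p → (α j - p < α y ↔ α j < α y) := by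
    intro y hy hym
    refine ⟨fun h' => ?_, fun h' => by omega⟩
    have h1 := add_le_of_mod_eq ((sub_mod_self_right h.1).trans hym.symm) h'
    have h2 : α y ≠ α j := fun e => hy (hα e)
    omega
  by_cases hx : x = j <;> by_cases hi : i = j
  · subst hx; subst hi
    simp
  · subst hx
    rw [Function.update_self, Function.update_of_ne hi]
    exact hB i hi hm.symm
  · subst hi
    rw [Function.update_self, Function.update_of_ne hx]
    exact hA x hx hm
  · rw [Function.update_of_ne hx, Function.update_of_ne hi]

theorem sum_update_movable (α : Fin N → ℕ) {j : Fin N} (h : p ≤ α j) :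
    (∑ i, Function.update α j (α j - p) i) + p = ∑ i, α i := by
  have := sum_update_add α j (α j - p)
  omega

theorem exists_movable {α : Fin N → ℕ} (hne : core0 p α ≠ α) (hα : Function.Injective α) :
    ∃ j, Movable p α j := by
  by_contra hcon
  simp only [Movable, not_exists, not_and, not_forall, not_not] at hcon
  refine hne (funext fun i => ?_)
  suffices key : ∀ m i, α i = m → core0 p α i = α i from key _ i rfl
  intro m
  induction m using Nat.strong_induction_on with
  | _ m ih =>
  intro i him
  by_cases hle : p ≤ α i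
  swap
  · refine le_antisymm (core0_le hα i) ?_
    rw [core0, Nat.mod_eq_of_lt (by omega)]
    omega
  rcases Nat.eq_zero_or_pos p with rfl | hp
  · simp [core0, Nat.mod_zero]
  obtain ⟨k, hk⟩ := hcon i hle
  have hkm : α k % p = α i % p := by rw [hk, sub_mod_self_right hle]
  have hk' := ih (α k) (by omega) k rfl
  have h1 : rk p α k < rk p α i := rk_lt hkm (by omega)
  have h2 : core0 p α k + p ≤ core0 p α i := by
    rw [core0, core0, hkm]
    have : p * (rk p α k + 1) ≤ p * rk p α i := Nat.mul_le_mul_left p h1
    rw [Nat.mul_succ] at this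
    omega
  have := core0_le (p := p) hα i
  omega

theorem not_movable_core0 {α : Fin N → ℕ} (hp : 0 < p) (hα : Function.Injective α) (j : Fin N) :
    ¬ Movable p (core0 p α) j := by
  intro h
  have hinj := core0_injective hp hα
  have hinj' := update_injective hinj h
  have h1 : ∑ i, core0 p (Function.update (core0 p α) j (core0 p α j - p)) i
      ≤ ∑ i, Function.update (core0 p α) j (core0 p α j - p) i :=
    Finset.sum_le_sum fun i _ => core0_le hinj' i
  have h2 : cnt p (Function.update (core0 p α) j (core0 p α j - p)) = cnt p α := by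
    funext r
    simp only [cnt, update_mod h.1, core0_mod]
  rw [sum_core0_eq hp hinj' hα h2] at h1
  have := sum_update_movable (core0 p α) h.1
  omega

/-- Iterated removal of `p`-strips ends at the core with positive multiplicity. -/
theorem paths (hp : 0 < p) : ∀ (w : ℕ) {α : Fin N → ℕ}, Function.Injective α →
    ∑ i, α i = (∑ i, core0 p α i) + p * w →
    ∃ P : ℕ, 0 < P ∧ ∀ f : Fn N, Anti f → (C p)^[w] f α = (P : ℂ) * f (core0 p α) := by
  classical
  intro w
  induction w with
  | zero =>
    intro α hα hs
    refine ⟨1, Nat.one_pos, fun f _ => ?_⟩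
    have he : core0 p α = α := funext fun i => (Finset.sum_eq_sum_iff_of_le
      (fun i _ => core0_le hα i)).mp (by omega) i (Finset.mem_univ i)
    simp [he]
  | succ w ih =>
    intro α hα hs
    have hex : ∀ j, Movable p α j → ∃ P : ℕ, 0 < P ∧ ∀ f : Fn N, Anti f →
        (C p)^[w] f (Function.update α j (α j - p)) = (P : ℂ) * f (core0 p α) := by
      intro j hj
      have h1 := sum_update_movable α hj.1
      obtain ⟨P, hP, hf⟩ := ih (update_injective hα hj) (by
        rw [core0_update hp hα hj]
        rw [Nat.mul_succ] at hs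
        omega)
      exact ⟨P, hP, fun f hfa => by rw [hf f hfa, core0_update hp hα hj]⟩
    choose P hP hPf using hex
    refine ⟨∑ j, if h : Movable p α j then P j h else 0, ?_, fun f hf => ?_⟩
    · obtain ⟨j, hj⟩ := exists_movable (p := p) (α := α) (by
        intro he
        rw [he, Nat.mul_succ] at hs
        omega) hα
      have h1 := Finset.single_le_sum (f := fun j => if h : Movable p α j then P j h else 0)
        (fun _ _ => Nat.zero_le _) (Finset.mem_univ j)
      simp only [dif_pos hj] at h1
      exact lt_of_lt_of_le (hP j hj) h1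
    have hanti : Anti ((C p)^[w] f) := by
      clear hs ih hPf
      induction w with
      | zero => simpa using hf
      | succ w ihw =>
        rw [Function.iterate_succ_apply']
        exact anti_C ihw p
    rw [Function.iterate_succ_apply', C, Nat.cast_sum, Finset.sum_mul]
    refine Finset.sum_congr rfl fun j _ => ?_
    by_cases hj : Movable p α j
    · rw [if_pos hj.1, dif_pos hj, hPf j hj f hf]
    · rw [dif_neg hj, Nat.cast_zero, zero_mul]
      split_ifs with hle
      · simp only [Movable, hle, true_and, not_forall, not_not] at hj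
        obtain ⟨i, hi⟩ := hj
        refine hanti.zero_of_not_injective fun hinj => ?_
        have hij : i ≠ j := fun e => by
          rw [e] at hi
          omega
        refine hij (hinj ?_)
        rw [Function.update_of_ne hij, Function.update_self, hi]
      · rfl

theorem exists_eq_sub {α : Fin N → ℕ} (hno : ∀ j, ¬ Movable p α j) (j : Fin N) :
    ∀ k, p * k ≤ α j → ∃ i, α i = α j - p * k := by
  intro k
  induction k with
  | zero => exact fun _ => ⟨j, by simp⟩
  | succ k ih =>
    intro hk
    rw [Nat.mul_succ] at hk ⊢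
    obtain ⟨i, hi⟩ := ih (by omega)
    have h := hno i
    simp only [Movable, not_and, not_forall, not_not] at h
    obtain ⟨l, hl⟩ := h (by omega)
    refine ⟨l, ?_⟩
    rw [hl, hi, Nat.sub_sub]

/-- At a core only the `p`-regular cycle types survive. -/
theorem vM_core_eq_zero {α : Fin N → ℕ} (hno : ∀ j, ¬ Movable p α j) {μ : Multiset ℕ} {a : ℕ}
    (ha : a ∈ μ) (hpos : 0 < a) (hdvd : p ∣ a) : vM N μ α = 0 := by
  rw [← Multiset.cons_erase ha, vM_cons, C]
  refine Finset.sum_eq_zero fun j _ => ?_
  split_ifs with hle
  · obtain ⟨k, rfl⟩ := hdvd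
    obtain ⟨i, hi⟩ := exists_eq_sub hno j k hle
    refine (anti_vM _).zero_of_not_injective fun hinj => ?_
    have hij : i ≠ j := fun e => by
      rw [e] at hi
      omega
    refine hij (hinj ?_)
    rw [Function.update_of_ne hij, Function.update_self, hi]
  · rfl

theorem vM_replicate_add (w a : ℕ) (μ : Multiset ℕ) :
    vM N (Multiset.replicate w a + μ) = (C a)^[w] (vM N μ) := by
  induction w with
  | zero => simp
  | succ w ih =>
    rw [Multiset.replicate_succ, Multiset.cons_add, vM_cons, ih, Function.iterate_succ_apply']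

/-- A tuple of weight `w` is detected by `w` cycles of length `p` times a regular cycle type. -/
theorem exists_vM_ne_weight (hp : 0 < p) {α : Fin N → ℕ} (hα : Function.Injective α) {n w : ℕ}
    (hs : ∑ i, α i = stair N + n) (hw : ∑ i, α i = (∑ i, core0 p α i) + p * w) :
    ∃ μ : Multiset ℕ, (∀ a ∈ μ, 0 < a ∧ ¬ p ∣ a) ∧ μ.sum + p * w = n ∧
      vM N (Multiset.replicate w p + μ) α ≠ 0 := by
  have hinj := core0_injective hp hα
  have hge := stair_le hinj
  obtain ⟨m, hm⟩ : ∃ m, ∑ i, core0 p α i = stair N + m := ⟨_, (Nat.add_sub_cancel' hge).symm⟩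
  obtain ⟨μ, hpos, hsum, hne⟩ := exists_vM_ne hinj hm
  refine ⟨μ, fun a ha => ⟨hpos a ha, fun hd => hne ?_⟩, by omega, ?_⟩
  · exact vM_core_eq_zero (not_movable_core0 hp hα) ha (hpos a ha) hd
  · obtain ⟨P, hP, hPf⟩ := paths hp w hα hw
    rw [vM_replicate_add, hPf _ (anti_vM μ)]
    exact mul_ne_zero (Nat.cast_ne_zero.mpr hP.ne') hne

end Cfsg.Agent.SymBlocks
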