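import Cfsg.Agent.Lib.SymBlocks.Core

/-!
# Counting bead sets with runner zero closed downwards

`card_exact_lt`: for a fixed core and weight `w ≥ 1` there are fewer than `p ^ w` of them.
-/

set_option autoImplicit false

open Finset

namespace Cfsg.Agent.SymBlocks

variable {N : ℕ} {p : ℕ}

/-- Bead counts of a set. -/
def cntS (p : ℕ) (S : Finset ℕ) (r : ℕ) : ℕ := (S.filter fun x => x % p = r).card

/-- The runner `r` of a bead set is closed downwards. -/
def Down (p : ℕ) (S : Finset ℕ) (r : ℕ) : Prop := ∀ x ∈ S, x % p = r → p ≤ x → x - p ∈ S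

theorem cntS_image {α : Fin N → ℕ} (hα : Function.Injective α) :
    cntS p (Finset.univ.image α) = cnt p α := by
  funext r
  rw [cntS, cnt, Finset.filter_image, Finset.card_image_of_injective _ hα]

theorem card_eq_of_cntS {S : Finset ℕ} {α : Fin N → ℕ} (hp : 0 < p) (h : cntS p S = cnt p α) :
    S.card = N := by
  have h1 := Finset.card_eq_sum_card_fiberwise (f := fun x => x % p) (s := S) (t := Finset.range p)
    fun x _ => Finset.mem_range.mpr (Nat.mod_lt x hp)
  have h2 := Finset.card_eq_sum_card_fiberwise (f := fun i => α i % p) (s := Finset.univ)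
    (t := Finset.range p) fun i _ => Finset.mem_range.mpr (Nat.mod_lt _ hp)
  rw [Finset.card_fin] at h2
  rw [h1, h2]
  exact Finset.sum_congr rfl fun r _ => congrFun h r

theorem exists_tuple {S : Finset ℕ} {α₀ : Fin N → ℕ} (hp : 0 < p) (h : cntS p S = cnt p α₀) :
    ∃ α : Fin N → ℕ, Function.Injective α ∧ Finset.univ.image α = S ∧ cnt p α = cnt p α₀ ∧
      ∑ i, α i = ∑ x ∈ S, x := by
  let e := S.orderEmbOfFin (card_eq_of_cntS hp h)
  have himg : Finset.univ.image e = S := Finset.image_orderEmbOfFin_univ S _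
  refine ⟨e, e.injective, himg, ?_, ?_⟩
  · rw [← cntS_image e.injective, himg, h]
  · conv_rhs => rw [← himg, Finset.sum_image e.injective.injOn]

theorem exists_weight_set {S : Finset ℕ} {α₀ : Fin N → ℕ} (hp : 0 < p)
    (hα₀ : Function.Injective α₀) (h : cntS p S = cnt p α₀) :
    ∃ w, ∑ x ∈ S, x = (∑ i, core0 p α₀ i) + p * w := by
  obtain ⟨α, hα, -, hc, hs⟩ := exists_tuple hp h
  obtain ⟨w, hw⟩ := exists_weight (p := p) hα
  exact ⟨w, by rw [← hs, hw, sum_core0_eq hp hα hα₀ hc]⟩

theorem down_of_sum_eq {S : Finset ℕ} {α₀ : Fin N → ℕ} (hp : 0 < p)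
    (hα₀ : Function.Injective α₀) (h : cntS p S = cnt p α₀)
    (hs0 : ∑ x ∈ S, x = ∑ i, core0 p α₀ i) (r : ℕ) : Down p S r := by
  obtain ⟨α, hα, himg, hc, hs⟩ := exists_tuple hp h
  intro x hx _ hpx
  by_contra hn
  rw [← himg, Finset.mem_image] at hx
  obtain ⟨j, -, rfl⟩ := hx
  have hmov : Movable p α j := ⟨hpx, fun i hi => hn (himg ▸ Finset.mem_image.mpr
    ⟨i, Finset.mem_univ _, hi⟩)⟩
  have he : core0 p α = α := funext fun i => (Finset.sum_eq_sum_iff_of_le
    (fun i _ => core0_le hα i)).mp (by rw [sum_core0_eq hp hα hα₀ hc, hs, hs0]) i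
      (Finset.mem_univ i)
  exact not_movable_core0 hp hα j (he.symm ▸ hmov)

theorem down_iterate {S : Finset ℕ} {r : ℕ} (hp : 0 < p) (hS : Down p S r) {x : ℕ} (hx : x ∈ S)
    (hr : x % p = r) : ∀ y, y % p = r → y ≤ x → y ∈ S := by
  intro y hy hle
  induction x using Nat.strong_induction_on with
  | _ x ih =>
  rcases hle.eq_or_lt with rfl | hlt
  · exact hx
  · have h1 := add_le_of_mod_eq (hy.trans hr.symm) hlt
    exact ih (x - p) (by omega) (hS x hx hr (by omega))
      (by rw [sub_mod_self_right (by omega), hr]) (by omega)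

theorem eq_of_down {S T : Finset ℕ} (hp : 0 < p) (hS : ∀ r, Down p S r) (hT : ∀ r, Down p T r)
    (h : cntS p S = cntS p T) : S = T := by
  suffices key : ∀ {S T : Finset ℕ}, (∀ r, Down p S r) → (∀ r, Down p T r) →
      cntS p S = cntS p T → S ⊆ T from Finset.Subset.antisymm (key hS hT h) (key hT hS h.symm)
  intro S T hS hT h x hx
  by_contra hn
  have hlt : (T.filter fun y => y % p = x % p).card < (S.filter fun y => y % p = x % p).card := by
    refine Finset.card_lt_card (Finset.ssubset_iff_subset_ne.mpr ⟨?_, fun he => ?_⟩)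
    · intro y hy
      rw [Finset.mem_filter] at hy ⊢
      refine ⟨?_, hy.2⟩
      rcases le_total x y with hxy | hxy
      · exact absurd (down_iterate hp (hT _) hy.1 hy.2 x rfl hxy) hn
      · exact down_iterate hp (hS _) hx rfl y hy.2 hxy
    · have : x ∈ T.filter fun y => y % p = x % p := he ▸ Finset.mem_filter.mpr ⟨hx, rfl⟩
      exact hn (Finset.mem_filter.mp this).1
  exact absurd (congrFun h (x % p)) hlt.ne'

/-- The bead sets of a given core with runner zero closed downwards and weight at most `W`. -/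
noncomputable def groundSets (p : ℕ) (α₀ : Fin N → ℕ) (W : ℕ) : Finset (Finset ℕ) := by
  classical
  exact (Finset.range ((∑ i, core0 p α₀ i) + p * W + 1)).powerset.filter fun S =>
    cntS p S = cnt p α₀ ∧ Down p S 0 ∧ ∑ x ∈ S, x ≤ (∑ i, core0 p α₀ i) + p * W

theorem mem_groundSets {α₀ : Fin N → ℕ} {W : ℕ} {S : Finset ℕ} :
    S ∈ groundSets p α₀ W ↔ cntS p S = cnt p α₀ ∧ Down p S 0 ∧
      ∑ x ∈ S, x ≤ (∑ i, core0 p α₀ i) + p * W := by
  classical
  rw [groundSets, Finset.mem_filter, Finset.mem_powerset]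
  refine ⟨fun h => h.2, fun h => ⟨fun x hx => Finset.mem_range.mpr ?_, h⟩⟩
  have := Finset.single_le_sum (f := fun x => x) (fun _ _ => Nat.zero_le _) hx
  have := h.2.2
  omega

/-- The bead sets of exact weight `W`. -/
noncomputable def exactSets (p : ℕ) (α₀ : Fin N → ℕ) (W : ℕ) : Finset (Finset ℕ) := by
  classical
  exact (groundSets p α₀ W).filter fun S => ∑ x ∈ S, x = (∑ i, core0 p α₀ i) + p * W

theorem mem_exactSets {α₀ : Fin N → ℕ} {W : ℕ} {S : Finset ℕ} :
    S ∈ exactSets p α₀ W ↔ cntS p S = cnt p α₀ ∧ Down p S 0 ∧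
      ∑ x ∈ S, x = (∑ i, core0 p α₀ i) + p * W := by
  classical
  rw [exactSets, Finset.mem_filter, mem_groundSets]
  exact ⟨fun h => ⟨h.1.1, h.1.2.1, h.2⟩, fun h => ⟨⟨h.1, h.2.1, h.2.2.le⟩, h.2.2⟩⟩

theorem card_groundSets_zero {α₀ : Fin N → ℕ} (hp : 0 < p) (hα₀ : Function.Injective α₀) :
    (groundSets p α₀ 0).card ≤ 1 := by
  rw [Finset.card_le_one]
  intro S hS T hT
  rw [mem_groundSets] at hS hT
  obtain ⟨w, hw⟩ := exists_weight_set hp hα₀ hS.1
  obtain ⟨w', hw'⟩ := exists_weight_set hp hα₀ hT.1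
  exact eq_of_down hp (down_of_sum_eq hp hα₀ hS.1 (by omega))
    (down_of_sum_eq hp hα₀ hT.1 (by omega)) (hS.1.trans hT.1.symm)

open Classical in
/-- Dropping the lowest displaced bead of the first displaced runner to its first gap. -/
theorem exists_drop {α₀ : Fin N → ℕ} (hp : 0 < p) (hα₀ : Function.Injective α₀) {W : ℕ}
    {S : Finset ℕ} (hS : S ∈ exactSets p α₀ (W + 1)) :
    ∃ q : ℕ × Finset ℕ, q ∈ (Finset.Ico 1 p) ×ˢ groundSets p α₀ W ∧
      ∃ g, (g % p = q.1 ∧ g ∉ q.2 ∧ (∀ y, y % p = q.1 → y < g → y ∈ q.2) ∧ p ≤ g ∧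
          g - p ∈ q.2) ∧
        S = insert (g - p + ((∑ i, core0 p α₀ i) + p * (W + 1) - ∑ x ∈ q.2, x))
          (q.2.erase (g - p)) := by
  set B0 := ∑ i, core0 p α₀ i with hB0
  rw [mem_exactSets] at hS
  obtain ⟨hc, h0, hsum⟩ := hS
  rw [← hB0] at hsum
  obtain ⟨r, x0, hx0, hx0r, hpx0, hx0n⟩ : ∃ r x, x ∈ S ∧ x % p = r ∧ p ≤ x ∧ x - p ∉ S := by
    by_contra hcon
    push Not at hcon
    have hd : ∀ r, Down p S r := fun r x hx hr hpx => hcon r x hx hr hpx
    obtain ⟨α, hα, himg, hcα, hsα⟩ := exists_tuple hp hc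
    obtain ⟨j, hj⟩ := exists_movable (p := p) (α := α) (by
      intro he
      have h1 := sum_core0_eq hp hα hα₀ hcα
      rw [he, hsα, hsum, ← hB0, Nat.mul_succ] at h1
      omega) hα
    have h1 := hd _ (α j) (himg ▸ Finset.mem_image_of_mem α (Finset.mem_univ j)) rfl hj.1
    rw [← himg, Finset.mem_image] at h1
    obtain ⟨i, -, hi⟩ := h1
    exact hj.2 i hi
  have hrp : r < p := hx0r ▸ Nat.mod_lt _ hp
  have hr1 : 1 ≤ r := Nat.pos_of_ne_zero fun h => hx0n (h0 x0 hx0 (hx0r.trans h) hpx0)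
  have hv : ∃ y, y % p = r ∧ y ∉ S := ⟨x0 - p, by rw [sub_mod_self_right hpx0, hx0r], hx0n⟩
  obtain ⟨v, ⟨hvr, hvS⟩, hvmin⟩ : ∃ v, (v % p = r ∧ v ∉ S) ∧
      ∀ y, y % p = r → y < v → y ∈ S := ⟨Nat.find hv, Nat.find_spec hv, fun y hy hlt => by
    by_contra hn
    exact Nat.find_min hv hlt ⟨hy, hn⟩⟩
  have hvx0 : v < x0 := by
    by_contra hn
    rcases (not_lt.mp hn).eq_or_lt with h | h
    · exact hvS (h ▸ hx0)
    · exact hx0n (hvmin (x0 - p) (by rw [sub_mod_self_right hpx0, hx0r]) (by omega))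
  have hxe : ∃ y, (y % p = r ∧ y ∈ S) ∧ v < y := ⟨x0, ⟨hx0r, hx0⟩, hvx0⟩
  obtain ⟨x, ⟨hxr, hxS⟩, hvx, hxmin⟩ : ∃ x, (x % p = r ∧ x ∈ S) ∧ v < x ∧
      ∀ y, y % p = r → v < y → y < x → y ∉ S :=
    ⟨Nat.find hxe, (Nat.find_spec hxe).1, (Nat.find_spec hxe).2,
      fun y hy hvy hlt hyS => Nat.find_min hxe hlt ⟨⟨hy, hyS⟩, hvy⟩⟩
  have hgap : v + p ≤ x := add_le_of_mod_eq (hvr.trans hxr.symm) hvx
  set S' := insert v (S.erase x) with hS'
  have hve : v ∉ S.erase x := fun h => hvS (Finset.mem_of_mem_erase h)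
  have hsum' : (∑ y ∈ S', y) + x = B0 + p * (W + 1) + v := by
    rw [hS', Finset.sum_insert hve, ← hsum, ← Finset.sum_erase_add S _ hxS]
    ring
  refine ⟨(r, S'), Finset.mem_product.mpr ⟨Finset.mem_Ico.mpr ⟨hr1, hrp⟩,
    mem_groundSets.mpr ⟨?_, ?_, ?_⟩⟩, v + p, ⟨?_, ?_, ?_, Nat.le_add_left _ _, ?_⟩, ?_⟩
  · rw [← hc]
    funext r'
    simp only [cntS, hS']
    rw [Finset.filter_insert, Finset.filter_erase, hvr]
    by_cases hr' : r = r'
    · subst hr'
      rw [if_pos rfl, Finset.card_insert_of_notMem (fun h => hvS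
        (Finset.mem_filter.mp (Finset.mem_of_mem_erase h)).1),
        Finset.card_erase_of_mem (Finset.mem_filter.mpr ⟨hxS, hxr⟩)]
      have hmem : x ∈ S.filter fun y => y % p = r := Finset.mem_filter.mpr ⟨hxS, hxr⟩
      have := Finset.card_pos.mpr ⟨x, hmem⟩
      omega
    · rw [if_neg hr', Finset.erase_eq_of_notMem]
      exact fun h => hr' (hxr.symm.trans (Finset.mem_filter.mp h).2)
  · intro y hy hy0 hpy
    rw [hS', Finset.mem_insert, Finset.mem_erase] at hy ⊢
    rcases hy with rfl | ⟨_, hyS⟩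
    · omega
    · refine Or.inr ⟨fun e => ?_, h0 y hyS hy0 hpy⟩
      rw [← e, sub_mod_self_right hpy] at hxr
      omega
  · show ∑ y ∈ S', y ≤ _
    rw [Nat.mul_succ] at hsum'
    omega
  · show (v + p) % p = r
    rw [Nat.add_mod_right, hvr]
  · show v + p ∉ S'
    rw [hS', Finset.mem_insert, Finset.mem_erase]
    rintro (h | ⟨hne, hmem⟩)
    · omega
    · exact hxmin (v + p) (by rw [Nat.add_mod_right, hvr]) (by omega) (by omega) hmem
  · intro y hy hlt
    show y ∈ S'
    have hy' : y % p = r := hy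
    rw [hS', Finset.mem_insert, Finset.mem_erase]
    rcases lt_trichotomy y v with h | h | h
    · exact Or.inr ⟨by omega, hvmin y hy' h⟩
    · exact Or.inl h
    · have := add_le_of_mod_eq (hvr.trans hy'.symm) h
      omega
  · show v + p - p ∈ S'
    rw [Nat.add_sub_cancel, hS']
    exact Finset.mem_insert_self _ _
  · show S = insert (v + p - p + (B0 + p * (W + 1) - ∑ y ∈ S', y)) (S'.erase (v + p - p))
    rw [show v + p - p + (B0 + p * (W + 1) - ∑ y ∈ S', y) = x by omega,
      Nat.add_sub_cancel, hS', Finset.erase_insert hve, Finset.insert_erase hxS]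

open Classical in
theorem card_exact_le {α₀ : Fin N → ℕ} (hp : 0 < p) (hα₀ : Function.Injective α₀) (W : ℕ) :
    (exactSets p α₀ (W + 1)).card ≤ (p - 1) * (groundSets p α₀ W).card := by
  choose q hq g hg hS using fun S hS => exists_drop (α₀ := α₀) (W := W) (S := S) hp hα₀ hS
  refine le_trans (Finset.card_le_card_of_injOn (t := (Finset.Ico 1 p) ×ˢ groundSets p α₀ W)
    (fun S => if h : S ∈ exactSets p α₀ (W + 1) then q S h else (0, ∅)) ?_ ?_) ?_
  · intro S hmem
    simp only [Finset.mem_coe] at hmem ⊢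
    rw [dif_pos hmem]
    exact hq S hmem
  · intro S hSm T hTm he
    simp only [Finset.mem_coe] at hSm hTm
    simp only [dif_pos hSm, dif_pos hTm] at he
    obtain ⟨h1, h2, h3, -, -⟩ := hg S hSm
    obtain ⟨k1, k2, k3, -, -⟩ := hg T hTm
    have hgg : g S hSm = g T hTm := by
      rcases lt_trichotomy (g S hSm) (g T hTm) with h | h | h
      · exact absurd (he ▸ k3 _ (he ▸ h1) h) h2
      · exact h
      · exact absurd (he.symm ▸ h3 _ (he.symm ▸ k1) h) k2
    rw [hS S hSm, hS T hTm, hgg, he]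
  · rw [Finset.card_product, Nat.card_Ico]

theorem card_groundSets_le {α₀ : Fin N → ℕ} (hp : 0 < p) (hα₀ : Function.Injective α₀) (W : ℕ) :
    (groundSets p α₀ W).card ≤ p ^ W := by
  classical
  induction W with
  | zero => simpa using card_groundSets_zero hp hα₀
  | succ W ih =>
    have hsub : groundSets p α₀ (W + 1) ⊆ groundSets p α₀ W ∪ exactSets p α₀ (W + 1) := by
      intro S hS
      rw [mem_groundSets] at hS
      obtain ⟨w, hw⟩ := exists_weight_set hp hα₀ hS.1
      rw [Finset.mem_union, mem_groundSets, mem_exactSets]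
      have hle : w ≤ W + 1 := Nat.le_of_mul_le_mul_left (by omega) hp
      rcases hle.eq_or_lt with h | h
      · exact Or.inr ⟨hS.1, hS.2.1, by rw [hw, h]⟩
      · refine Or.inl ⟨hS.1, hS.2.1, ?_⟩
        have := Nat.mul_le_mul_left p (Nat.lt_succ_iff.mp h)
        omega
    refine (Finset.card_le_card hsub).trans ((Finset.card_union_le _ _).trans ?_)
    have h2 := card_exact_le hp hα₀ W
    calc (groundSets p α₀ W).card + (exactSets p α₀ (W + 1)).card
        ≤ (groundSets p α₀ W).card + (p - 1) * (groundSets p α₀ W).card := by omega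
      _ = p * (groundSets p α₀ W).card := by
          rw [add_comm, ← Nat.succ_mul]
          congr 1
          omega
      _ ≤ p * p ^ W := Nat.mul_le_mul_left p ih
      _ = p ^ (W + 1) := (pow_succ' p W).symm

/-- For a positive weight there are fewer than `p ^ w` ground bead sets. -/
theorem card_exact_lt {α₀ : Fin N → ℕ} (hp : 0 < p) (hα₀ : Function.Injective α₀) {w s : ℕ}
    (hws : w ≤ s) (hs : 1 ≤ s) (hp1 : 1 < p) : (exactSets p α₀ w).card < p ^ s := by
  rcases Nat.eq_zero_or_pos w with rfl | hw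
  · refine lt_of_le_of_lt ?_ (Nat.one_lt_pow (by omega) hp1)
    refine le_trans (Finset.card_le_card fun S hS => ?_) (card_groundSets_zero hp hα₀)
    rw [mem_exactSets] at hS
    rw [mem_groundSets]
    exact ⟨hS.1, hS.2.1, hS.2.2.le⟩
  · obtain ⟨W, rfl⟩ := Nat.exists_eq_succ_of_ne_zero hw.ne'
    refine lt_of_lt_of_le ?_ (Nat.pow_le_pow_right (by omega) hws)
    refine lt_of_le_of_lt ((card_exact_le hp hα₀ W).trans
      (Nat.mul_le_mul_left _ (card_groundSets_le hp hα₀ W))) ?_
    rw [pow_succ']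
    exact Nat.mul_lt_mul_of_pos_right (by omega) (Nat.pow_pos hp)

/-- For `p = 2` and weight three there are at most three ground bead sets. -/
theorem card_exact_three {α₀ : Fin N → ℕ} (hα₀ : Function.Injective α₀) :
    (exactSets 2 α₀ 3).card ≤ 3 := by
  classical
  set B0 := ∑ i, core0 2 α₀ i with hB0
  choose q hq g hg hS using fun S hS => exists_drop (α₀ := α₀) (W := 2) (S := S) two_pos hα₀ hS
  let f : Finset ℕ → Finset ℕ := fun S => if h : S ∈ exactSets 2 α₀ 3 then (q S h).2 else ∅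
  have hmem : ∀ S ∈ exactSets 2 α₀ 3, f S ∈ groundSets 2 α₀ 0 ∪ exactSets 2 α₀ 2 := by
    intro S hSm
    simp only [f, dif_pos hSm]
    obtain ⟨h1, h2, h3, hpg, hvmem⟩ := hg S hSm
    have heq := hS S hSm
    rw [← hB0] at heq
    obtain ⟨hr, hT⟩ := Finset.mem_product.mp (hq S hSm)
    have hr1 : (q S hSm).1 = 1 := by
      have := Finset.mem_Ico.mp hr
      omega
    rw [hr1] at h1 h3
    set S' := (q S hSm).2
    rw [mem_groundSets] at hT
    obtain ⟨hc, hd0, hle⟩ := hT
    rw [← hB0] at hle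
    obtain ⟨w, hw⟩ := exists_weight_set two_pos hα₀ hc
    rw [← hB0] at hw
    rw [Finset.mem_union, mem_groundSets, mem_exactSets, ← hB0]
    by_cases hw1 : w = 1
    swap
    · by_cases hw0 : w = 0
      · exact Or.inl ⟨hc, hd0, by omega⟩
      · exact Or.inr ⟨hc, hd0, by omega⟩
    exfalso
    have hx : g S hSm + 2 ∉ S' := by
      intro hmem'
      have hin : g S hSm + 2 ∈ S'.erase (g S hSm - 2) :=
        Finset.mem_erase.mpr ⟨by omega, hmem'⟩
      rw [show g S hSm - 2 + (B0 + 2 * (2 + 1) - ∑ x ∈ S', x) = g S hSm + 2 by omega,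
        Finset.insert_eq_of_mem hin] at heq
      have e1 := card_eq_of_cntS two_pos (mem_exactSets.mp hSm).1
      have e2 := card_eq_of_cntS two_pos hc
      have e3 := Finset.card_erase_lt_of_mem hvmem
      rw [← heq] at e3
      omega
    obtain ⟨y, hy, hy1, hgy⟩ : ∃ y ∈ S', y % 2 = 1 ∧ g S hSm < y := by
      by_contra hcon
      push Not at hcon
      have hdown : ∀ r, Down 2 S' r := by
        intro r x hxS hxr hx2
        by_cases hx1 : x % 2 = 1
        · have := hcon x hxS hx1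
          exact h3 _ (by omega) (by omega)
        · exact hd0 x hxS (by omega) hx2
      obtain ⟨α, hα, himg, hcα, hsα⟩ := exists_tuple two_pos hc
      obtain ⟨j, hj⟩ := exists_movable (p := 2) (α := α) (by
        intro he
        have h4 := sum_core0_eq two_pos hα hα₀ hcα
        rw [he, hsα, ← hB0] at h4
        omega) hα
      have h5 := hdown _ (α j) (himg ▸ Finset.mem_image_of_mem α (Finset.mem_univ j)) rfl hj.1
      rw [← himg, Finset.mem_image] at h5
      obtain ⟨i, -, hi⟩ := h5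
      exact hj.2 i hi
    have hyne : y ≠ g S hSm + 2 := fun e => hx (e ▸ hy)
    have hge : g S hSm ∉ S'.erase y := fun h => h2 (Finset.mem_of_mem_erase h)
    set S'' := insert (g S hSm) (S'.erase y) with hS''
    have hc'' : cntS 2 S'' = cnt 2 α₀ := by
      rw [← hc]
      funext r
      simp only [cntS, hS'', Finset.filter_insert, Finset.filter_erase, h1]
      by_cases hr' : 1 = r
      · subst hr'
        have hy' : y ∈ S'.filter fun x => x % 2 = 1 := Finset.mem_filter.mpr ⟨hy, hy1⟩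
        rw [if_pos rfl, Finset.card_insert_of_notMem (fun h => h2
          (Finset.mem_filter.mp (Finset.mem_of_mem_erase h)).1), Finset.card_erase_of_mem hy']
        have := Finset.card_pos.mpr ⟨y, hy'⟩
        omega
      · rw [if_neg hr', Finset.erase_eq_of_notMem]
        exact fun h => hr' (hy1.symm.trans (Finset.mem_filter.mp h).2)
    obtain ⟨w'', hw''⟩ := exists_weight_set two_pos hα₀ hc''
    rw [hS'', Finset.sum_insert hge, ← hB0] at hw''
    have := Finset.sum_erase_add S' (fun x => x) hy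
    omega
  have hinj : Set.InjOn f (exactSets 2 α₀ 3 : Set (Finset ℕ)) := by
    intro S hSm T hTm he
    simp only [Finset.mem_coe] at hSm hTm
    simp only [f, dif_pos hSm, dif_pos hTm] at he
    have r1 := Finset.mem_Ico.mp (Finset.mem_product.mp (hq S hSm)).1
    have r2 := Finset.mem_Ico.mp (Finset.mem_product.mp (hq T hTm)).1
    have hq12 : q S hSm = q T hTm := Prod.ext (by omega) he
    obtain ⟨h1, h2, h3, -, -⟩ := hg S hSm
    obtain ⟨k1, k2, k3, -, -⟩ := hg T hTm
    have hgg : g S hSm = g T hTm := by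
      rcases lt_trichotomy (g S hSm) (g T hTm) with h | h | h
      · exact absurd (hq12 ▸ k3 _ (hq12 ▸ h1) h) h2
      · exact h
      · exact absurd (hq12.symm ▸ h3 _ (hq12.symm ▸ k1) h) k2
    rw [hS S hSm, hS T hTm, hgg, hq12]
  refine (Finset.card_le_card_of_injOn f (fun S hSm => hmem S hSm) hinj).trans
    ((Finset.card_union_le _ _).trans ?_)
  have a0 := card_groundSets_zero (p := 2) two_pos hα₀
  have a2 : (exactSets 2 α₀ 2).card ≤ _ := card_exact_le two_pos hα₀ 1
  have a1 := card_groundSets_le (p := 2) two_pos hα₀ 1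
  omega

/-- For `p = 2` and weight at least three there are fewer than `2 ^ (w - 1)` ground bead sets. -/
theorem card_exact_two_lt {α₀ : Fin N → ℕ} (hα₀ : Function.Injective α₀) :
    ∀ w, 3 ≤ w → (exactSets 2 α₀ w).card < 2 ^ (w - 1) := by
  classical
  have hsub : ∀ W, (groundSets 2 α₀ (W + 1)).card ≤
      (groundSets 2 α₀ W).card + (exactSets 2 α₀ (W + 1)).card := by
    intro W
    refine (Finset.card_le_card fun S hS => ?_).trans (Finset.card_union_le _ _)
    rw [mem_groundSets] at hS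
    obtain ⟨w, hw⟩ := exists_weight_set two_pos hα₀ hS.1
    rw [Finset.mem_union, mem_groundSets, mem_exactSets]
    rcases Nat.lt_or_ge w (W + 1) with h | h
    · exact Or.inl ⟨hS.1, hS.2.1, by omega⟩
    · exact Or.inr ⟨hS.1, hS.2.1, by omega⟩
  have hT : ∀ W, 3 ≤ W → (groundSets 2 α₀ W).card < 2 ^ W := by
    intro W hW
    induction W, hW using Nat.le_induction with
    | base =>
      have h1 : (groundSets 2 α₀ 3).card ≤
          (groundSets 2 α₀ 2).card + (exactSets 2 α₀ 3).card := hsub 2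
      have h2 := card_groundSets_le (p := 2) two_pos hα₀ 2
      have h3 := card_exact_three hα₀
      omega
    | succ W hW ih =>
      have h1 := hsub W
      have h2 := card_exact_le (p := 2) two_pos hα₀ W
      rw [pow_succ]
      omega
  intro w hw
  obtain ⟨W, rfl⟩ := Nat.exists_eq_add_of_le hw
  rcases Nat.eq_zero_or_pos W with rfl | hW
  · have := card_exact_three hα₀
    norm_num
    omega
  · have h2 := card_exact_le (p := 2) two_pos hα₀ (W + 2)
    have h3 := hT (W + 2) (by omega)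
    rw [show 3 + W = W + 2 + 1 by omega, Nat.add_sub_cancel]
    omega

end Cfsg.Agent.SymBlocks
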