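import Cfsg.Agent.Lib.SymBlocks.AltDefect

/-!
# Degrees on the abacus

`Vd`: the falling-factorial determinant (the Vandermonde product). `vM_ones_mul`: the degree
formula of Frobenius, `vM (1^m) α * ∏ (α i)! = m! * Vd α`. `padic_degree`: its `p`-adic valuation
in terms of bead sets.
-/

set_option autoImplicit false

open Finset

namespace Cfsg.Agent.SymBlocks

open Cfsg

variable {N n p : ℕ}

theorem cast_mul_descFactorial_pred (x k : ℕ) :
    (x : ℤ) * ((x - 1).descFactorial k : ℤ) = (x.descFactorial k : ℤ) * ((x : ℤ) - k) := by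
  have h1 : x * (x - 1).descFactorial k = x.descFactorial (k + 1) := by
    rcases Nat.eq_zero_or_pos x with rfl | hx
    · simp
    · obtain ⟨y, rfl⟩ : ∃ y, x = y + 1 := ⟨x - 1, by omega⟩
      rw [Nat.add_sub_cancel, Nat.succ_descFactorial_succ]
  rw [← Nat.cast_mul, h1, Nat.descFactorial_succ]
  by_cases h : k ≤ x
  · push_cast [Nat.cast_sub h]
    ring
  · rw [Nat.descFactorial_eq_zero_iff_lt.mpr (not_le.mp h)]
    simp

/-- The determinant of the falling factorials. -/
noncomputable def Vd (N : ℕ) (α : Fin N → ℕ) : ℤ :=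
  (Matrix.of fun i j : Fin N => ((α i).descFactorial j : ℤ)).det

theorem Vd_expand (α : Fin N → ℕ) :
    Vd N α = ∑ σ : Equiv.Perm (Fin N), ((Equiv.Perm.sign σ : ℤ)) *
      ∏ i, ((α (σ i)).descFactorial i : ℤ) := by
  rw [Vd, Matrix.det_apply']
  rfl

theorem sum_mul_Vd (α : Fin N → ℕ) :
    ∑ j, (α j : ℤ) * Vd N (Function.update α j (α j - 1))
      = ((∑ i, α i : ℕ) - (stair N : ℤ)) * Vd N α := by
  simp only [Vd_expand, Finset.mul_sum]
  rw [Finset.sum_comm]
  refine Finset.sum_congr rfl fun σ _ => ?_
  have key : ∀ i, (α (σ i) : ℤ) * ∏ k, ((Function.update α (σ i) (α (σ i) - 1) (σ k)).descFactorial k : ℤ)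
      = ((α (σ i) : ℤ) - (i : ℕ)) * ∏ k, ((α (σ k)).descFactorial k : ℤ) := by
    intro i
    rw [← Finset.mul_prod_erase _ _ (Finset.mem_univ i), ← Finset.mul_prod_erase Finset.univ (fun k => ((α (σ k)).descFactorial k : ℤ)) (Finset.mem_univ i), Function.update_self, ← mul_assoc,
      cast_mul_descFactorial_pred, Finset.prod_congr rfl fun k hk => by
        rw [Function.update_of_ne (σ.injective.ne (Finset.ne_of_mem_erase hk))]]
    ring
  calc ∑ j, (α j : ℤ) * ((Equiv.Perm.sign σ : ℤ) *
        ∏ i, ((Function.update α j (α j - 1) (σ i)).descFactorial i : ℤ))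
      = ∑ i, (α (σ i) : ℤ) * ((Equiv.Perm.sign σ : ℤ) *
        ∏ k, ((Function.update α (σ i) (α (σ i) - 1) (σ k)).descFactorial k : ℤ)) :=
        (Equiv.sum_comp σ _).symm
    _ = ∑ i, ((α (σ i) : ℤ) - (i : ℕ)) * ((Equiv.Perm.sign σ : ℤ) *
        ∏ k, ((α (σ k)).descFactorial k : ℤ)) := by
        refine Finset.sum_congr rfl fun i _ => ?_
        rw [mul_left_comm, key]
        ring
    _ = _ := by
        rw [← Finset.sum_mul, Finset.sum_sub_distrib, Equiv.sum_comp σ fun j => (α j : ℤ), stair]
        push_cast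
        rfl

theorem Vd_of_not_injective {α : Fin N → ℕ} (h : ¬ Function.Injective α) : Vd N α = 0 := by
  simp only [Function.Injective, not_forall] at h
  obtain ⟨i, j, hij, hne⟩ := h
  exact Matrix.det_zero_of_row_eq hne (funext fun k => by simp [hij])

theorem Vd_perm (π : Equiv.Perm (Fin N)) :
    Vd N (fun j => (π j : ℕ)) = (Equiv.Perm.sign π : ℤ) * ∏ j : Fin N, ((j : ℕ).factorial : ℤ) := by
  have h : Vd N (fun j => (π j : ℕ)) = Matrix.det
      (Matrix.submatrix (Matrix.of fun i j : Fin N => ((i : ℕ).descFactorial j : ℤ)) π id) := rfl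
  rw [h, Matrix.det_permute, Matrix.det_of_isLowerTriangular]
  · congr 1
    exact Finset.prod_congr rfl fun i _ => by simp [Nat.descFactorial_self]
  · intro i j hij
    simp only [Matrix.of_apply, Nat.cast_eq_zero, Nat.descFactorial_eq_zero_iff_lt]
    exact hij

/-- At level zero an injective tuple is a rearrangement of the staircase. -/
theorem eq_perm_of_level_zero {α : Fin N → ℕ} (hα : Function.Injective α)
    (hs : ∑ i, α i = stair N) : ∃ π : Equiv.Perm (Fin N), α = fun j => (π j : ℕ) := by
  have hlt : ∀ i, α i < N := by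
    intro i
    by_contra hge
    choose g hg using fun v : Fin N =>
      exists_eq_of_level (M := 0) hα (by rw [hs, add_zero]) (v := (v : ℕ)) (by omega)
    have hinj : Function.Injective g := fun a b h => Fin.ext (by rw [← hg a, ← hg b, h])
    obtain ⟨v, hv⟩ := (Finite.injective_iff_surjective.mp hinj) i
    exact hge (by rw [← hv, hg]; exact v.isLt)
  let π : Equiv.Perm (Fin N) := Equiv.ofBijective (fun i => (⟨α i, hlt i⟩ : Fin N))
    (Finite.injective_iff_bijective.mp fun a b h => hα (congrArg Fin.val h))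
  exact ⟨π, rfl⟩

/-- The degree formula. -/
theorem vM_ones_mul : ∀ (m : ℕ) (α : Fin N → ℕ), ∑ i, α i = stair N + m →
    vM N (Multiset.replicate m 1) α * ((∏ i, (α i).factorial : ℕ) : ℂ)
      = (m.factorial : ℂ) * (Vd N α : ℂ) := by
  intro m
  induction m with
  | zero =>
    intro α hs
    rw [Multiset.replicate_zero, vM_zero, Nat.factorial_zero, Nat.cast_one, one_mul]
    by_cases hα : Function.Injective α
    · obtain ⟨π, rfl⟩ := eq_perm_of_level_zero hα (by rw [hs, add_zero])
      rw [base_perm, Vd_perm, Equiv.prod_comp π fun j : Fin N => (j : ℕ).factorial]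
      push_cast
      rfl
    · rw [anti_base.zero_of_not_injective hα, Vd_of_not_injective hα]
      simp
  | succ m ih =>
    intro α hs
    rw [Multiset.replicate_succ, vM_cons, C, Finset.sum_mul]
    have hterm : ∀ j, (if 1 ≤ α j then vM N (Multiset.replicate m 1) (Function.update α j (α j - 1))
        else 0) * ((∏ i, (α i).factorial : ℕ) : ℂ)
        = (m.factorial : ℂ) * (((α j : ℤ) * Vd N (Function.update α j (α j - 1)) : ℤ) : ℂ) := by
      intro j
      by_cases h : 1 ≤ α j
      · rw [if_pos h]
        have hsum := sum_update_add α j (α j - 1)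
        have hprod : (∏ i, (α i).factorial)
            = α j * ∏ i, (Function.update α j (α j - 1) i).factorial := by
          rw [← Finset.mul_prod_erase _ _ (Finset.mem_univ j),
            ← Finset.mul_prod_erase Finset.univ
              (fun i => (Function.update α j (α j - 1) i).factorial) (Finset.mem_univ j),
            Function.update_self, ← mul_assoc, Nat.mul_factorial_pred (by omega),
            Finset.prod_congr rfl (g := fun i => (Function.update α j (α j - 1) i).factorial)
              (s₁ := Finset.univ.erase j) fun i hi => by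
              rw [Function.update_of_ne (Finset.ne_of_mem_erase hi)]]
        rw [hprod, Nat.cast_mul, mul_left_comm, ih _ (by omega)]
        push_cast
        ring
      · rw [if_neg h, show α j = 0 by omega]
        simp
    rw [Finset.sum_congr rfl fun j _ => hterm j, ← Finset.mul_sum, ← Int.cast_sum, sum_mul_Vd, hs,
      Nat.factorial_succ]
    push_cast
    ring

theorem vM_int (μ : Multiset ℕ) : ∀ α : Fin N → ℕ, ∃ z : ℤ, vM N μ α = (z : ℂ) := by
  induction μ using Multiset.induction_on with
  | empty =>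
    intro α
    exact ⟨∑ π : Equiv.Perm (Fin N), if ∀ j, (π j : ℕ) = α j then (Equiv.Perm.sign π : ℤ) else 0,
      by simp [base, Int.cast_sum, apply_ite]⟩
  | cons a s ih =>
    intro α
    choose z hz using ih
    refine ⟨∑ j, if a ≤ α j then z (Function.update α j (α j - a)) else 0, ?_⟩
    rw [vM_cons, C, Int.cast_sum]
    refine Finset.sum_congr rfl fun j _ => ?_
    rw [hz]
    split_ifs <;> simp

theorem Vd_eq_prod (α : Fin N → ℕ) :
    Vd N α = ∏ i : Fin N, ∏ j ∈ Finset.Ioi i, ((α j : ℤ) - α i) := by
  rw [← Matrix.det_vandermonde, Matrix.det_eval_matrixOfPolynomials_eq_det_vandermonde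
    (fun i => (α i : ℤ)) (fun j : Fin N => descPochhammer ℤ j)
    (fun j => descPochhammer_natDegree ℤ j) (fun j => monic_descPochhammer ℤ j), Vd]
  congr 1
  ext i j
  simp [descPochhammer_eval_eq_descFactorial]

/-! ### Valuations -/

/-- The valuation of the product of the factorials of a bead set. -/
def facV (p : ℕ) (S : Finset ℕ) : ℕ := ∑ x ∈ S, padicValNat p x.factorial

/-- The valuation of the product of the differences of a bead set. -/
def pairV (p : ℕ) (S : Finset ℕ) : ℕ :=
  ∑ x ∈ S, ∑ y ∈ S.filter (fun y => y < x), padicValNat p (x - y)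

/-- The valuation of the product of the hook lengths of a bead set. -/
def hookE (p : ℕ) (S : Finset ℕ) : ℕ := facV p S - pairV p S

theorem padic_prod [Fact p.Prime] {ι : Type*} (s : Finset ι) (f : ι → ℕ) (hf : ∀ i ∈ s, f i ≠ 0) :
    padicValNat p (∏ i ∈ s, f i) = ∑ i ∈ s, padicValNat p (f i) := by
  classical
  induction s using Finset.induction_on with
  | empty => simp
  | insert a s ha ih =>
    rw [Finset.prod_insert ha, Finset.sum_insert ha,
      padicValNat.mul (hf a (Finset.mem_insert_self a s))
        (Finset.prod_ne_zero_iff.mpr fun i hi => hf i (Finset.mem_insert_of_mem hi)),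
      ih fun i hi => hf i (Finset.mem_insert_of_mem hi)]

theorem padic_factorial_sum [Fact p.Prime] (x : ℕ) :
    padicValNat p x.factorial = ∑ d ∈ Finset.range x, padicValNat p (x - d) := by
  rw [← Finset.sum_range_reflect, ← Finset.prod_range_add_one_eq_factorial,
    padic_prod _ _ fun i _ => Nat.succ_ne_zero i]
  refine Finset.sum_congr rfl fun d hd => congrArg _ ?_
  have := Finset.mem_range.mp hd
  omega

theorem pairV_le_facV [Fact p.Prime] (S : Finset ℕ) : pairV p S ≤ facV p S := by
  refine Finset.sum_le_sum fun x _ => ?_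
  rw [padic_factorial_sum]
  exact Finset.sum_le_sum_of_subset fun y hy =>
    Finset.mem_range.mpr (Finset.mem_filter.mp hy).2

theorem hookE_add [Fact p.Prime] (S : Finset ℕ) : hookE p S + pairV p S = facV p S :=
  Nat.sub_add_cancel (pairV_le_facV S)

/-- Half of a symmetric double sum. -/
theorem two_mul_sum_lt {ι κ : Type*} [Fintype ι] [LinearOrder κ] (K : ι → κ)
    (hK : Function.Injective K) (g : ι → ι → ℕ) (hg : ∀ i j, g i j = g j i) (h0 : ∀ i, g i i = 0) :
    2 * ∑ i, ∑ j ∈ Finset.univ.filter (fun j => K j < K i), g i j = ∑ i, ∑ j, g i j := by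
  classical
  have h : ∀ i, ∑ j, g i j = (∑ j, if K j < K i then g i j else 0)
      + ∑ j, if K i < K j then g i j else 0 := by
    intro i
    rw [← Finset.sum_add_distrib]
    refine Finset.sum_congr rfl fun j _ => ?_
    rcases lt_trichotomy (K j) (K i) with h | h | h
    · simp [h, h.not_gt]
    · rw [hK h]
      simp [h0]
    · simp [h, h.not_gt]
  rw [Finset.sum_congr rfl fun i _ => h i, Finset.sum_add_distrib, two_mul]
  simp only [Finset.sum_filter]
  congr 1
  rw [Finset.sum_comm]
  exact Finset.sum_congr rfl fun i _ => Finset.sum_congr rfl fun j _ => by simp only [hg]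

theorem padic_Vd [Fact p.Prime] {α : Fin N → ℕ} (hα : Function.Injective α) :
    padicValNat p (Vd N α).natAbs = pairV p (Finset.univ.image α) := by
  classical
  rw [Vd_eq_prod]
  simp only [← Int.natAbsHom_apply, map_prod]
  simp only [Int.natAbsHom_apply]
  rw [padic_prod _ _ fun i _ => Finset.prod_ne_zero_iff.mpr fun j hj h => ?_]
  swap
  · exact (ne_of_gt (Finset.mem_Ioi.mp hj)) (hα (by omega))
  simp only [pairV]
  rw [Finset.sum_image hα.injOn]
  let g : Fin N → Fin N → ℕ := fun i j => padicValNat p ((α j : ℤ) - α i).natAbs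
  have hg : ∀ i j, g i j = g j i := fun i j => by
    simp only [g]
    rw [← Int.natAbs_neg]
    congr 2
    ring
  have h0 : ∀ i, g i i = 0 := fun i => by simp [g]
  have hL := two_mul_sum_lt (fun i : Fin N => OrderDual.toDual i) OrderDual.toDual.injective g hg h0
  have hR := two_mul_sum_lt α hα g hg h0
  refine Nat.eq_of_mul_eq_mul_left two_pos ?_
  refine Eq.trans ?_ ((hL.trans hR.symm).trans ?_)
  · congr 1
    refine Finset.sum_congr rfl fun i _ => ?_
    rw [padic_prod _ _ fun j hj h => (ne_of_gt (Finset.mem_Ioi.mp hj)) (hα (by omega))]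
    exact Finset.sum_congr (by ext j; simp) fun j _ => rfl
  · congr 1
    refine Finset.sum_congr rfl fun i _ => ?_
    rw [Finset.filter_image, Finset.sum_image hα.injOn]
    refine Finset.sum_congr rfl fun j hj => congrArg (padicValNat p) ?_
    have := (Finset.mem_filter.mp hj).2
    omega

theorem natCast_natAbs_mul {a b : ℕ} {z c : ℤ} (h : z * (a : ℤ) = (b : ℤ) * c) :
    z.natAbs * a = b * c.natAbs := by
  have := congrArg Int.natAbs h
  simpa [Int.natAbs_mul] using this

theorem Vd_ne_zero {α : Fin N → ℕ} (hα : Function.Injective α) : Vd N α ≠ 0 := by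
  rw [Vd_eq_prod]
  exact Finset.prod_ne_zero_iff.mpr fun i _ => Finset.prod_ne_zero_iff.mpr fun j hj h =>
    (ne_of_gt (Finset.mem_Ioi.mp hj)) (hα (by omega))

theorem padic_value [Fact p.Prime] {α : Fin N → ℕ} (hα : Function.Injective α) {m : ℕ}
    (hs : ∑ i, α i = stair N + m) :
    ∃ z : ℤ, vM N (Multiset.replicate m 1) α = (z : ℂ) ∧ z ≠ 0 ∧
      padicValNat p z.natAbs + hookE p (Finset.univ.image α) = padicValNat p m.factorial := by
  obtain ⟨z, hz⟩ := vM_int (Multiset.replicate m 1) α
  have hz0 : z ≠ 0 := fun h => vM_ones_ne_zero hα hs (by rw [hz, h, Int.cast_zero])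
  refine ⟨z, hz, hz0, ?_⟩
  have h := vM_ones_mul m α hs
  rw [hz] at h
  have h' : z * ((∏ i, (α i).factorial : ℕ) : ℤ) = (m.factorial : ℤ) * Vd N α := by
    exact_mod_cast h
  have h2 := congrArg (padicValNat p) (natCast_natAbs_mul h')
  rw [padicValNat.mul (Int.natAbs_ne_zero.mpr hz0)
      (Finset.prod_ne_zero_iff.mpr fun i _ => Nat.factorial_ne_zero _),
    padicValNat.mul (Nat.factorial_ne_zero m) (Int.natAbs_ne_zero.mpr (Vd_ne_zero hα)),
    padic_prod _ _ fun i _ => Nat.factorial_ne_zero _, padic_Vd hα] at h2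
  have h3 := hookE_add (p := p) (Finset.univ.image α)
  rw [facV, Finset.sum_image hα.injOn] at h3
  omega

/-- The valuation of a degree. -/
theorem padic_degree [Fact p.Prime] (hn : n ≤ N) {α : Fin N → ℕ} (hα : α ∈ lev N n)
    {ψ : IrrCharacter (Equiv.Perm (Fin n))} (hne : coef N α ψ ≠ 0) :
    (charDegree (ψ : Equiv.Perm (Fin n) → ℂ)).factorization p + hookE p (Finset.univ.image α)
      = padicValNat p n.factorial := by
  obtain ⟨β, hβ, -, hε, -, huniq⟩ := exists_label hn ψ
  obtain ⟨π, rfl⟩ := huniq α hα hne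
  have hinj : Function.Injective (β ∘ π) := hβ.comp π.injective
  obtain ⟨z, hz, -, hv⟩ := padic_value (p := p) hinj (mem_lev.mp hα)
  have h1 := congrFun (chi_eq_coef_smul hn hα hne) 1
  rw [chi, parts_one, hz, Pi.smul_apply, smul_eq_mul, ← Blocks.charDegree_cast, coef_comp] at h1
  have h2 : z.natAbs = charDegree (ψ : Equiv.Perm (Fin n) → ℂ) := by
    rcases Int.units_eq_one_or (Equiv.Perm.sign π) with h | h <;>
      rcases hε with h' | h' <;> rw [h, h'] at h1 <;> simp at h1
    all_goals
      first
        | (have : z = (charDegree (ψ : Equiv.Perm (Fin n) → ℂ) : ℤ) := by exact_mod_cast h1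
           omega)
        | (have : z = -(charDegree (ψ : Equiv.Perm (Fin n) → ℂ) : ℤ) := by exact_mod_cast h1
           omega)
  rw [Nat.factorization_def _ (Fact.out : p.Prime), ← h2, hv]

/-- The valuation of the hook product is at most that of the factorial of the level. -/
theorem hookE_le [Fact p.Prime] {T : Finset ℕ} {m : ℕ}
    (hs : ∑ x ∈ T, x = stair T.card + m) : hookE p T ≤ padicValNat p m.factorial := by
  have himg : Finset.univ.image (T.orderEmbOfFin rfl) = T := Finset.image_orderEmbOfFin_univ T _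
  have hinj : Function.Injective (T.orderEmbOfFin rfl) := (T.orderEmbOfFin rfl).injective
  obtain ⟨z, -, -, hv⟩ := padic_value (p := p) hinj (m := m) (by
    rw [← hs]
    conv_rhs => rw [← himg, Finset.sum_image hinj.injOn])
  rw [himg] at hv
  omega

/-! ### Runners -/

/-- The levels of the beads on a runner. -/
def runner (p : ℕ) (S : Finset ℕ) (r : ℕ) : Finset ℕ :=
  (S.filter fun x => x % p = r).image (· / p)

theorem div_injOn (S : Finset ℕ) (r : ℕ) :
    Set.InjOn (fun x => x / p) (S.filter fun x => x % p = r : Finset ℕ) := by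
  intro x hx y hy h
  simp only [Finset.coe_filter, Set.mem_ofPred_eq] at hx hy
  simp only at h
  rw [← Nat.div_add_mod x p, ← Nat.div_add_mod y p, h, hx.2, hy.2]

theorem card_runner (S : Finset ℕ) (r : ℕ) : (runner p S r).card = cntS p S r :=
  Finset.card_image_of_injOn (div_injOn S r)

theorem mem_runner (hp : 0 < p) {S : Finset ℕ} {r a : ℕ} (hr : r < p) :
    a ∈ runner p S r ↔ r + p * a ∈ S := by
  constructor
  · rintro h
    obtain ⟨x, hx, rfl⟩ := Finset.mem_image.mp h
    obtain ⟨hxS, rfl⟩ := Finset.mem_filter.mp hx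
    rwa [Nat.mod_add_div]
  · intro h
    refine Finset.mem_image.mpr ⟨r + p * a, Finset.mem_filter.mpr ⟨h, ?_⟩, ?_⟩
    · rw [Nat.add_mul_mod_self_left, Nat.mod_eq_of_lt hr]
    · rw [Nat.add_mul_div_left _ _ hp, Nat.div_eq_of_lt hr, Nat.zero_add]

theorem sum_runners (hp : 0 < p) (S : Finset ℕ) (F : ℕ → ℕ) :
    ∑ x ∈ S, F x = ∑ r ∈ Finset.range p, ∑ a ∈ runner p S r, F (r + p * a) := by
  rw [← Finset.sum_fiberwise_of_maps_to (t := Finset.range p) (g := fun x => x % p)
    (fun x _ => Finset.mem_range.mpr (Nat.mod_lt x hp))]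
  refine Finset.sum_congr rfl fun r _ => ?_
  rw [runner, Finset.sum_image (div_injOn S r)]
  refine Finset.sum_congr rfl fun x hx => ?_
  rw [← (Finset.mem_filter.mp hx).2, Nat.mod_add_div]

theorem filter_below_runner (hp : 0 < p) (S : Finset ℕ) {r : ℕ} (hr : r < p) (a : ℕ) (F : ℕ → ℕ) :
    ∑ y ∈ S.filter (fun y => y % p = r ∧ y < r + p * a), F y
      = ∑ b ∈ (runner p S r).filter (fun b => b < a), F (r + p * b) := by
  symm
  refine Finset.sum_bij' (fun b _ => r + p * b) (fun y _ => y / p) ?_ ?_ ?_ ?_ fun _ _ => rfl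
  · intro b hb
    obtain ⟨hbT, hba⟩ := Finset.mem_filter.mp hb
    refine Finset.mem_filter.mpr ⟨(mem_runner hp hr).mp hbT, ?_, ?_⟩
    · rw [Nat.add_mul_mod_self_left, Nat.mod_eq_of_lt hr]
    · exact Nat.add_lt_add_left (Nat.mul_lt_mul_of_pos_left hba hp) r
  · intro y hy
    obtain ⟨hyS, hyr, hya⟩ := Finset.mem_filter.mp hy
    refine Finset.mem_filter.mpr ⟨Finset.mem_image.mpr ⟨y, Finset.mem_filter.mpr ⟨hyS, hyr⟩, rfl⟩,
      Nat.lt_of_mul_lt_mul_left (a := p) ?_⟩
    have := Nat.mod_add_div y p
    omega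
  · intro b _
    rw [Nat.add_mul_div_left _ _ hp, Nat.div_eq_of_lt hr, Nat.zero_add]
  · intro y hy
    rw [← (Finset.mem_filter.mp hy).2.1, Nat.mod_add_div]

theorem sum_rank (T : Finset ℕ) :
    ∑ a ∈ T, (T.filter (fun b => b < a)).card = stair T.card := by
  induction T using Finset.induction_on_max with
  | empty => simp [stair_eq]
  | insert a s ha ih =>
    have has : a ∉ s := fun h => lt_irrefl a (ha a h)
    rw [Finset.sum_insert has, Finset.card_insert_of_notMem has, stair_eq, Finset.sum_range_succ,
      ← stair_eq, ← ih, Finset.filter_insert, if_neg (lt_irrefl a),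
      Finset.filter_true_of_mem ha, add_comm]
    congr 1
    refine Finset.sum_congr rfl fun b hb => ?_
    rw [Finset.filter_insert, if_neg (ha b hb).not_gt]

theorem padic_runner_factorial [Fact p.Prime] {r : ℕ} (hr : r < p) (a : ℕ) :
    padicValNat p (r + p * a).factorial = a + padicValNat p a.factorial := by
  rw [add_comm r, padicValNat_factorial_mul_add _ hr, padicValNat_factorial_mul, add_comm]

/-- The weight carried by a runner. -/
def rw' (p : ℕ) (S : Finset ℕ) (r : ℕ) : ℕ :=
  (∑ a ∈ runner p S r, a) - stair (runner p S r).card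

theorem rw'_add (S : Finset ℕ) (r : ℕ) :
    stair (runner p S r).card + rw' p S r = ∑ a ∈ runner p S r, a := by
  refine Nat.add_sub_cancel' ?_
  rw [stair_eq]
  exact sum_range_card_le _

theorem pairV_runners [hp' : Fact p.Prime] (S : Finset ℕ) :
    pairV p S = ∑ r ∈ Finset.range p, (pairV p (runner p S r) + stair (runner p S r).card) := by
  have hp := hp'.out
  rw [pairV, sum_runners hp.pos]
  refine Finset.sum_congr rfl fun r hr => ?_
  rw [Finset.mem_range] at hr
  rw [pairV, ← sum_rank, ← Finset.sum_add_distrib]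
  refine Finset.sum_congr rfl fun a _ => ?_
  have h1 : ∑ y ∈ S.filter (fun y => y < r + p * a), padicValNat p (r + p * a - y)
      = ∑ y ∈ S.filter (fun y => y % p = r ∧ y < r + p * a), padicValNat p (r + p * a - y) := by
    refine (Finset.sum_subset ?_ fun y hy hy' => ?_).symm
    · exact fun y hy => Finset.mem_filter.mpr
        ⟨(Finset.mem_filter.mp hy).1, (Finset.mem_filter.mp hy).2.2⟩
    · obtain ⟨hyS, hlt⟩ := Finset.mem_filter.mp hy
      refine padicValNat.eq_zero_of_not_dvd fun hd => hy' (Finset.mem_filter.mpr ⟨hyS, ?_, hlt⟩)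
      have h2 := (Nat.modEq_iff_dvd' hlt.le).mpr hd
      rw [Nat.ModEq, Nat.add_mul_mod_self_left, Nat.mod_eq_of_lt hr] at h2
      exact h2
  rw [h1, filter_below_runner hp.pos S hr, Finset.card_eq_sum_ones, ← Finset.sum_add_distrib]
  refine Finset.sum_congr rfl fun b hb => ?_
  have hba := (Finset.mem_filter.mp hb).2
  rw [show r + p * a - (r + p * b) = p * (a - b) by rw [Nat.mul_sub]; omega,
    padicValNat.mul hp.ne_zero (by omega), padicValNat_self, add_comm]

theorem hookE_runners [hp' : Fact p.Prime] (S : Finset ℕ) :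
    hookE p S = (∑ r ∈ Finset.range p, rw' p S r)
      + ∑ r ∈ Finset.range p, hookE p (runner p S r) := by
  have h1 : facV p S = ∑ r ∈ Finset.range p,
      ((∑ a ∈ runner p S r, a) + facV p (runner p S r)) := by
    rw [facV, sum_runners hp'.out.pos]
    refine Finset.sum_congr rfl fun r hr => ?_
    rw [facV, ← Finset.sum_add_distrib]
    exact Finset.sum_congr rfl fun a _ => padic_runner_factorial (Finset.mem_range.mp hr) a
  have h2 := hookE_add (p := p) S
  rw [pairV_runners, h1] at h2
  have h3 : ∑ r ∈ Finset.range p, ((∑ a ∈ runner p S r, a) + facV p (runner p S r))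
      = ((∑ r ∈ Finset.range p, rw' p S r) + ∑ r ∈ Finset.range p, hookE p (runner p S r))
        + ∑ r ∈ Finset.range p, (pairV p (runner p S r) + stair (runner p S r).card) := by
    rw [← Finset.sum_add_distrib, ← Finset.sum_add_distrib]
    refine Finset.sum_congr rfl fun r _ => ?_
    have := rw'_add (p := p) S r
    have := hookE_add (p := p) (runner p S r)
    omega
  omega

/-- The runner weights add up to the weight. -/
theorem sum_rw' (hp : 0 < p) {α : Fin N → ℕ} (hα : Function.Injective α) {w : ℕ}
    (hw : ∑ i, α i = (∑ i, core0 p α i) + p * w) :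
    ∑ r ∈ Finset.range p, rw' p (Finset.univ.image α) r = w := by
  set S := Finset.univ.image α with hS
  have hrk : ∀ i, rk p α i = (S.filter fun y => y % p = α i % p ∧ y < α i).card := fun i => by
    rw [rk, hS, Finset.filter_image, Finset.card_image_of_injective _ hα]
  have h1 : ∑ i, core0 p α i
      = ∑ x ∈ S, (x % p + p * (S.filter fun y => y % p = x % p ∧ y < x).card) := by
    rw [hS, Finset.sum_image hα.injOn, ← hS]
    exact Finset.sum_congr rfl fun i _ => by rw [core0, hrk]
  have h2 : ∑ i, α i = ∑ x ∈ S, x := by rw [hS, Finset.sum_image hα.injOn]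
  rw [h1, h2, sum_runners hp, sum_runners hp S fun x => x % p +
    p * (S.filter fun y => y % p = x % p ∧ y < x).card] at hw
  have h3 : ∀ r ∈ Finset.range p, ∑ a ∈ runner p S r, (r + p * a)
      = (∑ a ∈ runner p S r, ((r + p * a) % p + p * (S.filter fun y =>
          y % p = (r + p * a) % p ∧ y < r + p * a).card)) + p * rw' p S r := by
    intro r hr
    have hr' := Finset.mem_range.mp hr
    rw [Finset.sum_congr rfl (g := fun a => r + p * ((runner p S r).filter fun b => b < a).card)
      fun a _ => by
        rw [Nat.add_mul_mod_self_left, Nat.mod_eq_of_lt hr', Finset.card_eq_sum_ones,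
          filter_below_runner hp S hr' a (fun _ => 1), Finset.card_eq_sum_ones]
      (s₁ := runner p S r)
      (f := fun a => (r + p * a) % p + p * (S.filter fun y =>
          y % p = (r + p * a) % p ∧ y < r + p * a).card)]
    rw [Finset.sum_add_distrib, Finset.sum_add_distrib, ← Finset.mul_sum, ← Finset.mul_sum,
      sum_rank, add_assoc, ← mul_add, rw'_add]
  rw [Finset.sum_congr rfl h3, Finset.sum_add_distrib, ← Finset.mul_sum] at hw
  exact Nat.eq_of_mul_eq_mul_left hp (Nat.add_left_cancel hw)

theorem sum_hookE_le [Fact p.Prime] (S : Finset ℕ) :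
    ∑ r ∈ Finset.range p, hookE p (runner p S r)
      ≤ padicValNat p (∑ r ∈ Finset.range p, rw' p S r).factorial := by
  refine le_trans (Finset.sum_le_sum fun r _ => hookE_le (rw'_add S r).symm) ?_
  rw [← padic_prod _ _ fun r _ => Nat.factorial_ne_zero _]
  exact (padicValNat_dvd_iff_le (Nat.factorial_ne_zero _)).mp
    ((pow_padicValNat_dvd).trans (Nat.prod_factorial_dvd_factorial_sum _ _))

end Cfsg.Agent.SymBlocks
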