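import Cfsg.Agent.Lib.SymBlocks.Mirror

/-!
# Counting self-mirrored bead sets

`card_selfMirror_half_le`: with the middle runner closed downwards, a self-mirrored set is
determined by half of its runners, at half the weight. `card_symSets_exact_le`: for odd `p`, moving
a middle bead to its mirror image lowers the weight.
-/

set_option autoImplicit false

open Finset

namespace Cfsg.Agent.SymBlocks

variable {N n p : ℕ}

theorem filter_eq_of_down {S T : Finset ℕ} {r : ℕ} (hp : 0 < p) (hS : Down p S r) (hT : Down p T r)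
    (h : cntS p S r = cntS p T r) :
    S.filter (fun x => x % p = r) = T.filter (fun x => x % p = r) := by
  suffices key : ∀ {S T : Finset ℕ}, Down p S r → Down p T r → cntS p S r = cntS p T r →
      S.filter (fun x => x % p = r) ⊆ T.filter (fun x => x % p = r) from
    Finset.Subset.antisymm (key hS hT h) (key hT hS h.symm)
  intro S T hS hT h x hx
  by_contra hn
  obtain ⟨hxS, hxr⟩ := Finset.mem_filter.mp hx
  have hlt : (T.filter fun y => y % p = r).card < (S.filter fun y => y % p = r).card := by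
    refine Finset.card_lt_card (Finset.ssubset_iff_subset_ne.mpr ⟨?_, fun he => hn (he ▸ hx)⟩)
    intro y hy
    obtain ⟨hyT, hyr⟩ := Finset.mem_filter.mp hy
    refine Finset.mem_filter.mpr ⟨?_, hyr⟩
    rcases le_total x y with hxy | hxy
    · exact absurd (Finset.mem_filter.mpr ⟨down_iterate hp hT hyT hyr x hxr hxy, hxr⟩) hn
    · exact down_iterate hp hS hxS hxr y hyr hxy
  exact hlt.ne' h

/-- The bead set of the core. -/
def coreBeads (p : ℕ) (α₀ : Fin N → ℕ) : Finset ℕ := Finset.univ.image (core0 p α₀)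

section

variable {α₀ : Fin N → ℕ}

theorem cntS_coreBeads (hp : 0 < p) (hα₀ : Function.Injective α₀) :
    cntS p (coreBeads p α₀) = cnt p α₀ := by
  rw [coreBeads, cntS_image (core0_injective hp hα₀), cnt_core0]

theorem sum_coreBeads (hp : 0 < p) (hα₀ : Function.Injective α₀) :
    ∑ x ∈ coreBeads p α₀, x = ∑ i, core0 p α₀ i := by
  rw [coreBeads, Finset.sum_image (core0_injective hp hα₀).injOn]

theorem down_coreBeads (hp : 0 < p) (hα₀ : Function.Injective α₀) (r : ℕ) :
    Down p (coreBeads p α₀) r :=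
  down_of_sum_eq hp hα₀ (cntS_coreBeads hp hα₀) (sum_coreBeads hp hα₀) r

theorem lt_coreBeads (hα₀ : Function.Injective α₀) (hlt : ∀ i, α₀ i < N + N) :
    ∀ x ∈ coreBeads p α₀, x < N + N := by
  intro x hx
  obtain ⟨i, -, rfl⟩ := Finset.mem_image.mp hx
  exact lt_of_le_of_lt (core0_le hα₀ i) (hlt i)

theorem lt_of_mirror_eq {S : Finset ℕ} (h : mirrorSet N S = S) : ∀ x ∈ S, x < N + N :=
  fun x hx => (mem_mirrorSet.mp (h.symm ▸ hx)).1

theorem mirror_coreBeads (hp : 0 < p) (hα₀ : Function.Injective α₀) (hlt : ∀ i, α₀ i < N + N)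
    {S : Finset ℕ} (hS : mirrorSet N S = S) (hc : cntS p S = cnt p α₀) :
    mirrorSet N (coreBeads p α₀) = coreBeads p α₀ := by
  refine eq_of_down hp (fun r => down_mirrorSet r fun y _ _ => down_coreBeads hp hα₀ _)
    (down_coreBeads hp hα₀) ?_
  rw [cntS_mirrorSet_congr hp (lt_coreBeads hα₀ hlt) (lt_of_mirror_eq hS)
    (by rw [cntS_coreBeads hp hα₀, hc]), hS, hc, cntS_coreBeads hp hα₀]

open Classical in
theorem sum_split_mirror {H : ℕ → Prop} {S : Finset ℕ} (hS : mirrorSet N S = S) (hH0 : ¬ H 0)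
    (hHalf : ∀ x < N + N, (H (x % p) ↔ ¬ H ((N + N - 1 - x) % p)) ∨
      (x % p = 0 ∧ (N + N - 1 - x) % p = 0)) :
    (∑ x ∈ S, x) + (∑ x ∈ (Finset.range (N + N)).filter (fun y => H (y % p)), x)
      = 2 * (∑ x ∈ S.filter (fun y => H (y % p)), x)
        + (∑ x ∈ S.filter (fun y => y % p = 0 ∧ (N + N - 1 - y) % p = 0), x)
        + (((Finset.range (N + N)).filter fun y => H (y % p)).card
            - (S.filter fun y => H (y % p)).card) * (N + N - 1) := by
  have hlt := lt_of_mirror_eq hS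
  set U := (Finset.range (N + N)).filter fun y => H (y % p) with hU
  set SH := S.filter fun y => H (y % p) with hSH
  have hsub : SH ⊆ U := fun y hy => Finset.mem_filter.mpr
    ⟨Finset.mem_range.mpr (hlt y (Finset.mem_filter.mp hy).1), (Finset.mem_filter.mp hy).2⟩
  have hthree : ∑ x ∈ S, x = (∑ x ∈ SH, x)
      + (∑ x ∈ S.filter (fun y => H ((N + N - 1 - y) % p)), x)
      + (∑ x ∈ S.filter (fun y => y % p = 0 ∧ (N + N - 1 - y) % p = 0), x) := by
    rw [hSH, Finset.sum_filter, Finset.sum_filter, Finset.sum_filter, ← Finset.sum_add_distrib,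
      ← Finset.sum_add_distrib]
    refine Finset.sum_congr rfl fun x hx => ?_
    rcases hHalf x (hlt x hx) with h | ⟨h1, h2⟩
    · by_cases hm : x % p = 0 ∧ (N + N - 1 - x) % p = 0
      · exfalso
        rw [hm.1, hm.2] at h
        exact hH0 (h.mpr hH0)
      · rw [if_neg hm]
        by_cases hx' : H (x % p)
        · rw [if_pos hx', if_neg (h.mp hx'), add_zero, add_zero]
        · rw [if_neg hx', if_pos (not_not.mp (fun hh => hx' (h.mpr hh))), zero_add, add_zero]
    · rw [if_neg (h1.symm ▸ hH0), if_neg (h2.symm ▸ hH0), if_pos ⟨h1, h2⟩, zero_add, zero_add]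
  have hbij : ∑ x ∈ S.filter (fun y => H ((N + N - 1 - y) % p)), x
      = ∑ y ∈ U \ SH, (N + N - 1 - y) := by
    refine Finset.sum_nbij' (fun x => N + N - 1 - x) (fun y => N + N - 1 - y) ?_ ?_ ?_ ?_ ?_
    · intro x hx
      obtain ⟨hxS, hxH⟩ := Finset.mem_filter.mp hx
      have hxm := mem_mirrorSet.mp (hS.symm ▸ hxS)
      refine Finset.mem_sdiff.mpr ⟨Finset.mem_filter.mpr ⟨Finset.mem_range.mpr (by omega), hxH⟩,
        fun h => hxm.2 (Finset.mem_filter.mp h).1⟩
    · intro y hy
      obtain ⟨hyU, hyS⟩ := Finset.mem_sdiff.mp hy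
      obtain ⟨hy1, hy2⟩ := Finset.mem_filter.mp hyU
      rw [Finset.mem_range] at hy1
      have hback : N + N - 1 - (N + N - 1 - y) = y := by omega
      refine Finset.mem_filter.mpr ⟨?_, by rwa [hback]⟩
      rw [← hS, mem_mirrorSet, hback]
      exact ⟨by omega, fun h => hyS (Finset.mem_filter.mpr ⟨h, hy2⟩)⟩
    · intro x hx
      have := hlt x (Finset.mem_filter.mp hx).1
      show N + N - 1 - (N + N - 1 - x) = x
      omega
    · intro y hy
      have := Finset.mem_range.mp (Finset.mem_filter.mp (Finset.mem_sdiff.mp hy).1).1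
      show N + N - 1 - (N + N - 1 - y) = y
      omega
    · intro x hx
      have := hlt x (Finset.mem_filter.mp hx).1
      show x = N + N - 1 - (N + N - 1 - x)
      omega
  have hQ : ∑ y ∈ U \ SH, (N + N - 1 - y) + ∑ y ∈ U \ SH, y
      = (U.card - SH.card) * (N + N - 1) := by
    rw [← Finset.sum_add_distrib, Finset.sum_congr rfl (g := fun _ => N + N - 1) fun y hy => by
      have := Finset.mem_range.mp (Finset.mem_filter.mp (Finset.mem_sdiff.mp hy).1).1
      omega, Finset.sum_const, Finset.card_sdiff_of_subset hsub, smul_eq_mul]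
  have hUsum := Finset.sum_sdiff (f := fun y : ℕ => y) hsub
  rw [hthree, hbij, ← hQ, ← hUsum]
  ring

/-- Self-mirrored sets with the middle runner closed downwards inject into ground sets of half the
weight. -/
theorem card_selfMirror_half_le (hp : 0 < p) (hα₀ : Function.Injective α₀)
    (hlt : ∀ i, α₀ i < N + N) {H : ℕ → Prop} (hH0 : ¬ H 0)
    (hHalf : ∀ x < N + N, (H (x % p) ↔ ¬ H ((N + N - 1 - x) % p)) ∨
      (x % p = 0 ∧ (N + N - 1 - x) % p = 0))
    {w : ℕ} (F : Finset (Finset ℕ))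
    (hF : ∀ S ∈ F, mirrorSet N S = S ∧ cntS p S = cnt p α₀ ∧
      ∑ x ∈ S, x = (∑ i, core0 p α₀ i) + p * w ∧
      ∀ x < N + N, x % p = 0 → (N + N - 1 - x) % p = 0 → Down p S 0) :
    F.card ≤ if Even w then (exactSets p α₀ (w / 2)).card else 0 := by
  classical
  set S₀ := coreBeads p α₀ with hS₀
  set B0 := ∑ i, core0 p α₀ i with hB0
  have hΦ : ∀ S ∈ F, S.filter (fun y => H (y % p)) ∪ S₀.filter (fun y => ¬ H (y % p))
      ∈ exactSets p α₀ (w / 2) ∧ Even w ∧
      S.filter (fun y => y % p = 0 ∧ (N + N - 1 - y) % p = 0)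
        = S₀.filter (fun y => y % p = 0 ∧ (N + N - 1 - y) % p = 0) := by
    intro S hS
    obtain ⟨hm, hc, hsum, hdown⟩ := hF S hS
    have hm0 := mirror_coreBeads hp hα₀ hlt hm hc
    have hc0 := cntS_coreBeads hp hα₀
    have hmid : S.filter (fun y => y % p = 0 ∧ (N + N - 1 - y) % p = 0)
        = S₀.filter (fun y => y % p = 0 ∧ (N + N - 1 - y) % p = 0) := by
      by_cases hex : ∃ x < N + N, x % p = 0 ∧ (N + N - 1 - x) % p = 0
      · obtain ⟨x, hx, h1, h2⟩ := hex
        have h := filter_eq_of_down hp (hdown x hx h1 h2) (down_coreBeads hp hα₀ 0)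
          (congrFun (hc.trans hc0.symm) 0)
        rw [← Finset.filter_filter, h, Finset.filter_filter]
      · push Not at hex
        rw [Finset.filter_eq_empty_iff.mpr fun y hy hh =>
            hex y (lt_of_mirror_eq hm y hy) hh.1 hh.2,
          Finset.filter_eq_empty_iff.mpr fun y hy hh =>
            hex y (lt_coreBeads hα₀ hlt y hy) hh.1 hh.2]
    have e1 := sum_split_mirror (p := p) hm hH0 hHalf
    have e2 := sum_split_mirror (p := p) hm0 hH0 hHalf
    rw [card_filter_mod_eq hp (hc.trans hc0.symm) H, hmid, hsum] at e1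
    rw [← hS₀] at e2 e1
    rw [show (∑ x ∈ S₀, x) = B0 from sum_coreBeads hp hα₀] at e2
    set Φ := S.filter (fun y => H (y % p)) ∪ S₀.filter (fun y => ¬ H (y % p)) with hΦdef
    have hcΦ : cntS p Φ = cnt p α₀ := by
      funext r
      rw [hΦdef, cntS, Finset.filter_union, Finset.filter_filter, Finset.filter_filter]
      by_cases hr : H r
      · have he : S₀.filter (fun y => ¬ H (y % p) ∧ y % p = r) = ∅ :=
          Finset.filter_eq_empty_iff.mpr fun y _ hh =>
            hh.1 (show H (y % p) by rw [hh.2]; exact hr)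
        rw [he, Finset.union_empty, ← hc, cntS]
        refine congrArg Finset.card (Finset.filter_congr fun y _ => ?_)
        exact ⟨fun hh => hh.2, fun hh => ⟨by rw [hh]; exact hr, hh⟩⟩
      · have he : S.filter (fun y => H (y % p) ∧ y % p = r) = ∅ :=
          Finset.filter_eq_empty_iff.mpr fun y _ hh =>
            hr (show H r by rw [← hh.2]; exact hh.1)
        rw [he, Finset.empty_union, ← hc0, cntS]
        refine congrArg Finset.card (Finset.filter_congr fun y _ => ?_)
        exact ⟨fun hh => hh.2, fun hh => ⟨by rw [hh]; exact hr, hh⟩⟩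
    obtain ⟨m, hm'⟩ := exists_weight_set hp hα₀ hcΦ
    rw [← hB0] at hm'
    have hsplit : (∑ x ∈ Φ, x) = (∑ x ∈ S.filter (fun y => H (y % p)), x)
        + ∑ x ∈ S₀.filter (fun y => ¬ H (y % p)), x := by
      rw [hΦdef, Finset.sum_union]
      rw [Finset.disjoint_left]
      exact fun y hy hy' => (Finset.mem_filter.mp hy').2 (Finset.mem_filter.mp hy).2
    have h0split := Finset.sum_filter_add_sum_filter_not S₀ (fun y => H (y % p)) (fun x => x)
    rw [show (∑ x ∈ S₀, x) = B0 from sum_coreBeads hp hα₀] at h0split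
    have hw : w = 2 * m := Nat.eq_of_mul_eq_mul_left hp (by
      rw [Nat.mul_left_comm]
      omega)
    refine ⟨?_, ⟨m, by omega⟩, hmid⟩
    rw [mem_exactSets, ← hB0, hm', show w / 2 = m by omega]
    refine ⟨hcΦ, ?_, rfl⟩
    intro x hx hx0 hpx
    rw [hΦdef, Finset.mem_union, Finset.mem_filter, Finset.mem_filter] at hx ⊢
    rcases hx with ⟨-, hxH⟩ | ⟨hxS, -⟩
    · exact absurd (hx0 ▸ hxH) hH0
    · refine Or.inr ⟨down_coreBeads hp hα₀ 0 x hxS hx0 hpx, ?_⟩
      rw [sub_mod_self_right hpx, hx0]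
      exact hH0
  split_ifs with hw
  swap
  · rw [Nat.le_zero, Finset.card_eq_zero]
    exact Finset.eq_empty_of_forall_notMem fun S hS => hw (hΦ S hS).2.1
  refine Finset.card_le_card_of_injOn
    (fun S => S.filter (fun y => H (y % p)) ∪ S₀.filter (fun y => ¬ H (y % p)))
    (fun S hS => (hΦ S hS).1) ?_
  intro S hS T hT he
  simp only [Finset.mem_coe] at hS hT
  have hH : ∀ y, H (y % p) → (y ∈ S ↔ y ∈ T) := by
    intro y hy
    have := Finset.ext_iff.mp he y
    simpa [Finset.mem_filter, hy] using this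
  obtain ⟨hmS, -, -, -⟩ := hF S hS
  obtain ⟨hmT, -, -, -⟩ := hF T hT
  ext x
  by_cases hx : x < N + N
  swap
  · exact ⟨fun h => absurd (lt_of_mirror_eq hmS x h) hx,
      fun h => absurd (lt_of_mirror_eq hmT x h) hx⟩
  rcases hHalf x hx with h | h
  · by_cases hxH : H (x % p)
    · exact hH x hxH
    · have hH' : H ((N + N - 1 - x) % p) := not_not.mp (fun hh => hxH (h.mpr hh))
      rw [← hmS, ← hmT, mem_mirrorSet, mem_mirrorSet, hH _ hH']
  · have h2 := Finset.ext_iff.mp ((hΦ S hS).2.2.trans (hΦ T hT).2.2.symm) x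
    simpa [Finset.mem_filter, h] using h2

end

/-- The self-mirrored sets of a core with weight at most `W`. -/
noncomputable def symSets (p : ℕ) (α₀ : Fin N → ℕ) (W : ℕ) : Finset (Finset ℕ) := by
  classical
  exact (Finset.range (N + N)).powerset.filter fun S => mirrorSet N S = S ∧
    cntS p S = cnt p α₀ ∧ ∑ x ∈ S, x ≤ (∑ i, core0 p α₀ i) + p * W

/-- The self-mirrored sets of a core with weight exactly `W`. -/
noncomputable def symExact (p : ℕ) (α₀ : Fin N → ℕ) (W : ℕ) : Finset (Finset ℕ) := by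
  classical
  exact (symSets p α₀ W).filter fun S => ∑ x ∈ S, x = (∑ i, core0 p α₀ i) + p * W

/-- The self-mirrored ground sets. -/
noncomputable def symGround (p : ℕ) (α₀ : Fin N → ℕ) (W : ℕ) : Finset (Finset ℕ) := by
  classical
  exact (exactSets p α₀ W).filter fun S => mirrorSet N S = S

theorem mem_symSets {α₀ : Fin N → ℕ} {W : ℕ} {S : Finset ℕ} :
    S ∈ symSets p α₀ W ↔ mirrorSet N S = S ∧ cntS p S = cnt p α₀ ∧
      ∑ x ∈ S, x ≤ (∑ i, core0 p α₀ i) + p * W := by
  classical
  rw [symSets, Finset.mem_filter, Finset.mem_powerset]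
  exact ⟨fun h => h.2, fun h => ⟨fun x hx => Finset.mem_range.mpr (lt_of_mirror_eq h.1 x hx), h⟩⟩

theorem mem_symExact {α₀ : Fin N → ℕ} {W : ℕ} {S : Finset ℕ} :
    S ∈ symExact p α₀ W ↔ mirrorSet N S = S ∧ cntS p S = cnt p α₀ ∧
      ∑ x ∈ S, x = (∑ i, core0 p α₀ i) + p * W := by
  classical
  rw [symExact, Finset.mem_filter, mem_symSets]
  exact ⟨fun h => ⟨h.1.1, h.1.2.1, h.2⟩, fun h => ⟨⟨h.1, h.2.1, h.2.2.le⟩, h.2.2⟩⟩

theorem mem_symGround {α₀ : Fin N → ℕ} {W : ℕ} {S : Finset ℕ} :
    S ∈ symGround p α₀ W ↔ S ∈ exactSets p α₀ W ∧ mirrorSet N S = S := by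
  classical
  rw [symGround, Finset.mem_filter]

theorem mirror_mod_zero (hQ : (N + N - 1) % p = 0) {x : ℕ} (hx : x < N + N) :
    (N + N - 1 - x) % p = 0 ↔ x % p = 0 := by
  rw [← Nat.dvd_iff_mod_eq_zero, ← Nat.dvd_iff_mod_eq_zero]
  have hd := Nat.dvd_of_mod_eq_zero hQ
  constructor
  · intro h
    have := Nat.dvd_sub hd h
    rwa [show N + N - 1 - (N + N - 1 - x) = x by omega] at this
  · exact fun h => Nat.dvd_sub hd h

theorem card_symExact_le {α₀ : Fin N → ℕ} (hp : 0 < p) (hQ : (N + N - 1) % p = 0) (W : ℕ) :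
    (symExact p α₀ (W + 1)).card ≤ (symGround p α₀ (W + 1)).card + (symSets p α₀ W).card := by
  classical
  set B0 := ∑ i, core0 p α₀ i with hB0
  rw [← Finset.card_filter_add_card_filter_not (s := symExact p α₀ (W + 1))
    (fun S => Down p S 0)]
  refine Nat.add_le_add (Finset.card_le_card fun S hS => ?_) ?_
  · obtain ⟨hS, hd⟩ := Finset.mem_filter.mp hS
    rw [mem_symExact] at hS
    exact mem_symGround.mpr ⟨mem_exactSets.mpr ⟨hS.2.1, hd, hS.2.2⟩, hS.1⟩
  have hex : ∀ S ∈ (symExact p α₀ (W + 1)).filter (fun S => ¬ Down p S 0),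
      ∃ x ∈ S, x % p = 0 ∧ N ≤ x ∧ x < N + N := by
    intro S hS
    obtain ⟨hS, hd⟩ := Finset.mem_filter.mp hS
    rw [mem_symExact] at hS
    simp only [Down, not_forall] at hd
    obtain ⟨x, hx, hx0, hpx, hn⟩ := hd
    have hlt := lt_of_mirror_eq hS.1 x hx
    rcases Nat.lt_or_ge x N with h | h
    · refine ⟨N + N - 1 - (x - p), ?_, ?_, by omega, by omega⟩
      · rw [← hS.1, mem_mirrorSet, show N + N - 1 - (N + N - 1 - (x - p)) = x - p by omega]
        exact ⟨by omega, hn⟩
      · rw [mirror_mod_zero hQ (by omega), sub_mod_self_right hpx, hx0]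
    · exact ⟨x, hx, hx0, h, hlt⟩
  choose pick hpick hpick0 hpickN hpicklt using hex
  let f : Finset ℕ → Finset ℕ := fun S =>
    if h : S ∈ (symExact p α₀ (W + 1)).filter (fun S => ¬ Down p S 0) then
      insert (N + N - 1 - pick S h) (S.erase (pick S h)) else ∅
  have hfacts : ∀ S (h : S ∈ (symExact p α₀ (W + 1)).filter (fun S => ¬ Down p S 0)),
      N + N - 1 - pick S h ∉ S ∧
      (∑ y ∈ f S, y) + pick S h = B0 + p * (W + 1) + (N + N - 1 - pick S h) := by
    intro S h
    have hS := mem_symExact.mp (Finset.mem_filter.mp h).1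
    have hxm := mem_mirrorSet.mp
      (show pick S h ∈ mirrorSet N S by rw [hS.1]; exact hpick S h)
    refine ⟨hxm.2, ?_⟩
    simp only [f, dif_pos h]
    rw [Finset.sum_insert (fun hh => hxm.2 (Finset.mem_of_mem_erase hh)), hB0, ← hS.2.2,
      ← Finset.sum_erase_add S _ (hpick S h)]
    ring
  refine Finset.card_le_card_of_injOn f ?_ ?_
  · intro S h
    simp only [Finset.mem_coe] at h ⊢
    obtain ⟨hxn, hsum⟩ := hfacts S h
    have hS := mem_symExact.mp (Finset.mem_filter.mp h).1
    have hx0 := hpick0 S h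
    have hxN := hpickN S h
    have hxlt := hpicklt S h
    have hy0 : (N + N - 1 - pick S h) % p = 0 := (mirror_mod_zero hQ hxlt).mpr hx0
    have hgap : N + N - 1 - pick S h + p ≤ pick S h := add_le_of_mod_eq (hy0.trans hx0.symm) (by omega)
    rw [mem_symSets, ← hB0]
    refine ⟨?_, ?_, by rw [Nat.mul_succ] at hsum; omega⟩
    · simp only [f, dif_pos h]
      set x := pick S h with hxdef
      ext z
      rw [mem_mirrorSet, Finset.mem_insert, Finset.mem_insert, Finset.mem_erase, Finset.mem_erase]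
      by_cases hz : z < N + N
      swap
      · refine iff_of_false (fun hh => hz hh.1) ?_
        rintro (rfl | ⟨-, hh⟩)
        · omega
        · exact hz (lt_of_mirror_eq hS.1 z hh)
      have hzS : z ∈ S ↔ N + N - 1 - z ∉ S := by
        conv_lhs => rw [← hS.1]
        rw [mem_mirrorSet]
        exact ⟨fun hh => hh.2, fun hh => ⟨hz, hh⟩⟩
      constructor
      · rintro ⟨-, hh⟩
        by_cases e : z = N + N - 1 - x
        · exact Or.inl e
        · refine Or.inr ⟨fun e' => hh (Or.inl (by rw [e'])), hzS.mpr fun hmem => hh (Or.inr ⟨?_, hmem⟩)⟩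
          omega
      · rintro (rfl | ⟨hne, hmem⟩)
        · refine ⟨hz, ?_⟩
          rw [show N + N - 1 - (N + N - 1 - x) = x by omega]
          rintro (e | ⟨e, -⟩)
          · omega
          · exact e rfl
        · refine ⟨hz, ?_⟩
          rintro (e | ⟨-, hm⟩)
          · omega
          · exact hzS.mp hmem hm
    · simp only [f, dif_pos h]
      rw [← hS.2.1]
      funext r
      simp only [cntS, Finset.filter_insert, Finset.filter_erase, hy0]
      by_cases hr : 0 = r
      · subst hr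
        have hmem : pick S h ∈ S.filter fun y => y % p = 0 := Finset.mem_filter.mpr ⟨hpick S h, hx0⟩
        rw [if_pos rfl, Finset.card_insert_of_notMem (fun hh => hxn
          (Finset.mem_filter.mp (Finset.mem_of_mem_erase hh)).1), Finset.card_erase_of_mem hmem]
        have := Finset.card_pos.mpr ⟨_, hmem⟩
        omega
      · rw [if_neg hr, Finset.erase_eq_of_notMem]
        exact fun hh => hr (hx0.symm.trans (Finset.mem_filter.mp hh).2)
  · intro S hSm T hTm he
    simp only [Finset.mem_coe] at hSm hTm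
    obtain ⟨hnS, hsS⟩ := hfacts S hSm
    obtain ⟨hnT, hsT⟩ := hfacts T hTm
    rw [he] at hsS
    have := hpicklt S hSm
    have := hpicklt T hTm
    have hxx : pick S hSm = pick T hTm := by omega
    simp only [f, dif_pos hSm, dif_pos hTm, ← hxx] at he
    have hrec : ∀ U : Finset ℕ, pick S hSm ∈ U → N + N - 1 - pick S hSm ∉ U →
        U = insert (pick S hSm) ((insert (N + N - 1 - pick S hSm)
          (U.erase (pick S hSm))).erase (N + N - 1 - pick S hSm)) := by
      intro U hU hU'
      rw [Finset.erase_insert (fun hh => hU' (Finset.mem_of_mem_erase hh)), Finset.insert_erase hU]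
    rw [hrec S (hpick S hSm) hnS, hrec T (by rw [hxx]; exact hpick T hTm) (by rw [hxx]; exact hnT), he]

/-- The half runners for odd `p`. -/
theorem half_odd (hp2 : p % 2 = 1) (hQ : (N + N - 1) % p = 0) {x : ℕ} (hx : x < N + N) :
    ((1 ≤ x % p ∧ 2 * (x % p) < p) ↔ ¬ (1 ≤ (N + N - 1 - x) % p ∧
      2 * ((N + N - 1 - x) % p) < p)) ∨ (x % p = 0 ∧ (N + N - 1 - x) % p = 0) := by
  by_cases h0 : x % p = 0
  · exact Or.inr ⟨h0, (mirror_mod_zero hQ hx).mpr h0⟩
  refine Or.inl ?_
  have h1 : (x % p + (N + N - 1 - x) % p) % p = 0 := by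
    rw [← Nat.add_mod, show x + (N + N - 1 - x) = N + N - 1 by omega, hQ]
  have hp : 0 < p := by omega
  have hlt1 := Nat.mod_lt x hp
  have hlt2 := Nat.mod_lt (N + N - 1 - x) hp
  have hne : (N + N - 1 - x) % p ≠ 0 := fun h => h0 ((mirror_mod_zero hQ hx).mp h)
  have hsum : x % p + (N + N - 1 - x) % p = p := by
    rcases Nat.lt_or_ge (x % p + (N + N - 1 - x) % p) p with h | h
    · rw [Nat.mod_eq_of_lt h] at h1
      omega
    · rw [Nat.mod_eq_sub_mod h, Nat.mod_eq_of_lt (by omega)] at h1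
      omega
  omega

theorem card_symGround_le {α₀ : Fin N → ℕ} (hp : 0 < p) (hp2 : p % 2 = 1)
    (hQ : (N + N - 1) % p = 0) (hα₀ : Function.Injective α₀) (hlt : ∀ i, α₀ i < N + N) (w : ℕ) :
    (symGround p α₀ w).card ≤ if Even w then (exactSets p α₀ (w / 2)).card else 0 :=
  card_selfMirror_half_le hp hα₀ hlt (H := fun r => 1 ≤ r ∧ 2 * r < p) (by omega)
    (fun _ hx => half_odd hp2 hQ hx) _ fun S hS => by
      rw [mem_symGround, mem_exactSets] at hS
      exact ⟨hS.2, hS.1.1, hS.1.2.2, fun _ _ _ _ => hS.1.2.1⟩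

theorem card_exactSets_succ_le {α₀ : Fin N → ℕ} (hp : 0 < p) (hα₀ : Function.Injective α₀) (m : ℕ) :
    (exactSets p α₀ (m + 1)).card ≤ (p - 1) * p ^ m :=
  (card_exact_le hp hα₀ m).trans (Nat.mul_le_mul_left _ (card_groundSets_le hp hα₀ m))

theorem card_symSets_le {α₀ : Fin N → ℕ} (hp : 0 < p) (hp3 : 3 ≤ p) (hp2 : p % 2 = 1)
    (hQ : (N + N - 1) % p = 0) (hα₀ : Function.Injective α₀) (hlt : ∀ i, α₀ i < N + N) :
    ∀ W, (symSets p α₀ W).card ≤ p ^ W ∧ (W = 1 → (symSets p α₀ W).card ≤ 2) := by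
  classical
  have hstep : ∀ W, (symSets p α₀ (W + 1)).card ≤
      2 * (symSets p α₀ W).card + (symGround p α₀ (W + 1)).card := by
    intro W
    refine (Finset.card_le_card (t := symSets p α₀ W ∪ symExact p α₀ (W + 1)) fun S hS => ?_).trans
      ((Finset.card_union_le _ _).trans ?_)
    · rw [mem_symSets] at hS
      obtain ⟨v, hv⟩ := exists_weight_set hp hα₀ hS.2.1
      rw [Finset.mem_union, mem_symSets, mem_symExact]
      have hle : v ≤ W + 1 := Nat.le_of_mul_le_mul_left (by omega) hp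
      rcases hle.eq_or_lt with h | h
      · exact Or.inr ⟨hS.1, hS.2.1, by rw [hv, h]⟩
      · refine Or.inl ⟨hS.1, hS.2.1, ?_⟩
        have := Nat.mul_le_mul_left p (Nat.lt_succ_iff.mp h)
        omega
    · have := card_symExact_le (α₀ := α₀) hp hQ W
      omega
  have h0 : (symSets p α₀ 0).card ≤ 1 := by
    refine le_trans (Finset.card_le_card fun S hS => ?_) (card_groundSets_zero hp hα₀)
    rw [mem_symSets] at hS
    obtain ⟨v, hv⟩ := exists_weight_set hp hα₀ hS.2.1
    rw [mem_groundSets]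
    exact ⟨hS.2.1, down_of_sum_eq hp hα₀ hS.2.1 (by omega) 0, hS.2.2⟩
  have h1 : (symSets p α₀ 1).card ≤ 2 := by
    have a : (symSets p α₀ 1).card ≤
        2 * (symSets p α₀ 0).card + (symGround p α₀ 1).card := hstep 0
    have b := card_symGround_le hp hp2 hQ hα₀ hlt 1
    rw [if_neg (by decide)] at b
    omega
  intro W
  refine ⟨?_, fun h => h ▸ h1⟩
  induction W with
  | zero => simpa using h0
  | succ W ih =>
    refine (hstep W).trans ?_
    have b := card_symGround_le hp hp2 hQ hα₀ hlt (W + 1)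
    have hbound : (symGround p α₀ (W + 1)).card ≤ (p - 2) * p ^ W := by
      split_ifs at b with he
      · obtain ⟨m, hm⟩ := he
        obtain ⟨m', rfl⟩ := Nat.exists_eq_succ_of_ne_zero (show m ≠ 0 by omega)
        have hW : W = 2 * m' + 1 := by omega
        rw [show (W + 1) / 2 = m' + 1 by omega] at b
        refine b.trans ((card_exactSets_succ_le hp hα₀ m').trans ?_)
        rw [hW, show 2 * m' + 1 = m' + (m' + 1) by omega, pow_add, mul_comm (p - 1),
          mul_comm (p - 2), mul_assoc]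
        refine Nat.mul_le_mul_left _ ?_
        calc p - 1 ≤ p * 1 := by omega
          _ ≤ p ^ (m' + 1) * (p - 2) :=
              Nat.mul_le_mul (Nat.le_self_pow (by omega) p) (by omega)
      · omega
    calc 2 * (symSets p α₀ W).card + (symGround p α₀ (W + 1)).card
        ≤ 2 * p ^ W + (p - 2) * p ^ W := by omega
      _ = p * p ^ W := by rw [← Nat.add_mul]; congr 1; omega
      _ = p ^ (W + 1) := (pow_succ' p W).symm

/-- The bound for odd `p` and positive weight. -/
theorem odd_bound {α₀ : Fin N → ℕ} (hp : 0 < p) (hp3 : 3 ≤ p) (hp2 : p % 2 = 1)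
    (hQ : (N + N - 1) % p = 0) (hα₀ : Function.Injective α₀) (hlt : ∀ i, α₀ i < N + N) {w : ℕ}
    (hw : 1 ≤ w) :
    (exactSets p α₀ w).card + (symGround p α₀ w).card + 2 * (symExact p α₀ w).card
      < 2 * p ^ w := by
  obtain ⟨W, rfl⟩ : ∃ W, w = W + 1 := ⟨w - 1, by omega⟩
  have e1 := card_exactSets_succ_le hp hα₀ W
  have e2 := card_symExact_le (α₀ := α₀) hp hQ W
  have e3 := card_symGround_le hp hp2 hQ hα₀ hlt (W + 1)
  obtain ⟨e4, e5⟩ := card_symSets_le hp hp3 hp2 hQ hα₀ hlt W
  have hpow : p ^ (W + 1) = p * p ^ W := pow_succ' p W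
  have hpos : 0 < p ^ W := Nat.pow_pos hp
  have hmul : (p - 1) * p ^ W + p ^ W = p * p ^ W := by
    rw [← Nat.succ_mul]
    congr 1
    omega
  split_ifs at e3 with he
  · obtain ⟨m, hm⟩ := he
    obtain ⟨m', rfl⟩ := Nat.exists_eq_succ_of_ne_zero (show m ≠ 0 by omega)
    have hW : W = 2 * m' + 1 := by omega
    rw [show (W + 1) / 2 = m' + 1 by omega] at e3
    have e6 := e3.trans (card_exactSets_succ_le hp hα₀ m')
    rw [hpow]
    rcases Nat.eq_zero_or_pos m' with rfl | hm'
    · subst hW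
      have e7 := e5 rfl
      simp only [pow_zero, mul_one, pow_one, Nat.mul_zero, Nat.zero_add] at *
      have : (p - 1) * p + p = p * p := hmul
      have : 3 * p ≤ p * p := Nat.mul_le_mul_right p hp3
      omega
    · have h3 : 3 * ((p - 1) * p ^ m') < (p - 1) * p ^ W := by
        rw [hW, show 2 * m' + 1 = m' + (m' + 1) by omega, pow_add, ← mul_assoc (p - 1), mul_comm 3]
        refine Nat.mul_lt_mul_of_pos_left ?_ (Nat.mul_pos (by omega) (Nat.pow_pos hp))
        calc 3 < p * p := by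
              have := Nat.mul_le_mul hp3 hp3
              omega
          _ = p ^ 2 := (pow_two p).symm
          _ ≤ p ^ (m' + 1) := Nat.pow_le_pow_right hp (by omega)
      omega
  · rw [hpow]
    have : 3 * p ^ W ≤ p * p ^ W := Nat.mul_le_mul_right _ hp3
    omega

open Classical in
/-- Representatives of the mirror pairs of ground sets. -/
theorem exists_mirror_reps {α₀ : Fin N → ℕ} (hp : 0 < p) (hQ : (N + N - 1) % p = 0)
    (hα₀ : Function.Injective α₀) (hlt : ∀ i, α₀ i < N + N) {w : ℕ}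
    (hsum : (∑ i, core0 p α₀ i) + p * w = stair N + n) (hn : n ≤ N)
    (hsym : mirrorSet N (coreBeads p α₀) = coreBeads p α₀) :
    ∃ R : Finset (Finset ℕ), R ⊆ exactSets p α₀ w ∧
      2 * R.card ≤ (exactSets p α₀ w).card + (symGround p α₀ w).card ∧
      ∀ S ∈ exactSets p α₀ w, S ∈ R ∨ (mirrorSet N S ∈ R ∧ (∀ x ∈ S, x < N + N)) := by
  set E := exactSets p α₀ w with hE
  have hltE : ∀ S ∈ E, ∀ x ∈ S, x < N + N := by
    intro S hS x hx
    rw [hE, mem_exactSets] at hS
    obtain ⟨α, hα, himg, -, hs⟩ := exists_tuple hp hS.1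
    rw [← himg, Finset.mem_image] at hx
    obtain ⟨i, -, rfl⟩ := hx
    exact lt_of_level hα (hs.trans (hS.2.2.trans hsum)) hn i
  have hmap : ∀ S ∈ E, mirrorSet N S ∈ E := by
    intro S hS
    have hl := hltE S hS
    rw [hE, mem_exactSets] at hS ⊢
    refine ⟨?_, down_mirrorSet 0 fun y hy hy0 => ?_, ?_⟩
    · rw [cntS_mirrorSet_congr hp hl (lt_coreBeads hα₀ hlt)
        (hS.1.trans (cntS_coreBeads hp hα₀).symm), hsym, cntS_coreBeads hp hα₀]
    · rw [(mirror_mod_zero hQ hy).mp hy0]
      exact hS.2.1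
    · rw [sum_mirrorSet hl (card_eq_of_cntS hp hS.1), hS.2.2]
  let e : {S // S ∈ E} ≃ Fin (Fintype.card {S // S ∈ E}) := Fintype.equivFin _
  let rank : Finset ℕ → ℕ := fun S => if h : S ∈ E then (e ⟨S, h⟩ : ℕ) else 0
  set R := E.filter fun S => rank S ≤ rank (mirrorSet N S) with hR
  have hrank : ∀ S ∈ E, ∀ T ∈ E, rank S = rank T → S = T := by
    intro S hS T hT he
    simp only [rank, dif_pos hS, dif_pos hT] at he
    exact congrArg Subtype.val (e.injective (Fin.ext he))
  refine ⟨R, Finset.filter_subset _ _, ?_, fun S hS => ?_⟩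
  · have hinj : Set.InjOn (mirrorSet N) (R : Set (Finset ℕ)) := by
      intro S hS T hT he
      have h := congrArg (mirrorSet N) he
      rwa [mirrorSet_mirrorSet (hltE S (Finset.mem_filter.mp hS).1),
        mirrorSet_mirrorSet (hltE T (Finset.mem_filter.mp hT).1)] at h
    have h1 : (R ∪ R.image (mirrorSet N)).card ≤ E.card := Finset.card_le_card
      (Finset.union_subset (Finset.filter_subset _ _) fun S hS => by
        obtain ⟨T, hT, rfl⟩ := Finset.mem_image.mp hS
        exact hmap T (Finset.mem_filter.mp hT).1)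
    have h2 : (R ∩ R.image (mirrorSet N)).card ≤ (symGround p α₀ w).card := by
      refine Finset.card_le_card fun S hS => ?_
      obtain ⟨hSR, hSi⟩ := Finset.mem_inter.mp hS
      obtain ⟨T, hT, rfl⟩ := Finset.mem_image.mp hSi
      obtain ⟨hTE, hTle⟩ := Finset.mem_filter.mp hT
      obtain ⟨hmE, hmle⟩ := Finset.mem_filter.mp hSR
      rw [mirrorSet_mirrorSet (hltE T hTE)] at hmle
      refine mem_symGround.mpr ⟨hmE, ?_⟩
      rw [mirrorSet_mirrorSet (hltE T hTE)]
      exact hrank T hTE _ hmE (le_antisymm hTle hmle)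
    have h3 := Finset.card_union_add_card_inter R (R.image (mirrorSet N))
    rw [Finset.card_image_of_injOn hinj] at h3
    omega
  · rcases le_total (rank S) (rank (mirrorSet N S)) with h | h
    · exact Or.inl (Finset.mem_filter.mpr ⟨hS, h⟩)
    · refine Or.inr ⟨Finset.mem_filter.mpr ⟨hmap S hS, ?_⟩, hltE S hS⟩
      rwa [mirrorSet_mirrorSet (hltE S hS)]

end Cfsg.Agent.SymBlocks
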