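import Cfsg.Agent.Lib.SymBlocks.AltSylow

/-!
# Regular elements centralising the cycles

`apply_eq_of_commute_even`: a `p`-regular permutation commuting with the even products of the shifts
fixes their support. `exists_onRest`: such a permutation lives on the remaining points.
`parts_cycles_mul`-style values are in `OneBlock`.
-/

set_option autoImplicit false

open Finset

namespace Cfsg.Agent.SymBlocks

open Cfsg

variable {n m w p : ℕ}

theorem apply_eq_of_pow {α : Type*} (hp : p.Prime) {g σ : Equiv.Perm α} (hc : Commute g σ)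
    (hσ : σ ^ p = 1) (hg : ¬ p ∣ orderOf g) {z : α} {k : ℕ} (hk : g z = (σ ^ k) z) : g z = z := by
  have hpow : ∀ j : ℕ, (g ^ j) z = ((σ ^ k) ^ j) z := by
    intro j
    induction j with
    | zero => simp
    | succ j ih =>
      rw [pow_succ, Equiv.Perm.mul_apply, hk, ← Equiv.Perm.mul_apply,
        ((hc.pow_pow j k).eq), Equiv.Perm.mul_apply, ih, ← Equiv.Perm.mul_apply, ← pow_succ']
  let St := MulAction.stabilizer (Equiv.Perm α) z
  have h1 : (σ ^ k) ^ orderOf g ∈ St := by
    show ((σ ^ k) ^ orderOf g) z = z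
    rw [← hpow, pow_orderOf_eq_one]
    rfl
  have h2 : (σ ^ k) ^ p ∈ St := by
    rw [← pow_mul, mul_comm, pow_mul, hσ, one_pow]
    exact St.one_mem
  have hco : Nat.gcd (orderOf g) p = 1 := (hp.coprime_iff_not_dvd.mpr hg).symm
  have h3 : (σ ^ k) ^ Nat.gcd (orderOf g) p ∈ St := by
    rw [← zpow_natCast, Nat.gcd_eq_gcd_ab, zpow_add, zpow_mul, zpow_mul, zpow_natCast, zpow_natCast]
    exact St.mul_mem (St.zpow_mem h1 _) (St.zpow_mem h2 _)
  rw [hco, pow_one] at h3
  rw [hk]
  exact h3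

theorem mem_alt_single_odd [Fact p.Prime] (hp2 : p ≠ 2) (e : (Fin w × ZMod p) ⊕ Fin m ≃ Fin n)
    (f : Multiplicative (Fin w → ZMod p)) : cyclesHom e f ∈ alternatingGroup (Fin n) :=
  sign_of_pow_odd ((Fact.out : p.Prime).odd_of_ne_two hp2) (cyclesHom_pow e f)

/-- A `p`-regular element commuting with the even shifts fixes the support. -/
theorem apply_eq_of_commute_even [hpf : Fact p.Prime] (e : (Fin w × ZMod p) ⊕ Fin m ≃ Fin n)
    {g : Equiv.Perm (Fin n)} (hg : ¬ p ∣ orderOf g) (h3 : p = 2 → 3 ≤ w)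
    (hc : ∀ f, cyclesHom e f ∈ alternatingGroup (Fin n) → Commute g (cyclesHom e f))
    (a : Fin w × ZMod p) : g (e (Sum.inl a)) = e (Sum.inl a) := by
  obtain ⟨i, v⟩ := a
  set z := e (Sum.inl (i, v)) with hz
  have hp := hpf.out
  have : NeZero p := ⟨hp.ne_zero⟩
  -- the image is moved by every shift moving `z`
  have himg : ∀ f : Fin w → ZMod p, cyclesHom e (Multiplicative.ofAdd f) ∈ alternatingGroup (Fin n) →
      f i ≠ 0 → ∃ l u, g z = e (Sum.inl (l, u)) ∧ f l ≠ 0 := by
    intro f hf hfi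
    set τ := cyclesHom e (Multiplicative.ofAdd f)
    have hmoved : τ (g z) ≠ g z := by
      intro h
      rw [← Equiv.Perm.mul_apply, ← (hc _ hf).eq, Equiv.Perm.mul_apply] at h
      have h1 := g.injective h
      rw [hz] at h1
      simp only [cyclesHom_inl, e.apply_eq_iff_eq, Sum.inl.injEq, Prod.mk.injEq, true_and,
        toAdd_ofAdd, add_eq_left] at h1
      exact hfi h1
    obtain ⟨b, hb⟩ := e.surjective (g z)
    rcases b with ⟨l, u⟩ | b
    · refine ⟨l, u, hb.symm, fun h0 => hmoved ?_⟩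
      rw [← hb]
      simp [τ, cyclesHom_inl, h0]
    · exact absurd (by rw [← hb]; exact cyclesHom_inr e _ b) hmoved
  -- a good shift and the block of the image
  obtain ⟨f, hf, hfi, hl⟩ : ∃ f : Fin w → ZMod p,
      cyclesHom e (Multiplicative.ofAdd f) ∈ alternatingGroup (Fin n) ∧ f i = 1 ∧
      ∃ u, g z = e (Sum.inl (i, u)) := by
    by_cases hp2 : p = 2
    · subst hp2
      have hpair : ∀ j, j ≠ i → cyclesHom e (Multiplicative.ofAdd
          (Pi.single i (1 : ZMod 2) + Pi.single j 1)) ∈ alternatingGroup (Fin n) := fun j _ => by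
        rw [Equiv.Perm.mem_alternatingGroup, ofAdd_add, map_mul, map_mul, sign_single_two,
          sign_single_two, Int.units_mul_self]
      have hone : ∀ j, j ≠ i → (Pi.single i (1 : ZMod 2) + Pi.single j 1 : Fin w → ZMod 2) i = 1 :=
        fun j hj => by rw [Pi.add_apply, Pi.single_eq_same, Pi.single_eq_of_ne hj.symm, add_zero]
      obtain ⟨j, k, hj, hk, hjk⟩ : ∃ j k : Fin w, j ≠ i ∧ k ≠ i ∧ j ≠ k := by
        have hcard : 2 ≤ (Finset.univ.erase i).card := by
          rw [Finset.card_erase_of_mem (Finset.mem_univ i), Finset.card_fin]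
          have := h3 rfl
          omega
        obtain ⟨j, hj, k, hk, hjk⟩ := Finset.one_lt_card.mp hcard
        exact ⟨j, k, Finset.ne_of_mem_erase hj, Finset.ne_of_mem_erase hk, hjk⟩
      obtain ⟨l, u, hu, hl⟩ := himg _ (hpair j hj) (by rw [hone j hj]; exact one_ne_zero)
      obtain ⟨l', u', hu', hl'⟩ := himg _ (hpair k hk) (by rw [hone k hk]; exact one_ne_zero)
      obtain ⟨rfl, -⟩ : l = l' ∧ u = u' := Prod.mk.inj (Sum.inl_injective (e.injective (hu.symm.trans hu')))
      refine ⟨_, hpair j hj, hone j hj, u, ?_⟩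
      suffices l = i by rwa [this] at hu
      by_contra hne
      rw [Pi.add_apply, Pi.single_eq_of_ne hne, zero_add] at hl hl'
      have e1 : l = j := by_contra fun h => hl (Pi.single_eq_of_ne h _)
      have e2 : l = k := by_contra fun h => hl' (Pi.single_eq_of_ne h _)
      exact hjk (e1.symm.trans e2)
    · refine ⟨Pi.single i 1, mem_alt_single_odd hp2 e _, Pi.single_eq_same i 1, ?_⟩
      obtain ⟨l, u, hu, hl⟩ := himg _ (mem_alt_single_odd hp2 e
        (Multiplicative.ofAdd (Pi.single i 1))) (by rw [Pi.single_eq_same]; exact one_ne_zero)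
      have : l = i := by_contra fun h => hl (Pi.single_eq_of_ne h _)
      exact ⟨u, this ▸ hu⟩
  obtain ⟨u, hu⟩ := hl
  refine apply_eq_of_pow hp (hc _ hf) (cyclesHom_pow e _) hg (k := (u - v).val) ?_
  rw [hu, hz, ← map_pow, cyclesHom_inl]
  congr 3
  simp [hfi]

/-- A permutation fixing the support is a permutation of the remaining points. -/
theorem exists_onRest (e : (Fin w × ZMod p) ⊕ Fin m ≃ Fin n) [NeZero p] {g : Equiv.Perm (Fin n)}
    (h : ∀ a, g (e (Sum.inl a)) = e (Sum.inl a)) : ∃ y : Equiv.Perm (Fin m), g = onRest e y := by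
  set σ := e.symm.permCongr g with hσ
  have hσl : ∀ a, σ (Sum.inl a) = Sum.inl a := fun a => by
    rw [hσ, Equiv.permCongr_apply, Equiv.symm_symm, h, Equiv.symm_apply_apply]
  obtain ⟨⟨σ₁, σ₂⟩, hs⟩ := Equiv.Perm.mem_sumCongrHom_range_of_perm_mapsTo_inl (σ := σ)
    (by rintro _ ⟨a, rfl⟩; exact ⟨a, (hσl a).symm⟩)
  refine ⟨σ₂, Equiv.ext fun z => ?_⟩
  obtain ⟨b, rfl⟩ := e.surjective z
  rcases b with a | b
  · rw [h, onRest_inl]
  · have h1 : σ (Sum.inr b) = Sum.inr (σ₂ b) := by rw [← hs]; rfl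
    rw [hσ, Equiv.permCongr_apply, Equiv.symm_symm, Equiv.symm_apply_eq] at h1
    rw [h1, onRest_inr]

end Cfsg.Agent.SymBlocks
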