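import Cfsg.Agent.Lib.SymBlocks.Degree
import Cfsg.Agent.Lib.SymBlocks.FixCount

/-!
# Heights on the abacus

`qE`: the valuation of the hook product of the quotient. `degree_weight`; self-mirrored sets for
`p = 2`; bead sets of height zero and one in a given core and weight.
-/

set_option autoImplicit false

open Finset

namespace Cfsg.Agent.SymBlocks

open Cfsg

variable {N n p : ℕ}

/-- The valuation of the hook product of the quotient. -/
def qE (p : ℕ) (S : Finset ℕ) : ℕ := ∑ r ∈ Finset.range p, hookE p (runner p S r)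

theorem degree_weight [hp : Fact p.Prime] (hn : n ≤ N) {α : Fin N → ℕ} (hα : α ∈ lev N n)
    {ψ : IrrCharacter (Equiv.Perm (Fin n))} (hne : coef N α ψ ≠ 0) {w : ℕ}
    (hw : ∑ i, α i = (∑ i, core0 p α i) + p * w) :
    (charDegree (ψ : Equiv.Perm (Fin n) → ℂ)).factorization p + w + qE p (Finset.univ.image α)
        = padicValNat p n.factorial ∧
      qE p (Finset.univ.image α) ≤ padicValNat p w.factorial := by
  have hinj : Function.Injective α := by
    by_contra hn'
    refine hne ?_
    rw [coef, show (chi N α : Equiv.Perm (Fin n) → ℂ) = 0 from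
      funext fun σ => (anti_vM _).zero_of_not_injective hn']
    simp [classInner]
  have h := padic_degree (p := p) hn hα hne
  rw [hookE_runners, sum_rw' hp.out.pos hinj hw] at h
  refine ⟨by rw [qE]; omega, ?_⟩
  have h2 := sum_hookE_le (p := p) (Finset.univ.image α)
  rwa [sum_rw' hp.out.pos hinj hw] at h2

/-! ### Mirrors for `p = 2` -/

/-- The reflected complement below `N`. -/
def flipSet (N : ℕ) (T : Finset ℕ) : Finset ℕ := (Finset.range N \ T).image fun a => N - 1 - a

theorem mem_flipSet {T : Finset ℕ} {a : ℕ} : a ∈ flipSet N T ↔ a < N ∧ N - 1 - a ∉ T := by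
  simp only [flipSet, Finset.mem_image, Finset.mem_sdiff, Finset.mem_range]
  constructor
  · rintro ⟨b, ⟨hb, hbT⟩, rfl⟩
    exact ⟨by omega, by rwa [show N - 1 - (N - 1 - b) = b by omega]⟩
  · rintro ⟨ha, haT⟩
    exact ⟨N - 1 - a, ⟨by omega, haT⟩, by omega⟩

theorem flip_injOn (T : Finset ℕ) :
    Set.InjOn (fun a => N - 1 - a) (Finset.range N \ T : Finset ℕ) := by
  intro a ha b hb h
  simp only [Finset.coe_sdiff, Set.mem_sdiff, Finset.coe_range, Set.mem_Iio] at ha hb
  simp only at h
  omega

theorem card_flipSet {T : Finset ℕ} (h : T ⊆ Finset.range N) :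
    (flipSet N T).card + T.card = N := by
  rw [flipSet, Finset.card_image_of_injOn (flip_injOn T), Finset.card_sdiff_add_card_eq_card h,
    Finset.card_range]

theorem two_mul_stair (c : ℕ) : 2 * stair c + c = c * c := by
  induction c with
  | zero => simp [stair_eq]
  | succ c ih =>
    rw [stair_eq, Finset.sum_range_succ, ← stair_eq]
    linarith

theorem sum_flipSet {T : Finset ℕ} (h : T ⊆ Finset.range N) :
    (∑ a ∈ flipSet N T, a) + stair T.card = (∑ a ∈ T, a) + stair (flipSet N T).card := by
  have hc := card_flipSet h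
  have h1 : (∑ a ∈ flipSet N T, a) + (∑ a ∈ Finset.range N \ T, a) + (flipSet N T).card
      = (flipSet N T).card * N := by
    rw [flipSet, Finset.sum_image (flip_injOn T), Finset.card_image_of_injOn (flip_injOn T),
      ← Finset.sum_add_distrib, Finset.card_eq_sum_ones, ← Finset.sum_add_distrib, Finset.sum_mul]
    refine Finset.sum_congr rfl fun a ha => ?_
    have := Finset.mem_range.mp (Finset.mem_sdiff.mp ha).1
    omega
  have h2 := Finset.sum_sdiff (f := fun y : ℕ => y) h
  rw [← stair_eq] at h2
  have h3 := two_mul_stair N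
  have h4 := two_mul_stair T.card
  have h5 := two_mul_stair (flipSet N T).card
  generalize (flipSet N T).card = u at *
  subst hc
  nlinarith

theorem runner_subset_range {S : Finset ℕ} (h : ∀ x ∈ S, x < N + N) (r : ℕ) :
    runner 2 S r ⊆ Finset.range N := by
  intro a ha
  obtain ⟨x, hx, rfl⟩ := Finset.mem_image.mp ha
  have := h x (Finset.mem_filter.mp hx).1
  exact Finset.mem_range.mpr (by omega)

theorem runner_mirror (S : Finset ℕ) {r : ℕ} (hr : r < 2) :
    runner 2 (mirrorSet N S) r = flipSet N (runner 2 S (1 - r)) := by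
  ext a
  rw [mem_runner two_pos hr, mem_mirrorSet, mem_flipSet, mem_runner two_pos (by omega)]
  constructor
  · rintro ⟨h1, h2⟩
    refine ⟨by omega, ?_⟩
    rwa [show 1 - r + 2 * (N - 1 - a) = N + N - 1 - (r + 2 * a) by omega]
  · rintro ⟨h1, h2⟩
    refine ⟨by omega, ?_⟩
    rwa [show N + N - 1 - (r + 2 * a) = 1 - r + 2 * (N - 1 - a) by omega]

theorem rw'_mirror {S : Finset ℕ} (h : ∀ x ∈ S, x < N + N) {r : ℕ} (hr : r < 2) :
    rw' 2 (mirrorSet N S) r = rw' 2 S (1 - r) := by
  have h1 := sum_flipSet (runner_subset_range h (1 - r))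
  have h2 := rw'_add (p := 2) (mirrorSet N S) r
  have h3 := rw'_add (p := 2) S (1 - r)
  rw [runner_mirror S hr] at h2
  omega

theorem card_runner_mirror {S : Finset ℕ} (h : ∀ x ∈ S, x < N + N) (hc : S.card = N) {r : ℕ}
    (hr : r < 2) : (runner 2 (mirrorSet N S) r).card = (runner 2 S r).card := by
  have h1 := card_flipSet (runner_subset_range h (1 - r))
  have h2 : S.card = (runner 2 S 0).card + (runner 2 S 1).card := by
    rw [Finset.card_eq_sum_ones, sum_runners two_pos S fun _ => 1, show Finset.range 2 = {0, 1} from rfl,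
      Finset.sum_pair zero_ne_one, Finset.card_eq_sum_ones, Finset.card_eq_sum_ones]
  rw [runner_mirror S hr]
  interval_cases r <;> simp only [Nat.sub_zero, Nat.sub_self] at h1 ⊢ <;> omega

theorem rw'_eq_of_mirror {S : Finset ℕ} (h : mirrorSet N S = S) : rw' 2 S 0 = rw' 2 S 1 := by
  have h1 := rw'_mirror (lt_of_mirror_eq h) (r := 0) two_pos
  rwa [h] at h1

/-- A self-mirrored set of positive weight has positive height. -/
theorem qE_lt_of_mirror {S : Finset ℕ} (h : mirrorSet N S = S) {w : ℕ}
    (hw : ∑ r ∈ Finset.range 2, rw' 2 S r = w) (hw0 : 1 ≤ w) :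
    qE 2 S + 1 ≤ padicValNat 2 w.factorial := by
  have : Fact (Nat.Prime 2) := ⟨Nat.prime_two⟩
  have he := rw'_eq_of_mirror h
  simp only [Finset.sum_range_succ, Finset.sum_range_zero, zero_add] at hw
  obtain ⟨k, hk⟩ : ∃ k, rw' 2 S 0 = k + 1 := ⟨rw' 2 S 0 - 1, by omega⟩
  have h0 := hookE_le (p := 2) (T := runner 2 S 0) (rw'_add S 0).symm
  have h1 := hookE_le (p := 2) (T := runner 2 S 1) (rw'_add S 1).symm
  rw [← he, hk] at h1
  rw [hk] at h0
  have hcb : padicValNat 2 w.factorial = padicValNat 2 (Nat.centralBinom (k + 1))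
      + 2 * padicValNat 2 (k + 1).factorial := by
    have e := Nat.choose_mul_factorial_mul_factorial (show k + 1 ≤ 2 * (k + 1) by omega)
    rw [show 2 * (k + 1) - (k + 1) = k + 1 by omega] at e
    have e2 := congrArg (padicValNat 2) e
    rw [padicValNat.mul (Nat.mul_ne_zero (Nat.choose_pos (by omega)).ne' (Nat.factorial_ne_zero _))
        (Nat.factorial_ne_zero _), padicValNat.mul (Nat.choose_pos (by omega)).ne'
        (Nat.factorial_ne_zero _), ← Nat.centralBinom_eq_two_mul_choose] at e2
    rw [show w = 2 * (k + 1) by omega]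
    omega
  have h2 : 1 ≤ padicValNat 2 (Nat.centralBinom (k + 1)) :=
    one_le_padicValNat_of_dvd (Nat.centralBinom_pos _).ne' (Nat.two_dvd_centralBinom_succ k)
  rw [qE]
  simp only [Finset.sum_range_succ, Finset.sum_range_zero, zero_add]
  omega

theorem subset_range_of_sum {T : Finset ℕ} {m : ℕ} (hs : ∑ x ∈ T, x = stair T.card + m) :
    T ⊆ Finset.range (T.card + m) := by
  intro x hx
  have h1 := sum_range_card_le (T.erase x)
  have h2 := Finset.sum_erase_add T (fun y => y) hx
  rw [Finset.card_erase_of_mem hx] at h1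
  have hpos := Finset.card_pos.mpr ⟨x, hx⟩
  have h3 : stair T.card = (∑ y ∈ Finset.range (T.card - 1), y) + (T.card - 1) := by
    rw [stair_eq]
    conv_lhs => rw [show T.card = T.card - 1 + 1 by omega, Finset.sum_range_succ]
  exact Finset.mem_range.mpr (by omega)

theorem eq_of_weight_one {T U : Finset ℕ} (hc : T.card = U.card)
    (hT : ∑ x ∈ T, x = stair T.card + 1) (hU : ∑ x ∈ U, x = stair U.card + 1) : T = U := by
  suffices key : ∀ V : Finset ℕ, ∑ x ∈ V, x = stair V.card + 1 →
      Finset.range (V.card + 1) \ V = {V.card - 1} from by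
    have h1 := key T hT
    rw [hc] at h1
    have h2 := h1.trans (key U hU).symm
    have hT' : T ⊆ Finset.range (U.card + 1) := hc ▸ subset_range_of_sum hT
    rw [← Finset.sdiff_sdiff_eq_self hT', h2,
      Finset.sdiff_sdiff_eq_self (subset_range_of_sum hU)]
  intro V hV
  have hsub := subset_range_of_sum hV
  have hcard := Finset.card_sdiff_of_subset hsub
  rw [Finset.card_range, Nat.add_sub_cancel_left] at hcard
  obtain ⟨g, hg⟩ := Finset.card_eq_one.mp hcard
  have h1 := Finset.sum_sdiff (f := fun y : ℕ => y) hsub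
  rw [hg, Finset.sum_singleton, Finset.sum_range_succ, ← stair_eq] at h1
  have hgm : g < V.card + 1 := Finset.mem_range.mp
    (Finset.mem_sdiff.mp (hg ▸ Finset.mem_singleton_self g)).1
  rw [hg, show g = V.card - 1 by omega]

/-- At weight two a bead set has an even hook. -/
theorem one_le_hookE_two {T : Finset ℕ} (hs : ∑ x ∈ T, x = stair T.card + 2) :
    1 ≤ hookE 2 T := by
  have : Fact (Nat.Prime 2) := ⟨Nat.prime_two⟩
  have hsub := subset_range_of_sum hs
  have hcard := Finset.card_sdiff_of_subset hsub
  rw [Finset.card_range, Nat.add_sub_cancel_left] at hcard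
  obtain ⟨g₁, g₂, hne, hg⟩ := Finset.card_eq_two.mp hcard
  have h1 := Finset.sum_sdiff (f := fun y : ℕ => y) hsub
  rw [hg, Finset.sum_pair hne, Finset.sum_range_succ, Finset.sum_range_succ, ← stair_eq] at h1
  have hmem : ∀ g, (g = g₁ ∨ g = g₂) → g < T.card + 2 ∧ g ∉ T := fun g hh => by
    have : g ∈ Finset.range (T.card + 2) \ T := by rw [hg]; simp [hh]
    simpa using this
  have hg1 := hmem g₁ (Or.inl rfl)
  have hg2 := hmem g₂ (Or.inr rfl)
  obtain ⟨g, hgT, hxT⟩ : ∃ g, g ∉ T ∧ g + 2 ∈ T := by
    rcases Nat.lt_or_ge g₁ g₂ with hlt | hlt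
    · refine ⟨g₁, hg1.2, ?_⟩
      by_contra hx
      have : g₁ + 2 ∈ Finset.range (T.card + 2) \ T :=
        Finset.mem_sdiff.mpr ⟨Finset.mem_range.mpr (by omega), hx⟩
      rw [hg, Finset.mem_insert, Finset.mem_singleton] at this
      omega
    · refine ⟨g₂, hg2.2, ?_⟩
      by_contra hx
      have : g₂ + 2 ∈ Finset.range (T.card + 2) \ T :=
        Finset.mem_sdiff.mpr ⟨Finset.mem_range.mpr (by omega), hx⟩
      rw [hg, Finset.mem_insert, Finset.mem_singleton] at this
      omega
  have hlt : pairV 2 T < facV 2 T := by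
    refine Finset.sum_lt_sum (fun x _ => ?_) ⟨g + 2, hxT, ?_⟩
    · rw [padic_factorial_sum]
      exact Finset.sum_le_sum_of_subset fun y hy =>
        Finset.mem_range.mpr (Finset.mem_filter.mp hy).2
    · rw [padic_factorial_sum]
      refine Finset.sum_lt_sum_of_subset (i := g)
        (fun y hy => Finset.mem_range.mpr (Finset.mem_filter.mp hy).2)
        (Finset.mem_range.mpr (by omega)) (fun h => hgT (Finset.mem_filter.mp h).1) ?_
        (fun _ _ _ => Nat.zero_le _)
      rw [show g + 2 - g = 2 by omega, padicValNat_self]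
      exact one_pos
  rw [hookE]
  omega

/-! ### Explicit runners -/

/-- The bead set of a hook with leg `k` and `W` cells. -/
def hookSet (c k W : ℕ) : Finset ℕ :=
  insert (c - 1 - k + W) ((Finset.range c).erase (c - 1 - k))

theorem hookSet_spec [Fact p.Prime] {c k W : ℕ} (hkc : k < c) (hkW : k < W) :
    (hookSet c k W).card = c ∧ (∑ x ∈ hookSet c k W, x = stair c + W) ∧
      hookE p (hookSet c k W) = padicValNat p k.factorial + padicValNat p (W - 1 - k).factorial
        + padicValNat p W := by
  set a := c - 1 - k with ha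
  have hac : a ∈ Finset.range c := Finset.mem_range.mpr (by omega)
  set s := (Finset.range c).erase a with hsd
  have hx : ∀ y ∈ s, y < a + W := fun y hy => by
    have := Finset.mem_range.mp (Finset.mem_of_mem_erase hy)
    omega
  have hxs : a + W ∉ s := fun h => lt_irrefl _ (hx _ h)
  have hins : hookSet c k W = insert (a + W) s := rfl
  refine ⟨?_, ?_, ?_⟩
  · rw [hins, Finset.card_insert_of_notMem hxs, hsd, Finset.card_erase_of_mem hac, Finset.card_range]
    omega
  · have h := Finset.sum_erase_add (Finset.range c) (fun y => y) hac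
    rw [← stair_eq, ← hsd] at h
    rw [hins, Finset.sum_insert hxs]
    omega
  · have hF0 : facV p (Finset.range c) = pairV p (Finset.range c) := by
      refine Finset.sum_congr rfl fun x hx => ?_
      rw [padic_factorial_sum]
      refine Finset.sum_congr (Finset.ext fun y => ?_) fun _ _ => rfl
      simp only [Finset.mem_range, Finset.mem_filter] at hx ⊢
      omega
    have hP : ∀ (u : Finset ℕ) (b : ℕ), b ∉ u → pairV p (insert b u) = pairV p u
        + ∑ y ∈ u.filter (fun y => y < b), padicValNat p (b - y)
        + ∑ y ∈ u.filter (fun y => b < y), padicValNat p (y - b) := by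
      intro u b hb
      have h2 : ∑ x ∈ u, ∑ y ∈ (insert b u).filter (fun y => y < x), padicValNat p (x - y)
          = pairV p u + ∑ y ∈ u.filter (fun y => b < y), padicValNat p (y - b) := by
        rw [pairV, Finset.sum_filter (s := u) (p := fun y => b < y), ← Finset.sum_add_distrib]
        refine Finset.sum_congr rfl fun x _ => ?_
        rw [Finset.filter_insert]
        by_cases h : b < x
        · rw [if_pos h, if_pos h, Finset.sum_insert fun hh => hb (Finset.mem_filter.mp hh).1,
            add_comm]
        · rw [if_neg h, if_neg h, add_zero]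
      rw [pairV, Finset.sum_insert hb, h2, Finset.filter_insert, if_neg (lt_irrefl b)]
      ring
    have hFr : facV p (Finset.range c) = facV p s + padicValNat p a.factorial :=
      (Finset.sum_erase_add _ _ hac).symm
    have hPr : pairV p (Finset.range c)
        = pairV p s + padicValNat p a.factorial + padicValNat p k.factorial := by
      conv_lhs => rw [← Finset.insert_erase hac, ← hsd]
      rw [hP s a (Finset.notMem_erase _ _)]
      congr 1
      · congr 1
        rw [padic_factorial_sum]
        refine Finset.sum_congr (Finset.ext fun y => ?_) fun _ _ => rfl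
        simp only [hsd, Finset.mem_filter, Finset.mem_erase, Finset.mem_range]
        omega
      · rw [padic_factorial_sum]
        refine Finset.sum_bij' (fun y _ => k - (y - a)) (fun d _ => a + (k - d)) ?_ ?_ ?_ ?_ ?_
        all_goals
          intro y hy
          simp only [hsd, Finset.mem_filter, Finset.mem_erase, Finset.mem_range] at hy ⊢
        · omega
        · omega
        · omega
        · omega
        · congr 1
          omega
    have hFi : facV p (insert (a + W) s) = padicValNat p (a + W).factorial + facV p s :=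
      Finset.sum_insert hxs
    have hPi : pairV p (insert (a + W) s) + padicValNat p W
        + padicValNat p (W - 1 - k).factorial = pairV p s + padicValNat p (a + W).factorial := by
      rw [hP s _ hxs, Finset.filter_true_of_mem hx,
        show s.filter (fun y => a + W < y) = ∅ from
          Finset.filter_eq_empty_iff.mpr fun y hy h => absurd (hx y hy) (by omega),
        Finset.sum_empty, add_zero]
      have h := Finset.sum_erase_add (Finset.range c) (fun y => padicValNat p (a + W - y)) hac
      rw [← hsd, show a + W - a = W by omega] at h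
      have hsplit := Finset.sum_range_add (fun d => padicValNat p (a + W - d)) c (W - 1 - k)
      rw [show c + (W - 1 - k) = a + W by omega, ← padic_factorial_sum,
        show (∑ d ∈ Finset.range (W - 1 - k), padicValNat p (a + W - (c + d)))
          = padicValNat p (W - 1 - k).factorial by
          rw [padic_factorial_sum]
          exact Finset.sum_congr rfl fun d _ => congrArg _ (by omega)] at hsplit
      omega
    have h1 := hookE_add (p := p) (insert (a + W) s)
    rw [hins]
    omega

theorem range_spec [Fact p.Prime] (c : ℕ) :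
    ∑ x ∈ Finset.range c, x = stair c + 0 ∧ hookE p (Finset.range c) = 0 := by
  have h1 : ∑ x ∈ Finset.range c, x = stair (Finset.range c).card + 0 := by
    rw [Finset.card_range, stair_eq, add_zero]
  refine ⟨by rw [stair_eq, add_zero], ?_⟩
  have := hookE_le (p := p) h1
  rw [Nat.factorial_zero, padicValNat_one_right] at this
  omega

theorem lt_cnt_of_level {α₀ : Fin N → ℕ} (hα₀ : Function.Injective α₀)
    (hs : ∑ i, α₀ i = stair N + n) {k : ℕ} (hN : n + p * (k + 1) ≤ N) {r : ℕ} (hr : r < p) :
    k < cnt p α₀ r := by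
  rw [← cntS_image hα₀, ← card_runner]
  refine lt_of_lt_of_le (Nat.lt_add_one k) ?_
  rw [← Finset.card_range (k + 1)]
  refine Finset.card_le_card fun a ha => ?_
  have h1 : p * a + p ≤ p * (k + 1) := by
    have := Nat.mul_le_mul_left p (Finset.mem_range.mp ha)
    rwa [Nat.mul_succ] at this
  obtain ⟨i, hi⟩ := exists_eq_of_level hα₀ hs (v := r + p * a) (by omega)
  rw [mem_runner (by omega) hr, ← hi]
  exact Finset.mem_image_of_mem _ (Finset.mem_univ i)

/-- A tuple with prescribed runners. -/
theorem exists_of_runners [hp : Fact p.Prime] {α₀ : Fin N → ℕ} (hα₀ : Function.Injective α₀)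
    (hs : ∑ i, α₀ i = stair N + n) {w : ℕ}
    (hw : ∑ i, α₀ i = (∑ i, core0 p α₀ i) + p * w) (T : ℕ → Finset ℕ) (W : ℕ → ℕ)
    (hc : ∀ r < p, (T r).card = cnt p α₀ r)
    (hT : ∀ r < p, ∑ a ∈ T r, a = stair (T r).card + W r) (hW : ∑ r ∈ Finset.range p, W r = w) :
    ∃ α : Fin N → ℕ, Function.Injective α ∧ α ∈ lev N n ∧ cnt p α = cnt p α₀ ∧
      ∑ i, α i = (∑ i, core0 p α i) + p * w ∧
      (∀ r < p, runner p (Finset.univ.image α) r = T r ∧ rw' p (Finset.univ.image α) r = W r) := by
  classical
  have hpp := hp.out.pos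
  set S := (Finset.range p).biUnion fun r => (T r).image fun a => r + p * a with hS
  have hmem : ∀ r < p, runner p S r = T r := by
    intro r hr
    ext a
    rw [mem_runner hpp hr, hS]
    simp only [Finset.mem_biUnion, Finset.mem_range, Finset.mem_image]
    constructor
    · rintro ⟨r', hr', a', ha', he⟩
      have h1 := congrArg (· % p) he
      simp only [Nat.add_mul_mod_self_left, Nat.mod_eq_of_lt hr', Nat.mod_eq_of_lt hr] at h1
      subst h1
      rwa [← Nat.eq_of_mul_eq_mul_left hpp (Nat.add_left_cancel he)]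
    · exact fun ha => ⟨r, hr, a, ha, rfl⟩
  have hcnt : cntS p S = cnt p α₀ := by
    funext r
    by_cases hr : r < p
    · rw [← card_runner, hmem r hr, hc r hr]
    · rw [cntS, cnt, Finset.card_eq_zero.mpr (Finset.filter_eq_empty_iff.mpr fun x _ h =>
          hr (lt_of_eq_of_lt h.symm (Nat.mod_lt x hpp))),
        Finset.card_eq_zero.mpr (Finset.filter_eq_empty_iff.mpr fun x _ h =>
          hr (lt_of_eq_of_lt h.symm (Nat.mod_lt (α₀ x) hpp)))]
  obtain ⟨α, hα, himg, hcα, -⟩ := exists_tuple hpp hcnt
  obtain ⟨w', hw'⟩ := exists_weight (p := p) hα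
  have hrw : ∀ r < p, rw' p S r = W r := fun r hr => by
    rw [rw', hmem r hr, hT r hr, Nat.add_sub_cancel_left]
  have hww : w' = w := by
    rw [← sum_rw' hpp hα hw', himg, ← hW]
    exact Finset.sum_congr rfl fun r hr => hrw r (Finset.mem_range.mp hr)
  subst hww
  refine ⟨α, hα, mem_lev.mpr ?_, hcα, hw', fun r hr => ?_⟩
  · rw [hw', sum_core0_eq hpp hα hα₀ hcα, ← hw, hs]
  · rw [himg]
    exact ⟨hmem r hr, hrw r hr⟩

/-- Two-runner bead sets exist with a binomial coefficient of valuation one. -/
theorem exists_choose_one [hp : Fact p.Prime] : ∀ w, p ≤ w → (w % p ≠ p - 1 ∨ p ∣ w / p) →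
    ∃ k, 1 ≤ k ∧ k < w ∧
      padicValNat p k.factorial + padicValNat p (w - k).factorial + 1
        = padicValNat p w.factorial := by
  intro w
  induction w using Nat.strong_induction_on with
  | _ w ih =>
  intro hw h
  have hp2 := hp.out.two_le
  have hmod := Nat.mod_lt w hp.out.pos
  have hdm := Nat.mod_add_div w p
  set u := w / p
  set a := w % p
  have hu : 1 ≤ u := Nat.div_pos hw hp.out.pos
  by_cases hd : p ∣ u
  · have hpu : p ≤ u := Nat.le_of_dvd hu hd
    have hlt : u < w := by
      have : 2 * u ≤ p * u := Nat.mul_le_mul_right u hp2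
      omega
    obtain ⟨k, hk1, hku, hk⟩ := ih u hlt hpu (Or.inl (by rw [Nat.mod_eq_zero_of_dvd hd]; omega))
    have h1 : p * k < p * u := Nat.mul_lt_mul_of_pos_left hku hp.out.pos
    have h2 : 1 * 1 ≤ p * k := Nat.mul_le_mul (by omega) hk1
    refine ⟨p * k, by omega, by omega, ?_⟩
    rw [show w - p * k = a + p * (u - k) by rw [Nat.mul_sub]; omega, ← hdm,
      padic_runner_factorial hmod, padic_runner_factorial hmod, padicValNat_factorial_mul]
    omega
  · have ha : a + 1 < p := by
      rcases h with h | h
      · omega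
      · exact absurd h hd
    have h2 : p * 1 ≤ p * u := Nat.mul_le_mul_left p hu
    refine ⟨a + 1, by omega, by omega, ?_⟩
    have e : w - (a + 1) = (p - 1) + p * (u - 1) := by rw [Nat.mul_sub, mul_one]; omega
    have hk0 : padicValNat p (a + 1).factorial = 0 := by
      have := padic_runner_factorial (p := p) ha 0
      simpa using this
    rw [e, padic_runner_factorial (by omega), hk0, ← hdm, padic_runner_factorial hmod]
    have hfac : padicValNat p u.factorial = padicValNat p (u - 1).factorial := by
      obtain ⟨v, hv⟩ : ∃ v, u = v + 1 := ⟨u - 1, by omega⟩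
      rw [hv] at hd ⊢
      rw [Nat.factorial_succ, padicValNat.mul (Nat.succ_ne_zero v) (Nat.factorial_ne_zero v),
        padicValNat.eq_zero_of_not_dvd hd, zero_add, Nat.add_sub_cancel]
    omega

/-- A bead set of height one, not self-mirrored when `p = 2`. -/
theorem exists_height_one [hp : Fact p.Prime] {α₀ : Fin N → ℕ} (hα₀ : Function.Injective α₀)
    (hs : ∑ i, α₀ i = stair N + n) {w : ℕ}
    (hw : ∑ i, α₀ i = (∑ i, core0 p α₀ i) + p * w) (hwp : p ≤ w) (h3 : p = 2 → 3 ≤ w)
    (hN : n + p * (n + 1) ≤ N) :
    ∃ α : Fin N → ℕ, Function.Injective α ∧ α ∈ lev N n ∧ cnt p α = cnt p α₀ ∧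
      ∑ i, α i = (∑ i, core0 p α i) + p * w ∧
      qE p (Finset.univ.image α) + 1 = padicValNat p w.factorial ∧
      (p = 2 → mirrorSet N (Finset.univ.image α) ≠ Finset.univ.image α) := by
  classical
  have hp2 := hp.out.two_le
  have hwn : p * w ≤ n := by
    have := stair_le (core0_injective hp.out.pos hα₀)
    omega
  have hwn' : w ≤ n := le_trans (Nat.le_mul_of_pos_left w hp.out.pos) hwn
  have hbig : ∀ r < p, w < cnt p α₀ r := fun r hr => lt_cnt_of_level hα₀ hs
    (le_trans (Nat.add_le_add_left (Nat.mul_le_mul_left p (Nat.succ_le_succ hwn')) n) hN) hr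
  by_cases hcase : w % p ≠ p - 1 ∨ p ∣ w / p
  · obtain ⟨k, hk1, hkw, hk⟩ := exists_choose_one w hwp hcase
    let W : ℕ → ℕ := fun r => if r = 0 then w - k else if r = 1 then k else 0
    let T : ℕ → Finset ℕ := fun r =>
      if r < 2 then hookSet (cnt p α₀ r) 0 (W r) else Finset.range (cnt p α₀ r)
    have hW2 : ∀ r, r < 2 → 0 < W r := fun r hr => by
      interval_cases r <;> simp [W] <;> omega
    have hspec : ∀ r, r < p → (T r).card = cnt p α₀ r ∧ ∑ a ∈ T r, a = stair (T r).card + W r ∧
        hookE p (T r) = padicValNat p (W r).factorial := by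
      intro r hr
      by_cases h2 : r < 2
      · obtain ⟨e1, e2, e3⟩ := hookSet_spec (p := p)
          (k := 0) (lt_of_le_of_lt (Nat.zero_le w) (hbig r hr)) (hW2 r h2)
        simp only [T, if_pos h2]
        refine ⟨e1, by rw [e1, e2], ?_⟩
        rw [e3, Nat.factorial_zero, padicValNat_one_right, zero_add, Nat.sub_zero]
        conv_rhs => rw [← Nat.mul_factorial_pred (hW2 r h2).ne',
          padicValNat.mul (hW2 r h2).ne' (Nat.factorial_ne_zero _)]
        rw [add_comm]
      · have hr0 : W r = 0 := by simp [W, show r ≠ 0 by omega, show r ≠ 1 by omega]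
        simp only [T, if_neg h2, hr0, Nat.factorial_zero, padicValNat_one_right, Finset.card_range]
        exact ⟨trivial, (range_spec (p := p) _).1, (range_spec _).2⟩
    have htwo : ∀ F : ℕ → ℕ, (∀ r, r < p → 2 ≤ r → F r = 0) →
        ∑ r ∈ Finset.range p, F r = F 0 + F 1 := by
      intro F hF
      rw [← Finset.sum_subset (s₁ := Finset.range 2) (Finset.range_subset_range.mpr hp2) fun r hr hr' =>
        hF r (Finset.mem_range.mp hr) (by rwa [Finset.mem_range, not_lt] at hr')]
      simp [Finset.sum_range_succ]
    have hWsum : ∑ r ∈ Finset.range p, W r = w := by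
      rw [htwo W fun r _ h => by simp [W, show r ≠ 0 by omega, show r ≠ 1 by omega]]
      simp [W]
      omega
    obtain ⟨α, hinj, hlev, hcα, hwα, hrun⟩ := exists_of_runners hα₀ hs hw T W
      (fun r hr => (hspec r hr).1) (fun r hr => (hspec r hr).2.1) hWsum
    refine ⟨α, hinj, hlev, hcα, hwα, ?_, ?_⟩
    · rw [qE, Finset.sum_congr rfl fun r hr => by
        rw [(hrun r (Finset.mem_range.mp hr)).1, (hspec r (Finset.mem_range.mp hr)).2.2]]
      rw [htwo _ fun r _ h => by
        simp [W, show r ≠ 0 by omega, show r ≠ 1 by omega]]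
      simp [W]
      omega
    · rintro rfl hmir
      have h01 := rw'_eq_of_mirror hmir
      rw [(hrun 0 two_pos).2, (hrun 1 one_lt_two).2] at h01
      simp [W] at h01
      have h1 := runner_mirror (N := N) (Finset.univ.image α) (r := 1) one_lt_two
      rw [hmir, (hrun 1 one_lt_two).1, show 1 - 1 = 0 from rfl, (hrun 0 two_pos).1] at h1
      have hlt := runner_subset_range (lt_of_mirror_eq hmir)
      have hT1 := hlt 1
      have hT0 := hlt 0
      rw [(hrun 1 one_lt_two).1] at hT1
      rw [(hrun 0 two_pos).1] at hT0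
      have hcardf := card_flipSet hT0
      rw [← h1, (hspec 1 one_lt_two).1, (hspec 0 two_pos).1] at hcardf
      have hb := hbig 0 two_pos
      have hb1 := hbig 1 one_lt_two
      have hmem : cnt 2 α₀ 1 ∈ T 1 := by
        rw [h1, mem_flipSet]
        refine ⟨by omega, ?_⟩
        simp only [T, W, hookSet, show (0 : ℕ) < 2 from two_pos, if_true, Finset.mem_insert,
          Finset.mem_erase, Finset.mem_range, not_or, not_and]
        omega
      simp only [T, W, hookSet, show (1 : ℕ) < 2 from one_lt_two, if_true, one_ne_zero, if_false,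
        Finset.mem_insert, Finset.mem_erase, Finset.mem_range] at hmem
      omega
  · push Not at hcase
    obtain ⟨ha, hu⟩ := hcase
    let W : ℕ → ℕ := fun r => if r = 0 then w else 0
    let T : ℕ → Finset ℕ := fun r =>
      if r = 0 then hookSet (cnt p α₀ r) (p - 1) w else Finset.range (cnt p α₀ r)
    have h0p := hp.out.pos
    obtain ⟨e1, e2, e3⟩ := hookSet_spec (p := p) (c := cnt p α₀ 0) (k := p - 1) (W := w)
      (by have := hbig 0 h0p; omega) (by omega)
    have hspec : ∀ r, r < p → (T r).card = cnt p α₀ r ∧ ∑ a ∈ T r, a = stair (T r).card + W r ∧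
        (r ≠ 0 → hookE p (T r) = 0) := by
      intro r hr
      by_cases h : r = 0
      · subst h
        simp only [T, W, if_true]
        exact ⟨e1, by rw [e1, e2], fun h => absurd rfl h⟩
      · simp only [T, W, if_neg h, Finset.card_range]
        exact ⟨trivial, (range_spec (p := p) _).1, fun _ => (range_spec _).2⟩
    have hWsum : ∑ r ∈ Finset.range p, W r = w := by
      rw [Finset.sum_eq_single_of_mem 0 (Finset.mem_range.mpr h0p) fun r _ h => by simp [W, h]]
      simp [W]
    obtain ⟨α, hinj, hlev, hcα, hwα, hrun⟩ := exists_of_runners hα₀ hs hw T W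
      (fun r hr => (hspec r hr).1) (fun r hr => (hspec r hr).2.1) hWsum
    refine ⟨α, hinj, hlev, hcα, hwα, ?_, ?_⟩
    · rw [qE, Finset.sum_eq_single_of_mem 0 (Finset.mem_range.mpr h0p) fun r hr h => by
        rw [(hrun r (Finset.mem_range.mp hr)).1]; exact (hspec r (Finset.mem_range.mp hr)).2.2 h,
        (hrun 0 h0p).1]
      simp only [T, if_true]
      rw [e3]
      have hdm := Nat.mod_add_div w p
      set u := w / p
      have hu1 : 1 ≤ u := Nat.div_pos hwp h0p
      have hk0 : padicValNat p (p - 1).factorial = 0 := by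
        have := padic_runner_factorial (p := p) (r := p - 1) (by omega) 0
        simpa using this
      have hsub : w - 1 - (p - 1) = (p - 1) + p * (u - 1) := by
        have h2 : p * 1 ≤ p * u := Nat.mul_le_mul_left p hu1
        rw [Nat.mul_sub, mul_one]
        omega
      have hw0 : padicValNat p w = 0 := padicValNat.eq_zero_of_not_dvd fun hd => by
        rw [Nat.mod_eq_zero_of_dvd hd] at ha
        omega
      rw [hk0, hw0, hsub, padic_runner_factorial (by omega)]
      have hfac : padicValNat p u.factorial = padicValNat p (u - 1).factorial := by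
        obtain ⟨v, hv⟩ : ∃ v, u = v + 1 := ⟨u - 1, by omega⟩
        rw [hv] at hu ⊢
        rw [Nat.factorial_succ, padicValNat.mul (Nat.succ_ne_zero v) (Nat.factorial_ne_zero v),
          padicValNat.eq_zero_of_not_dvd hu, zero_add, Nat.add_sub_cancel]
      conv_rhs => rw [← hdm, ha, padic_runner_factorial (show p - 1 < p by omega)]
      omega
    · rintro rfl hmir
      have h01 := rw'_eq_of_mirror hmir
      rw [(hrun 0 two_pos).2, (hrun 1 one_lt_two).2] at h01
      simp [W] at h01
      omega

end Cfsg.Agent.SymBlocks
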