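import Cfsg.Agent.Lib.SymBlocks.Ops

/-!
# The common kernel of the operators removing multiples of `p`

`kernel`: an antisymmetric function killed by every `d (p * k)` that vanishes on the tuples whose
runner zero is closed downwards is zero. `exists_vM_ne`: completeness of the character values.
-/

set_option autoImplicit false

open Finset Equiv

namespace Cfsg.Agent.SymBlocks

variable {N : ℕ}

/-- The shift by `p` times an exponent vector. -/
noncomputable def shiftHom (p : ℕ) : Multiplicative (Fin N →₀ ℕ) →* Module.End ℂ (Fn N) where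
  toFun e :=
    { toFun := fun f α => f fun i => α i + p * Multiplicative.toAdd e i
      map_add' := fun _ _ => rfl
      map_smul' := fun _ _ => rfl }
  map_one' := by
    ext f α
    simp
  map_mul' a b := by
    ext f α
    simp only [toAdd_mul, Finsupp.coe_add, Pi.add_apply, LinearMap.coe_mk, AddHom.coe_mk,
      Module.End.mul_apply]
    congr 1
    funext i
    ring

/-- Polynomials in the `p`-th powers of the variables act through shifts. -/
noncomputable def act (p : ℕ) : MvPolynomial (Fin N) ℂ →ₐ[ℂ] Module.End ℂ (Fn N) :=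
  AddMonoidAlgebra.lift ℂ (Module.End ℂ (Fn N)) (Fin N →₀ ℕ) (shiftHom p)

theorem act_monomial (p : ℕ) (e : Fin N →₀ ℕ) (f : Fn N) (α : Fin N → ℕ) :
    act p (MvPolynomial.monomial e 1) f α = f fun i => α i + p * e i := by
  have h : act p (MvPolynomial.monomial e (1 : ℂ))
      = (1 : ℂ) • shiftHom p (Multiplicative.ofAdd e) :=
    AddMonoidAlgebra.lift_single _ _ _
  rw [h, one_smul]
  rfl

theorem act_psum (p k : ℕ) (f : Fn N) : act p (MvPolynomial.psum (Fin N) ℂ k) f = d (p * k) f := by
  funext α
  rw [MvPolynomial.psum, map_sum, LinearMap.sum_apply, Finset.sum_apply, d]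
  refine Finset.sum_congr rfl fun j _ => ?_
  rw [MvPolynomial.X_pow_eq_monomial, act_monomial]
  congr 1
  funext i
  by_cases h : i = j
  · subst h
    simp
  · simp [h, Finsupp.single_eq_of_ne h]

theorem act_esymm (p j : ℕ) (f : Fn N) (α : Fin N → ℕ) :
    act p (MvPolynomial.esymm (Fin N) ℂ j) f α =
      ∑ t ∈ Finset.univ.powersetCard j, f fun i => α i + if i ∈ t then p else 0 := by
  rw [MvPolynomial.esymm_eq_sum_monomial, map_sum, LinearMap.sum_apply, Finset.sum_apply]
  refine Finset.sum_congr rfl fun t _ => ?_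
  rw [act_monomial]
  congr 1
  funext i
  rw [Finsupp.finsetSum_apply]
  simp [Finsupp.single_apply]

/-- By Newton, the kernel of the power sums is killed by the elementary symmetric functions. -/
theorem act_esymm_eq_zero {p : ℕ} {f : Fn N} (hd : ∀ k, 1 ≤ k → d (p * k) f = 0) {j : ℕ}
    (hj : 1 ≤ j) : act p (MvPolynomial.esymm (Fin N) ℂ j) f = 0 := by
  have h := congrArg (fun P => act p P f) (MvPolynomial.mul_esymm_eq_sum (Fin N) ℂ j)
  simp only [map_mul, map_natCast, map_sum, Module.End.mul_apply, LinearMap.sum_apply] at h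
  have h0 : ∀ a : ℕ × ℕ, a ∈ (antidiagonal j).filter (fun a : ℕ × ℕ => a.1 < j) →
      act p (MvPolynomial.psum (Fin N) ℂ a.2) f = 0 := by
    intro a ha
    rw [Finset.mem_filter, HasAntidiagonal.mem_antidiagonal] at ha
    rw [act_psum]
    exact hd _ (by omega)
  rw [Finset.sum_eq_zero (fun a ha => by rw [h0 a ha, map_zero, map_zero, map_zero]),
    Module.End.natCast_apply] at h
  exact (smul_eq_zero.mp ((Nat.cast_smul_eq_nsmul ℂ j _).trans h)).resolve_left
    (Nat.cast_ne_zero.mpr (by omega))

/-- Runner zero of the abacus is closed downwards. -/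
def Ground0 (p : ℕ) (α : Fin N → ℕ) : Prop :=
  ∀ i q, p ∣ α i → p * q < α i → ∃ j, α j = p * q

theorem exists_gap {p : ℕ} (hp : 0 < p) (α : Fin N → ℕ) : ∃ q, ∀ j, α j ≠ p * q := by
  refine ⟨(∑ i, α i) + 1, fun j h => ?_⟩
  have h1 := Finset.single_le_sum (f := α) (fun i _ => Nat.zero_le _) (Finset.mem_univ j)
  have h2 : (∑ i, α i) + 1 ≤ p * ((∑ i, α i) + 1) := Nat.le_mul_of_pos_left _ hp
  omega

/-- An antisymmetric function in the common kernel is determined by the tuples with runner zero
closed downwards. -/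
theorem kernel {p : ℕ} (hp : 0 < p) {f : Fn N} (hinj : ∀ α, ¬ Function.Injective α → f α = 0)
    (hd : ∀ k, 1 ≤ k → d (p * k) f = 0)
    (hground : ∀ α, Function.Injective α → Ground0 p α → f α = 0) : f = 0 := by
  classical
  suffices key : ∀ (L g : ℕ) (α : Fin N → ℕ), (∑ i, if p ∣ α i then α i else 0) = L →
      Nat.find (exists_gap hp α) = g → f α = 0 from funext fun α => key _ _ α rfl rfl
  intro L
  induction L using Nat.strong_induction_on with
  | _ L ihL =>
  intro g
  induction g using Nat.strong_induction_on with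
  | _ g ihg =>
  intro α hL hg
  by_cases hα : Function.Injective α
  swap
  · exact hinj α hα
  by_cases hG : Ground0 p α
  · exact hground α hα hG
  simp only [Ground0, not_forall, not_exists] at hG
  obtain ⟨i0, q0, hi0, hlt, hq0⟩ := hG
  have hv : ∀ j, α j ≠ p * g := hg ▸ Nat.find_spec (exists_gap hp α)
  have hgq : g ≤ q0 := hg ▸ Nat.find_min' (exists_gap hp α) hq0
  let R := Finset.univ.filter fun i => p ∣ α i
  let S0 := R.filter fun i => p * g < α i
  have hS0pos : 1 ≤ S0.card := Finset.card_pos.mpr ⟨i0, by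
    simp only [S0, R, Finset.mem_filter, Finset.mem_univ, true_and]
    exact ⟨hi0, lt_of_le_of_lt (Nat.mul_le_mul_left p hgq) hlt⟩⟩
  have hmemS0 : ∀ i ∈ S0, p ∣ α i ∧ p * g + p ≤ α i := by
    intro i hi
    simp only [S0, R, Finset.mem_filter, Finset.mem_univ, true_and] at hi
    obtain ⟨⟨c, hc⟩, hlt'⟩ := hi
    refine ⟨⟨c, hc⟩, ?_⟩
    have hgc : g < c := Nat.lt_of_mul_lt_mul_left (hc ▸ hlt')
    calc p * g + p = p * (g + 1) := by ring
      _ ≤ p * c := Nat.mul_le_mul_left p hgc
      _ = α i := hc.symm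
  let Y : Fin N → ℕ := fun i => α i - if i ∈ S0 then p else 0
  have hYadd : ∀ i, Y i + (if i ∈ S0 then p else 0) = α i := by
    intro i
    simp only [Y]
    split_ifs with h
    · have := (hmemS0 i h).2
      omega
    · omega
  have h0 := congrFun (act_esymm_eq_zero hd hS0pos) Y
  rw [act_esymm, Finset.sum_eq_single S0] at h0
  · simp only [hYadd, Pi.zero_apply] at h0
    exact h0
  swap
  · intro h
    exact absurd (Finset.mem_powersetCard_univ.mpr rfl) h
  intro t ht htS
  have htc : t.card = S0.card := Finset.mem_powersetCard_univ.mp ht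
  set Z : Fin N → ℕ := fun i => Y i + if i ∈ t then p else 0 with hZdef
  show f Z = 0
  by_cases hZ : Function.Injective Z
  swap
  · exact hinj Z hZ
  have hdvd : ∀ i, p ∣ Z i ↔ p ∣ α i := by
    intro i
    rw [← hYadd i, hZdef]
    dsimp only
    have e1 : ∀ (s : Finset (Fin N)) (y : ℕ), (p ∣ y + if i ∈ s then p else 0) ↔ p ∣ y := by
      intro s y
      split_ifs <;> simp [Nat.dvd_add_self_right]
    rw [e1, e1]
  have hLZ : (∑ i, if p ∣ Z i then Z i else 0) + p * S0.card
      = L + p * (t.filter fun i => i ∈ R).card := by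
    have e1 : p * S0.card = ∑ i, if i ∈ S0 then p else 0 := by
      rw [Finset.sum_ite_mem, Finset.univ_inter, Finset.sum_const, smul_eq_mul, mul_comm]
    have e2 : p * (t.filter fun i => i ∈ R).card
        = ∑ i, if i ∈ t.filter (fun i => i ∈ R) then p else 0 := by
      rw [Finset.sum_ite_mem, Finset.univ_inter, Finset.sum_const, smul_eq_mul, mul_comm]
    rw [e1, e2, ← hL, ← Finset.sum_add_distrib, ← Finset.sum_add_distrib]
    refine Finset.sum_congr rfl fun i _ => ?_
    have hR : i ∈ R ↔ p ∣ α i := by simp [R]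
    simp only [hdvd, Finset.mem_filter, hR]
    by_cases h : p ∣ α i
    · rw [if_pos h, if_pos h]
      simp only [h, and_true, hZdef]
      have := hYadd i
      omega
    · rw [if_neg h, if_neg h]
      have : i ∉ S0 := fun hi => h (hmemS0 i hi).1
      simp [h, this]
  by_cases hsub : t ⊆ R
  swap
  · refine ihL _ ?_ _ Z rfl rfl
    have hlt2 : (t.filter fun i => i ∈ R).card < t.card := by
      refine Finset.card_lt_card (Finset.filter_ssubset.mpr ?_)
      obtain ⟨x, hx, hxR⟩ := Finset.not_subset.mp hsub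
      exact ⟨x, hx, hxR⟩
    have := Nat.mul_lt_mul_of_pos_left (htc ▸ hlt2) hp
    omega
  have hLeq : (∑ i, if p ∣ Z i then Z i else 0) = L := by
    rw [Finset.filter_true_of_mem hsub, htc] at hLZ
    omega
  obtain ⟨i, hi, hmin⟩ := Finset.exists_min_image (t \ S0) α (by
    rw [Finset.sdiff_nonempty]
    exact fun h => htS (Finset.eq_of_subset_of_card_le h htc.ge))
  rw [Finset.mem_sdiff] at hi
  obtain ⟨hit, hiS⟩ := hi
  obtain ⟨c, hc⟩ := (Finset.mem_filter.mp (hsub hit)).2
  have hcg : c < g := by
    rcases lt_trichotomy c g with h | h | h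
    · exact h
    · exact absurd (h ▸ hc) (hv i)
    · exfalso
      refine hiS (Finset.mem_filter.mpr ⟨hsub hit, ?_⟩)
      rw [hc]
      exact Nat.mul_lt_mul_of_pos_left h hp
  refine ihg (Nat.find (exists_gap hp Z)) ?_ Z hLeq rfl
  refine lt_of_le_of_lt (Nat.find_min' _ fun k hk => ?_) hcg
  rw [← hc] at hk
  have hYk := hYadd k
  have hcg' : α i < p * g := hc ▸ Nat.mul_lt_mul_of_pos_left hcg hp
  simp only [hZdef] at hk
  by_cases hkS : k ∈ S0
  · have := (hmemS0 k hkS).2
    rw [if_pos hkS] at hYk
    omega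
  · rw [if_neg hkS, add_zero] at hYk
    by_cases hkt : k ∈ t
    · rw [if_pos hkt] at hk
      have := hmin k (Finset.mem_sdiff.mpr ⟨hkt, hkS⟩)
      omega
    · rw [if_neg hkt, add_zero, hYk] at hk
      exact hkt (hα hk ▸ hit)

theorem onLev_d {f : Fn N} {m k : ℕ} (hf : OnLev m f) (hk : k ≤ m) : OnLev (m - k) (d k f) := by
  intro α hα
  obtain ⟨j, -, hj⟩ := Finset.exists_ne_zero_of_sum_ne_zero hα
  have h1 := hf _ hj
  have h2 := sum_update_add α j (α j + k)
  omega

/-- A function orthogonal to all the `vM μ` is zero. -/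
theorem eq_zero_of_orth (m : ℕ) : ∀ {f : Fn N}, Anti f → OnLev m f →
    (∀ μ : Multiset ℕ, (∀ a ∈ μ, 0 < a) → μ.sum = m → ip m (vM N μ) f = 0) → f = 0 := by
  induction m using Nat.strong_induction_on with
  | _ m ih =>
  intro f hf hlev horth
  refine kernel Nat.one_pos (fun α => hf.zero_of_not_injective) (fun k hk => ?_) fun α hα hG => ?_
  · rw [one_mul]
    by_cases hkm : k ≤ m
    · refine ih (m - k) (by omega) (anti_d hf k) (onLev_d hlev hkm) fun μ hμ hs => ?_
      have h := horth (k ::ₘ μ) (fun a ha => (Multiset.mem_cons.mp ha).elim (fun e => e ▸ hk) (hμ a))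
        (by rw [Multiset.sum_cons]; omega)
      rw [vM_cons] at h
      conv at h => arg 1; arg 1; rw [← Nat.sub_add_cancel hkm]
      rwa [ip_C] at h
    · funext α
      by_cases hα : Function.Injective α
      · refine Finset.sum_eq_zero fun j _ => ?_
        by_contra h
        have h1 := hlev _ h
        have h2 := sum_update_add α j (α j + k)
        have := stair_le hα
        omega
      · exact (anti_d hf k).zero_of_not_injective hα
  · by_contra h0
    have hlt : ∀ i, α i < N := by
      intro i
      have hsub : Finset.range (α i + 1) ⊆ Finset.univ.image α := by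
        intro q hq
        rw [Finset.mem_range] at hq
        refine Finset.mem_image.mpr ?_
        rcases Nat.lt_or_ge q (α i) with h | h
        · obtain ⟨j, hj⟩ := hG i q (one_dvd _) (by rwa [one_mul])
          exact ⟨j, Finset.mem_univ _, by rwa [one_mul] at hj⟩
        · exact ⟨i, Finset.mem_univ _, by omega⟩
      have h1 := Finset.card_le_card hsub
      rw [Finset.card_range, Finset.card_image_of_injective _ hα, Finset.card_fin] at h1
      omega
    let π₀ : Fin N → Fin N := fun i => ⟨α i, hlt i⟩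
    have hπ : Function.Bijective π₀ :=
      Finite.injective_iff_bijective.mp fun a b h => hα (congrArg Fin.val h)
    let π := Equiv.ofBijective π₀ hπ
    have hαπ : α = (fun j : Fin N => (j : ℕ)) ∘ π := rfl
    have hsum : ∑ i, α i = stair N := by
      rw [hαπ, stair]
      exact Fintype.sum_equiv π _ _ fun _ => rfl
    have hm : m = 0 := by
      have := hlev α h0
      omega
    subst hm
    have h := horth 0 (fun a ha => absurd ha (Multiset.notMem_zero a)) Multiset.sum_zero
    rw [vM_zero, ip_base hf, mul_eq_zero] at h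
    refine h0 ?_
    rw [hαπ, hf, h.resolve_left (Nat.cast_ne_zero.mpr (Nat.factorial_ne_zero N)), mul_zero]

/-- The antisymmetrised indicator of a tuple. -/
noncomputable def delta (α : Fin N → ℕ) : Fn N := fun β =>
  ∑ π : Equiv.Perm (Fin N),
    if ∀ j, α (π j) = β j then ((Equiv.Perm.sign π : ℤ) : ℂ) else 0

theorem anti_delta (α : Fin N → ℕ) : Anti (delta α) := by
  intro β σ
  rw [delta, delta, Finset.mul_sum]
  refine Fintype.sum_equiv (Equiv.mulRight σ⁻¹) _ _ fun π => ?_
  have hiff : (∀ j, α (π j) = (β ∘ σ) j) ↔ ∀ j, α ((Equiv.mulRight σ⁻¹ π) j) = β j := by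
    constructor
    · intro h j
      have h1 := h (σ⁻¹ j)
      simpa [Equiv.Perm.mul_apply] using h1
    · intro h j
      have h1 := h (σ j)
      simpa [Equiv.Perm.mul_apply] using h1
  by_cases h : ∀ j, α (π j) = (β ∘ σ) j
  · rw [if_pos h, if_pos (hiff.mp h), show Equiv.mulRight σ⁻¹ π = π * σ⁻¹ from rfl, map_mul,
      Equiv.Perm.sign_inv, Units.val_mul, Int.cast_mul, mul_left_comm, ← Int.cast_mul,
      ← Units.val_mul, Int.units_mul_self]
    simp
  · rw [if_neg h, if_neg fun h' => h (hiff.mpr h'), mul_zero]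

theorem onLev_delta {α : Fin N → ℕ} {m : ℕ} (hs : ∑ i, α i = stair N + m) :
    OnLev m (delta α) := by
  intro β hβ
  obtain ⟨π, -, hπ⟩ := Finset.exists_ne_zero_of_sum_ne_zero hβ
  split_ifs at hπ with h
  · rw [← hs, ← Fintype.sum_equiv π (fun j => α (π j)) α fun _ => rfl]
    exact Finset.sum_congr rfl fun j _ => (h j).symm
  · exact absurd rfl hπ

theorem delta_self {α : Fin N → ℕ} (hα : Function.Injective α) : delta α α = 1 := by
  rw [delta, Finset.sum_eq_single 1]
  · simp
  · intro π _ hπ
    rw [if_neg]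
    exact fun h => hπ (Equiv.ext fun j => hα (h j))
  · simp

theorem ip_delta {α : Fin N → ℕ} {m : ℕ} (hs : ∑ i, α i = stair N + m) {g : Fn N} (hg : Anti g) :
    ip m g (delta α) = (N.factorial : ℂ) * g α := by
  simp only [ip, delta, Finset.mul_sum, mul_ite, mul_zero]
  rw [Finset.sum_comm]
  have h1 : ∀ π : Equiv.Perm (Fin N), (∑ β ∈ lev N m, if ∀ j, α (π j) = β j then
      g β * ((Equiv.Perm.sign π : ℤ) : ℂ) else 0) = g α := by
    intro π
    rw [Finset.sum_eq_single (α ∘ π)]
    · simp only [Function.comp_apply, implies_true, if_true]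
      rw [hg, mul_comm, ← mul_assoc, ← Int.cast_mul, ← Units.val_mul, Int.units_mul_self]
      simp
    · intro β _ hβ
      rw [if_neg fun h => hβ (funext fun j => (h j).symm)]
    · intro h
      exact absurd (mem_lev.mpr ((Fintype.sum_equiv π _ _ fun _ => rfl).trans hs)) h
  rw [Finset.sum_congr rfl fun π _ => h1 π, Finset.sum_const, Finset.card_univ,
    Fintype.card_perm, Fintype.card_fin, nsmul_eq_mul]

/-- Completeness: some `vM μ` does not vanish at an injective tuple. -/
theorem exists_vM_ne {α : Fin N → ℕ} (hα : Function.Injective α) {m : ℕ}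
    (hs : ∑ i, α i = stair N + m) :
    ∃ μ : Multiset ℕ, (∀ a ∈ μ, 0 < a) ∧ μ.sum = m ∧ vM N μ α ≠ 0 := by
  by_contra hcon
  push Not at hcon
  have h := eq_zero_of_orth m (anti_delta α) (onLev_delta hs) fun μ hμ hsum => by
    rw [ip_delta hs (anti_vM μ), hcon μ hμ hsum, mul_zero]
  have h1 := delta_self hα
  rw [h] at h1
  simp at h1

end Cfsg.Agent.SymBlocks
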