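import Cfsg.Agent.Lib.SymBlocks.Separation

/-!
# Conjugate partitions on the abacus: mirrored complements

With `2 * N` positions, the mirrored complement of a bead set corresponds to the conjugate
partition; `chi_mirror`: its character is the sign times the character, up to a constant.
-/

set_option autoImplicit false

open Finset

namespace Cfsg.Agent.SymBlocks

open Cfsg

variable {N n p : ℕ}

/-- Two tuples covering the positions below `2 * N`, one of them mirrored. -/
structure Mirrored (α β : Fin N → ℕ) : Prop where
  injA : Function.Injective α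
  injB : Function.Injective β
  ltA : ∀ i, α i < N + N
  ltB : ∀ i, β i < N + N
  ne : ∀ i j, α i + β j + 1 ≠ N + N

/-- The concatenation of a tuple with the mirror of another. -/
def joinTuple (α β : Fin N → ℕ) : Fin (N + N) → ℕ :=
  Fin.append α fun i => N + N - 1 - β i

theorem joinTuple_injective {α β : Fin N → ℕ} (h : Mirrored α β) :
    Function.Injective (joinTuple α β) := by
  intro a b hab
  induction a using Fin.addCases with
  | left a =>
    induction b using Fin.addCases with
    | left b =>
      simp only [joinTuple, Fin.append_left] at hab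
      rw [h.injA hab]
    | right b =>
      simp only [joinTuple, Fin.append_left, Fin.append_right] at hab
      have := h.ne a b
      have := h.ltB b
      omega
  | right a =>
    induction b using Fin.addCases with
    | left b =>
      simp only [joinTuple, Fin.append_left, Fin.append_right] at hab
      have := h.ne b a
      have := h.ltB a
      omega
    | right b =>
      simp only [joinTuple, Fin.append_right] at hab
      have := h.ltB a
      have := h.ltB b
      rw [h.injB (show β a = β b by omega)]

theorem joinTuple_lt {α β : Fin N → ℕ} (h : Mirrored α β) (a : Fin (N + N)) :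
    joinTuple α β a < N + N := by
  induction a using Fin.addCases with
  | left a => simpa [joinTuple] using h.ltA a
  | right a =>
    simp only [joinTuple, Fin.append_right]
    have := h.ltB a
    omega

theorem Mirrored.cover {α β : Fin N → ℕ} (h : Mirrored α β) {v : ℕ} (hv : v < N + N) :
    (∃ j, α j = v) ∨ ∃ i, β i + v + 1 = N + N := by
  have hbij : Function.Bijective fun a => (⟨joinTuple α β a, joinTuple_lt h a⟩ : Fin (N + N)) :=
    Finite.injective_iff_bijective.mp fun a b e => joinTuple_injective h (congrArg Fin.val e)
  obtain ⟨a, ha⟩ := hbij.2 ⟨v, hv⟩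
  have ha' : joinTuple α β a = v := congrArg Fin.val ha
  induction a using Fin.addCases with
  | left a => exact Or.inl ⟨a, by simpa [joinTuple] using ha'⟩
  | right a =>
    simp only [joinTuple, Fin.append_right] at ha'
    have := h.ltB a
    exact Or.inr ⟨a, by omega⟩

/-- The orientation of a mirrored pair. -/
noncomputable def orient (α β : Fin N → ℕ) : ℂ := base (N + N) (joinTuple α β)

/-- The orientation of the pair of staircases. -/
noncomputable def orient0 (N : ℕ) : ℂ := orient (N := N) (fun j => (j : ℕ)) (fun j => (j : ℕ))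

theorem orient_eq_perm {α β : Fin N → ℕ} (h : Mirrored α β) :
    ∃ Γ : Equiv.Perm (Fin (N + N)), (fun a => (Γ a : ℕ)) = joinTuple α β ∧
      orient α β = ((Equiv.Perm.sign Γ : ℤ) : ℂ) := by
  let Γ : Equiv.Perm (Fin (N + N)) :=
    Equiv.ofBijective (fun a => (⟨joinTuple α β a, joinTuple_lt h a⟩ : Fin (N + N)))
      (Finite.injective_iff_bijective.mp fun a b e => joinTuple_injective h (congrArg Fin.val e))
  have hΓ : (fun a => (Γ a : ℕ)) = joinTuple α β := rfl
  exact ⟨Γ, hΓ, by rw [orient, ← hΓ, base_perm]⟩

theorem orient_mul_self {α β : Fin N → ℕ} (h : Mirrored α β) : orient α β * orient α β = 1 := by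
  obtain ⟨Γ, -, hΓ⟩ := orient_eq_perm h
  rw [hΓ, ← Int.cast_mul, ← Units.val_mul, Int.units_mul_self]
  simp

/-- Moving one bead down by `k` moves one gap up: the orientation changes its sign. -/
theorem orient_move {α β : Fin N → ℕ} (h : Mirrored α β) {j i : Fin N} {k : ℕ} (hk : 1 ≤ k)
    (hj : k ≤ α j) (hi : β i + (α j - k) + 1 = N + N) :
    Mirrored (Function.update α j (α j - k)) (Function.update β i (β i - k)) ∧
      orient (Function.update α j (α j - k)) (Function.update β i (β i - k)) = -orient α β := by
  have hA : ∀ x, α x ≠ α j - k := fun x hx => h.ne x i (by omega)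
  have hB : ∀ y, β y ≠ β i - k := fun y hy => h.ne j y (by have := h.ltA j; omega)
  have hjlt := h.ltA j
  refine ⟨⟨?_, ?_, ?_, ?_, ?_⟩, ?_⟩
  · intro a b hab
    by_cases ha : a = j <;> by_cases hb : b = j
    · rw [ha, hb]
    · rw [ha, Function.update_self, Function.update_of_ne hb] at hab
      exact absurd hab.symm (hA b)
    · rw [hb, Function.update_self, Function.update_of_ne ha] at hab
      exact absurd hab (hA a)
    · rw [Function.update_of_ne ha, Function.update_of_ne hb] at hab
      exact h.injA hab
  · intro a b hab
    by_cases ha : a = i <;> by_cases hb : b = i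
    · rw [ha, hb]
    · rw [ha, Function.update_self, Function.update_of_ne hb] at hab
      exact absurd hab.symm (hB b)
    · rw [hb, Function.update_self, Function.update_of_ne ha] at hab
      exact absurd hab (hB a)
    · rw [Function.update_of_ne ha, Function.update_of_ne hb] at hab
      exact h.injB hab
  · intro a
    have := h.ltA a
    by_cases ha : a = j
    · subst ha
      rw [Function.update_self]
      omega
    · rwa [Function.update_of_ne ha]
  · intro a
    have := h.ltB a
    by_cases ha : a = i
    · subst ha
      rw [Function.update_self]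
      omega
    · rwa [Function.update_of_ne ha]
  · intro a b
    by_cases ha : a = j <;> by_cases hb : b = i
    · rw [ha, hb, Function.update_self, Function.update_self]
      omega
    · rw [ha, Function.update_self, Function.update_of_ne hb]
      intro e
      exact hb (h.injB (show β b = β i by omega))
    · rw [hb, Function.update_self, Function.update_of_ne ha]
      intro e
      exact ha (h.injA (show α a = α j by omega))
    · rw [Function.update_of_ne ha, Function.update_of_ne hb]
      exact h.ne a b
  · have hswap : joinTuple (Function.update α j (α j - k)) (Function.update β i (β i - k))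
        = joinTuple α β ∘ Equiv.swap (Fin.castAdd N j) (Fin.natAdd N i) := by
      have hne : Fin.castAdd N j ≠ Fin.natAdd N i := fun e => by
        have := congrArg Fin.val e
        simp at this
        omega
      funext a
      induction a using Fin.addCases with
      | left a =>
        simp only [joinTuple, Fin.append_left, Function.comp_apply]
        by_cases ha : a = j
        · subst ha
          rw [Function.update_self, Equiv.swap_apply_left, Fin.append_right]
          omega
        · rw [Function.update_of_ne ha, Equiv.swap_apply_of_ne_of_ne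
            (fun e => ha (Fin.castAdd_injective N N e)) (fun e => ?_), Fin.append_left]
          have := congrArg Fin.val e
          simp at this
          omega
      | right a =>
        simp only [joinTuple, Fin.append_right, Function.comp_apply]
        by_cases ha : a = i
        · subst ha
          rw [Function.update_self, Equiv.swap_apply_right, Fin.append_left]
          omega
        · rw [Function.update_of_ne ha, Equiv.swap_apply_of_ne_of_ne (fun e => ?_)
            (fun e => ha (Fin.natAdd_injective N N e)), Fin.append_right]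
          have := congrArg Fin.val e
          simp at this
          omega
    rw [orient, orient, hswap, anti_base, Equiv.Perm.sign_swap (fun e => by
      have := congrArg Fin.val e
      simp at this
      omega)]
    simp

theorem orient_stair (π ρ : Equiv.Perm (Fin N)) :
    orient (fun j => (π j : ℕ)) (fun j => (ρ j : ℕ))
      = ((Equiv.Perm.sign π : ℤ) : ℂ) * ((Equiv.Perm.sign ρ : ℤ) : ℂ) * orient0 N := by
  let T : Equiv.Perm (Fin (N + N)) := finSumFinEquiv.permCongr (Equiv.sumCongr π ρ)
  have hT : joinTuple (fun j => (π j : ℕ)) (fun j => (ρ j : ℕ))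
      = joinTuple (N := N) (fun j => (j : ℕ)) (fun j => (j : ℕ)) ∘ T := by
    funext a
    induction a using Fin.addCases with
    | left a => simp [joinTuple, T, Equiv.permCongr_apply]
    | right a =>
      simp only [joinTuple, T, Equiv.permCongr_apply, Function.comp_apply,
        finSumFinEquiv_symm_apply_natAdd, Equiv.sumCongr_apply, Sum.map_inr,
        finSumFinEquiv_apply_right, Fin.append_right]
  rw [orient, hT, anti_base, orient0, orient, Equiv.Perm.sign_permCongr, Equiv.Perm.sign_sumCongr,
    Units.val_mul, Int.cast_mul]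

/-- The mirrored tuple carries the sign-twisted value. -/
theorem vM_mirror (μ : Multiset ℕ) : ∀ (α β : Fin N → ℕ), (∀ a ∈ μ, 1 ≤ a) → Mirrored α β →
    vM N μ β = (-1 : ℂ) ^ μ.card * (orient α β * orient0 N) * vM N μ α := by
  classical
  induction μ using Multiset.induction_on with
  | empty =>
    intro α β _ h
    rw [vM_zero, Multiset.card_zero, pow_zero, one_mul]
    by_cases hα : ∀ j, α j < N
    · have hβ : ∀ i, β i < N := by
        intro i
        by_contra hn
        have hlt := h.ltB i
        let f : Fin N → Fin N := fun j => ⟨α j, hα j⟩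
        have hf : Function.Bijective f :=
          Finite.injective_iff_bijective.mp fun a b e => h.injA (congrArg Fin.val e)
        obtain ⟨j, hj⟩ := hf.2 ⟨N + N - 1 - β i, by omega⟩
        have hj' : α j = N + N - 1 - β i := congrArg Fin.val hj
        exact h.ne j i (by omega)
      let π : Equiv.Perm (Fin N) := Equiv.ofBijective (fun j => (⟨α j, hα j⟩ : Fin N))
        (Finite.injective_iff_bijective.mp fun a b e => h.injA (congrArg Fin.val e))
      let ρ : Equiv.Perm (Fin N) := Equiv.ofBijective (fun j => (⟨β j, hβ j⟩ : Fin N))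
        (Finite.injective_iff_bijective.mp fun a b e => h.injB (congrArg Fin.val e))
      have h0 : orient0 N * orient0 N = 1 := orient_mul_self
        ⟨Fin.val_injective, Fin.val_injective, fun i => by omega, fun i => by omega,
          fun i j => by omega⟩
      have hπ : α = fun j => (π j : ℕ) := rfl
      have hρ : β = fun j => (ρ j : ℕ) := rfl
      have hπ2 : ((Equiv.Perm.sign π : ℤ) : ℂ) * ((Equiv.Perm.sign π : ℤ) : ℂ) = 1 := by
        rw [← Int.cast_mul, ← Units.val_mul, Int.units_mul_self]
        simp
      rw [hπ, hρ, orient_stair, base_perm, base_perm]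
      linear_combination -(((Equiv.Perm.sign ρ : ℤ) : ℂ)) *
        (orient0 N * orient0 N * hπ2 + h0)
    · have hα0 : base N α = 0 := by
        refine Finset.sum_eq_zero fun π _ => if_neg fun hh => hα fun j => ?_
        rw [← hh j]
        exact (π j).isLt
      have hβ0 : base N β = 0 := by
        refine Finset.sum_eq_zero fun π _ => if_neg fun hh => hα fun j => ?_
        by_contra hn
        have hlt := h.ltA j
        obtain ⟨i, hi⟩ := π.surjective ⟨N + N - 1 - α j, by omega⟩
        have := hh i
        rw [hi] at this
        have h2 : β i = N + N - 1 - α j := this.symm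
        exact h.ne j i (by omega)
      rw [hα0, hβ0, mul_zero]
  | cons k s ih =>
    intro α β hpos h
    have hk : 1 ≤ k := hpos k (Multiset.mem_cons_self _ _)
    have hs : ∀ a ∈ s, 1 ≤ a := fun a ha => hpos a (Multiset.mem_cons_of_mem ha)
    rw [vM_cons, Multiset.card_cons, C, C, Finset.mul_sum]
    let FA := Finset.univ.filter fun j => k ≤ α j ∧ ∀ x, α x ≠ α j - k
    let FB := Finset.univ.filter fun i => k ≤ β i ∧ ∀ y, β y ≠ β i - k
    have hzero : ∀ (γ : Fin N → ℕ), ∀ j, (k ≤ γ j ∧ ¬ ∀ x, γ x ≠ γ j - k) →
        vM N s (Function.update γ j (γ j - k)) = 0 := by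
      intro γ j hj
      push Not at hj
      obtain ⟨hle, x, hx⟩ := hj
      refine (anti_vM s).zero_of_not_injective fun hinj => ?_
      have hxj : x ≠ j := fun e => by
        rw [e] at hx
        omega
      refine hxj (hinj ?_)
      rw [Function.update_of_ne hxj, Function.update_self, hx]
    rw [← Finset.sum_subset (Finset.subset_univ FB) fun i _ hi => ?_,
      ← Finset.sum_subset (Finset.subset_univ FA) fun j _ hj => ?_]
    rotate_left
    · split_ifs with hle
      · rw [hzero α j ⟨hle, fun hh => hj (Finset.mem_filter.mpr ⟨Finset.mem_univ _, hle, hh⟩)⟩,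
          mul_zero]
      · rw [mul_zero]
    · split_ifs with hle
      · exact hzero β i ⟨hle, fun hh => hi (Finset.mem_filter.mpr ⟨Finset.mem_univ _, hle, hh⟩)⟩
      · rfl
    have htarget : ∀ j ∈ FA, ∃ i, β i + (α j - k) + 1 = N + N := by
      intro j hj
      obtain ⟨-, hle, hne⟩ := Finset.mem_filter.mp hj
      rcases h.cover (v := α j - k) (by have := h.ltA j; omega) with ⟨x, hx⟩ | hi
      · exact absurd hx (hne x)
      · exact hi
    choose t ht using htarget
    symm
    refine Finset.sum_bij t ?_ ?_ ?_ ?_
    · intro j hj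
      obtain ⟨-, hle, -⟩ := Finset.mem_filter.mp hj
      have := ht j hj
      have := h.ltA j
      refine Finset.mem_filter.mpr ⟨Finset.mem_univ _, by omega, fun y hy => h.ne j y (by omega)⟩
    · intro a ha b hb hab
      obtain ⟨-, hla, -⟩ := Finset.mem_filter.mp ha
      obtain ⟨-, hlb, -⟩ := Finset.mem_filter.mp hb
      have e1 := ht a ha
      have e2 := ht b hb
      rw [hab] at e1
      exact h.injA (by omega)
    · intro i hi
      obtain ⟨-, hle, hne⟩ := Finset.mem_filter.mp hi
      have hlt := h.ltB i
      rcases h.cover (v := N + N - 1 - β i + k) (by omega) with ⟨j, hj⟩ | ⟨y, hy⟩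
      · have hjm : j ∈ FA := Finset.mem_filter.mpr ⟨Finset.mem_univ _, by omega,
          fun x hx => h.ne x i (by omega)⟩
        refine ⟨j, hjm, h.injB ?_⟩
        have := ht j hjm
        omega
      · exact absurd (show β y = β i - k by omega) (hne y)
    · intro j hj
      obtain ⟨-, hle, -⟩ := Finset.mem_filter.mp hj
      have hi := ht j hj
      have hlt := h.ltA j
      obtain ⟨hM', hE⟩ := orient_move h hk hle hi
      rw [if_pos hle, if_pos (show k ≤ β (t j hj) by omega), ih _ _ hs hM', hE, pow_succ]
      ring

theorem neg_one_pow_card_parts (σ : Equiv.Perm (Fin n)) :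
    (-1 : ℂ) ^ σ.partition.parts.card = (-1 : ℂ) ^ n * ((Equiv.Perm.sign σ : ℤ) : ℂ) := by
  have hle : σ.cycleType.sum ≤ n := by
    rw [Equiv.Perm.sum_cycleType]
    exact (Finset.card_le_univ _).trans (Fintype.card_fin n).le
  rw [Equiv.Perm.sign_of_cycleType, Equiv.Perm.parts_partition, Multiset.card_add,
    Multiset.card_replicate, Fintype.card_fin, ← Equiv.Perm.sum_cycleType]
  push_cast
  rw [← pow_add]
  have e : n + (σ.cycleType.sum + σ.cycleType.card)
      = (σ.cycleType.card + (n - σ.cycleType.sum)) + 2 * σ.cycleType.sum := by omega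
  rw [e, pow_add _ (σ.cycleType.card + (n - σ.cycleType.sum)), pow_mul, neg_one_sq, one_pow,
    mul_one]

/-- The sign character as a function. -/
noncomputable def sgnC (σ : Equiv.Perm (Fin n)) : ℂ := ((Equiv.Perm.sign σ : ℤ) : ℂ)

theorem chi_mirror {α β : Fin N → ℕ} (h : Mirrored α β) :
    ∃ e : ℂ, e * e = 1 ∧ ∀ σ : Equiv.Perm (Fin n), chi N β σ = e * sgnC σ * chi N α σ := by
  refine ⟨(-1 : ℂ) ^ n * (orient α β * orient0 N), ?_, fun σ => ?_⟩
  · have h1 := orient_mul_self h
    have h0 : orient0 N * orient0 N = 1 := orient_mul_self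
      ⟨Fin.val_injective, Fin.val_injective, fun i => by omega, fun i => by omega,
        fun i j => by omega⟩
    have h2 : ((-1 : ℂ) ^ n) * ((-1 : ℂ) ^ n) = 1 := by
      rw [← mul_pow]
      norm_num
    linear_combination (orient α β * orient α β * (orient0 N * orient0 N)) * h2
      + (orient0 N * orient0 N) * h1 + h0
  · rw [chi, vM_mirror _ α β (fun a ha => parts_pos σ ha) h, neg_one_pow_card_parts, sgnC, chi]
    ring

/-! ### Mirroring bead sets -/

/-- The mirrored complement below `N + N`. -/
def mirrorSet (N : ℕ) (S : Finset ℕ) : Finset ℕ :=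
  (Finset.range (N + N) \ S).image fun y => N + N - 1 - y

theorem mem_mirrorSet {S : Finset ℕ} {x : ℕ} :
    x ∈ mirrorSet N S ↔ x < N + N ∧ N + N - 1 - x ∉ S := by
  simp only [mirrorSet, Finset.mem_image, Finset.mem_sdiff, Finset.mem_range]
  constructor
  · rintro ⟨y, ⟨hy, hyS⟩, rfl⟩
    refine ⟨by omega, ?_⟩
    rwa [show N + N - 1 - (N + N - 1 - y) = y by omega]
  · rintro ⟨hx, hxS⟩
    exact ⟨N + N - 1 - x, ⟨by omega, hxS⟩, by omega⟩

theorem mirrorSet_mirrorSet {S : Finset ℕ} (h : ∀ x ∈ S, x < N + N) :
    mirrorSet N (mirrorSet N S) = S := by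
  ext x
  simp only [mem_mirrorSet, not_and, not_not]
  constructor
  · rintro ⟨hx, hh⟩
    have := hh (by omega)
    rwa [show N + N - 1 - (N + N - 1 - x) = x by omega] at this
  · intro hx
    refine ⟨h x hx, fun _ => ?_⟩
    rwa [show N + N - 1 - (N + N - 1 - x) = x by have := h x hx; omega]

theorem card_mirrorSet {S : Finset ℕ} (h : ∀ x ∈ S, x < N + N) (hc : S.card = N) :
    (mirrorSet N S).card = N := by
  rw [mirrorSet, Finset.card_image_of_injOn, Finset.card_sdiff_of_subset, Finset.card_range, hc]
  · omega
  · exact fun x hx => Finset.mem_range.mpr (h x hx)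
  · intro a ha b hb hab
    simp only [Finset.coe_sdiff, Set.mem_sdiff, Finset.coe_range, Set.mem_Iio] at ha hb
    simp only at hab
    omega

theorem sum_mirrorSet {S : Finset ℕ} (h : ∀ x ∈ S, x < N + N) (hc : S.card = N) :
    ∑ x ∈ mirrorSet N S, x = ∑ x ∈ S, x := by
  have h1 : ∑ x ∈ mirrorSet N S, x = ∑ y ∈ Finset.range (N + N) \ S, (N + N - 1 - y) := by
    rw [mirrorSet, Finset.sum_image]
    intro a ha b hb hab
    simp only [Finset.coe_sdiff, Set.mem_sdiff, Finset.coe_range, Set.mem_Iio] at ha hb
    simp only at hab
    omega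
  have hsub : S ⊆ Finset.range (N + N) := fun x hx => Finset.mem_range.mpr (h x hx)
  have h2 : ∑ y ∈ Finset.range (N + N) \ S, (N + N - 1 - y)
      + ∑ y ∈ Finset.range (N + N) \ S, y = N * (N + N - 1) := by
    rw [← Finset.sum_add_distrib, Finset.sum_congr rfl (g := fun _ => N + N - 1) fun y hy => by
      have := Finset.mem_range.mp (Finset.mem_sdiff.mp hy).1
      omega, Finset.sum_const, Finset.card_sdiff_of_subset hsub, Finset.card_range, hc,
      Nat.add_sub_cancel, smul_eq_mul]
  have h3 := Finset.sum_sdiff (f := fun y : ℕ => y) hsub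
  have h4 := Finset.sum_range_id_mul_two (N + N)
  have h5 : (N + N) * (N + N - 1) = N * (N + N - 1) + N * (N + N - 1) := by ring
  omega

theorem cnt_le_range {S : Finset ℕ} (h : ∀ x ∈ S, x < N + N) (r : ℕ) :
    (mirrorSet N S).filter (fun x => x % p = r) =
      ((Finset.range (N + N)).filter (fun y => (N + N - 1 - y) % p = r) \ S).image
        fun y => N + N - 1 - y := by
  have := h
  ext x
  simp only [Finset.mem_filter, mem_mirrorSet, Finset.mem_image, Finset.mem_sdiff, Finset.mem_range]
  constructor
  · rintro ⟨⟨hx, hxS⟩, hr⟩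
    refine ⟨N + N - 1 - x, ⟨⟨by omega, ?_⟩, hxS⟩, by omega⟩
    rwa [show N + N - 1 - (N + N - 1 - x) = x by omega]
  · rintro ⟨y, ⟨⟨hy, hr⟩, hyS⟩, rfl⟩
    refine ⟨⟨by omega, ?_⟩, hr⟩
    rwa [show N + N - 1 - (N + N - 1 - y) = y by omega]

theorem card_filter_mod_eq {S T : Finset ℕ} (hp : 0 < p) (h : cntS p S = cntS p T)
    (P : ℕ → Prop) [DecidablePred P] :
    (S.filter fun x => P (x % p)).card = (T.filter fun x => P (x % p)).card := by
  have key : ∀ U : Finset ℕ, (U.filter fun x => P (x % p)).card
      = ∑ r ∈ (Finset.range p).filter P, cntS p U r := by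
    intro U
    rw [Finset.card_eq_sum_card_fiberwise (f := fun x => x % p) (t := (Finset.range p).filter P)
      fun x hx => Finset.mem_filter.mpr
        ⟨Finset.mem_range.mpr (Nat.mod_lt _ hp), (Finset.mem_filter.mp hx).2⟩]
    refine Finset.sum_congr rfl fun r hr => ?_
    rw [cntS, Finset.filter_filter]
    refine congrArg Finset.card (Finset.filter_congr fun x _ => ?_)
    exact ⟨fun hh => hh.2, fun hh => ⟨by show P (x % p); rw [hh]; exact (Finset.mem_filter.mp hr).2, hh⟩⟩
  rw [key, key, h]

theorem mirror_mod_congr {x y : ℕ} (hx : x < N + N) (hy : y < N + N) (h : x % p = y % p) :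
    (N + N - 1 - x) % p = (N + N - 1 - y) % p :=
  Nat.ModEq.add_right_cancel (n := p) h (by
    rw [Nat.sub_add_cancel (by omega : x ≤ N + N - 1),
      Nat.sub_add_cancel (by omega : y ≤ N + N - 1)])

theorem cntS_mirrorSet_congr {S T : Finset ℕ} (hp : 0 < p) (hS : ∀ x ∈ S, x < N + N)
    (hT : ∀ x ∈ T, x < N + N) (h : cntS p S = cntS p T) :
    cntS p (mirrorSet N S) = cntS p (mirrorSet N T) := by
  classical
  funext r
  have key : ∀ U : Finset ℕ, (∀ x ∈ U, x < N + N) → cntS p (mirrorSet N U) r
      = ((Finset.range (N + N)).filter fun y => (N + N - 1 - y) % p = r).card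
        - (U.filter fun y => ∃ z < N + N, (N + N - 1 - z) % p = r ∧ z % p = y % p).card := by
    intro U hU
    rw [cntS, cnt_le_range hU, Finset.card_image_of_injOn, Finset.card_sdiff]
    · congr 2
      ext y
      simp only [Finset.mem_inter, Finset.mem_filter, Finset.mem_range]
      constructor
      · rintro ⟨hyU, hy, hr⟩
        exact ⟨hyU, y, hy, hr, rfl⟩
      · rintro ⟨hyU, z, hz, hr, hzy⟩
        exact ⟨hyU, hU y hyU, by rw [← mirror_mod_congr hz (hU y hyU) hzy, hr]⟩
    · intro a ha b hb hab
      simp only [Finset.coe_sdiff, Set.mem_sdiff, Finset.coe_filter, Set.mem_ofPred_eq,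
        Finset.mem_range] at ha hb
      simp only at hab
      omega
  rw [key S hS, key T hT, card_filter_mod_eq hp h
    (fun s => ∃ z < N + N, (N + N - 1 - z) % p = r ∧ z % p = s)]

theorem down_mirrorSet {S : Finset ℕ} (r : ℕ)
    (hS : ∀ y, y < N + N → (N + N - 1 - y) % p = r → Down p S (y % p)) :
    Down p (mirrorSet N S) r := by
  intro x hx hxr hpx
  rw [mem_mirrorSet] at hx ⊢
  refine ⟨by omega, fun hy => ?_⟩
  have hlt : N + N - 1 - (x - p) < N + N := by omega
  have h1 := hS _ hlt (by
    rw [show N + N - 1 - (N + N - 1 - (x - p)) = x - p by omega, sub_mod_self_right hpx, hxr])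
    _ hy rfl (by omega)
  rw [show N + N - 1 - (x - p) - p = N + N - 1 - x by omega] at h1
  exact hx.2 h1

theorem mirrored_tupleOf {α : Fin N → ℕ} (hα : Function.Injective α) (hlt : ∀ i, α i < N + N)
    {β : Fin N → ℕ} (hβ : Function.Injective β)
    (himg : Finset.univ.image β = mirrorSet N (Finset.univ.image α)) : Mirrored α β := by
  have hb : ∀ i, β i < N + N ∧ N + N - 1 - β i ∉ Finset.univ.image α := fun i => by
    rw [← mem_mirrorSet, ← himg]
    exact Finset.mem_image_of_mem _ (Finset.mem_univ i)
  refine ⟨hα, hβ, hlt, fun i => (hb i).1, fun i j e => (hb j).2 ?_⟩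
  rw [show N + N - 1 - β j = α i by omega]
  exact Finset.mem_image_of_mem _ (Finset.mem_univ i)

theorem lt_of_level {α : Fin N → ℕ} (hα : Function.Injective α)
    (hs : ∑ i, α i = stair N + n) (hn : n ≤ N) (i : Fin N) : α i < N + N := by
  by_contra hlt
  have h1 := sum_range_card_le ((Finset.univ.erase i).image α)
  rw [Finset.card_image_of_injective _ hα, Finset.card_erase_of_mem (Finset.mem_univ i),
    Finset.card_fin, Finset.sum_image hα.injOn] at h1
  have h2 := Finset.sum_erase_add Finset.univ α (Finset.mem_univ i)
  have h3 : stair N = (∑ x ∈ Finset.range (N - 1), x) + (N - 1) := by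
    rw [stair_eq]
    have hN : N = N - 1 + 1 := by have := i.isLt; omega
    conv_lhs => rw [hN, Finset.sum_range_succ]
  have := i.isLt
  omega

end Cfsg.Agent.SymBlocks
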