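import Mathlib
import Cfsg.Agent.EqLemmas

/-!
# Antisymmetric functions on exponent tuples: adding and removing strips

Functions on `Fin N → ℕ` (exponent tuples of antisymmetric polynomials in `N` variables).
`C k` is multiplication by the `k`-th power sum, `d k` its adjoint. `vM μ` is the coefficient
function of `Δ · p_μ`, whose values are the character values of the symmetric group.
-/

set_option autoImplicit false

open Finset Equiv

namespace Cfsg.Agent.SymBlocks

variable {N : ℕ}

/-- Complex functions on exponent tuples. -/
abbrev Fn (N : ℕ) : Type := (Fin N → ℕ) → ℂ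

/-- Antisymmetric functions. -/
def Anti (f : Fn N) : Prop :=
  ∀ (α : Fin N → ℕ) (π : Equiv.Perm (Fin N)), f (α ∘ π) = ((Equiv.Perm.sign π : ℤ) : ℂ) * f α

theorem Anti.zero_of_not_injective {f : Fn N} (h : Anti f) {α : Fin N → ℕ}
    (hα : ¬ Function.Injective α) : f α = 0 := by
  simp only [Function.Injective, not_forall] at hα
  obtain ⟨i, j, hij, hne⟩ := hα
  have h1 : α ∘ Equiv.swap i j = α := by
    funext x
    simp only [Function.comp_apply, Equiv.swap_apply_def]
    split_ifs with h1 h2
    · rw [h1, hij]
    · rw [h2, hij]
    · rfl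
  have h2 := h α (Equiv.swap i j)
  rw [h1, Equiv.Perm.sign_swap hne, Units.val_neg, Units.val_one, Int.cast_neg, Int.cast_one,
    neg_one_mul] at h2
  linear_combination h2 / 2

theorem Anti.injective_of_ne {f : Fn N} (h : Anti f) {α : Fin N → ℕ} (hα : f α ≠ 0) :
    Function.Injective α := by
  by_contra hn
  exact hα (h.zero_of_not_injective hn)

/-- The total of the staircase. -/
def stair (N : ℕ) : ℕ := ∑ i : Fin N, (i : ℕ)

/-- Functions supported at level `m`. -/
def OnLev (m : ℕ) (f : Fn N) : Prop := ∀ α, f α ≠ 0 → ∑ i, α i = stair N + m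

/-- The tuples of level `m`. -/
def lev (N m : ℕ) : Finset (Fin N → ℕ) := Finset.univ.piAntidiag (stair N + m)

theorem mem_lev {m : ℕ} {α : Fin N → ℕ} : α ∈ lev N m ↔ ∑ i, α i = stair N + m := by
  simp [lev]

theorem sum_update_add (α : Fin N → ℕ) (j : Fin N) (x : ℕ) :
    (∑ i, Function.update α j x i) + α j = (∑ i, α i) + x := by
  rw [Finset.sum_update_of_mem (Finset.mem_univ j), Finset.sdiff_singleton_eq_erase,
    ← Finset.sum_erase_add Finset.univ α (Finset.mem_univ j)]
  ring

theorem sum_range_card_le (S : Finset ℕ) : ∑ x ∈ Finset.range S.card, x ≤ ∑ x ∈ S, x := by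
  induction S using Finset.induction_on_max with
  | empty => simp
  | insert a s ha ih =>
    have has : a ∉ s := fun h => lt_irrefl a (ha a h)
    have hsub : s ⊆ Finset.range a := fun x hx => Finset.mem_range.mpr (ha x hx)
    have hle := Finset.card_le_card hsub
    rw [Finset.card_range] at hle
    rw [Finset.card_insert_of_notMem has, Finset.sum_range_succ, Finset.sum_insert has]
    omega

theorem stair_eq (N : ℕ) : stair N = ∑ x ∈ Finset.range N, x :=
  Fin.sum_univ_eq_sum_range (fun x => x) N

theorem stair_le {α : Fin N → ℕ} (hα : Function.Injective α) : stair N ≤ ∑ i, α i := by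
  have h := sum_range_card_le (Finset.univ.image α)
  rwa [Finset.card_image_of_injective _ hα, Finset.card_fin, Finset.sum_image hα.injOn,
    ← stair_eq] at h

/-- An injective tuple of small level contains all small values. -/
theorem exists_eq_of_level {M : ℕ} {α : Fin N → ℕ} (hα : Function.Injective α)
    (hs : ∑ i, α i = stair N + M) {v : ℕ} (hv : v + M < N) : ∃ i, α i = v := by
  by_contra hn
  push Not at hn
  set β : Fin N → ℕ := fun i => if v < α i then α i - 1 else α i with hβdef
  have hβ : Function.Injective β := by
    intro i j hij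
    apply hα
    simp only [hβdef] at hij
    have := hn i
    have := hn j
    split_ifs at hij <;> omega
  have hsum : ∑ i, α i = (∑ i, β i) + (Finset.univ.filter fun i => v < α i).card := by
    rw [Finset.card_filter, ← Finset.sum_add_distrib]
    refine Finset.sum_congr rfl fun i _ => ?_
    simp only [hβdef]
    split_ifs <;> omega
  have hlow : (Finset.univ.filter fun i => ¬ v < α i).card ≤ v := by
    have h1 : (Finset.univ.filter fun i => ¬ v < α i).image α ⊆ Finset.range v := by
      intro x hx
      obtain ⟨i, hi, rfl⟩ := Finset.mem_image.mp hx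
      have := (Finset.mem_filter.mp hi).2
      have := hn i
      exact Finset.mem_range.mpr (by omega)
    have h2 := Finset.card_le_card h1
    rwa [Finset.card_image_of_injective _ hα, Finset.card_range] at h2
  have htot := Finset.card_filter_add_card_filter_not (s := (Finset.univ : Finset (Fin N)))
    (fun i => v < α i)
  rw [Finset.card_fin] at htot
  have := stair_le hβ
  omega

/-- Multiplication by the `k`-th power sum. -/
noncomputable def C (k : ℕ) (f : Fn N) : Fn N := fun α =>
  ∑ j, if k ≤ α j then f (Function.update α j (α j - k)) else 0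

/-- The adjoint of `C k`. -/
noncomputable def d (k : ℕ) (f : Fn N) : Fn N := fun α =>
  ∑ j, f (Function.update α j (α j + k))

theorem update_comp (α : Fin N → ℕ) (π : Equiv.Perm (Fin N)) (j : Fin N) (x : ℕ) :
    Function.update (α ∘ π) j x = Function.update α (π j) x ∘ π := by
  funext i
  simp only [Function.update_apply, Function.comp_apply, π.injective.eq_iff]

theorem anti_C {f : Fn N} (hf : Anti f) (k : ℕ) : Anti (C k f) := by
  intro α π
  rw [C, C, Finset.mul_sum]
  refine Fintype.sum_equiv π _ _ fun j => ?_
  simp only [Function.comp_apply]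
  split_ifs with h
  · rw [update_comp, hf]
  · rw [mul_zero]

theorem anti_d {f : Fn N} (hf : Anti f) (k : ℕ) : Anti (d k f) := by
  intro α π
  rw [d, d, Finset.mul_sum]
  refine Fintype.sum_equiv π _ _ fun j => ?_
  simp only [Function.comp_apply]
  rw [update_comp, hf]

theorem onLev_C {f : Fn N} {m : ℕ} (hf : OnLev m f) (k : ℕ) : OnLev (m + k) (C k f) := by
  intro α hα
  obtain ⟨j, -, hj⟩ := Finset.exists_ne_zero_of_sum_ne_zero hα
  split_ifs at hj with h
  · have h1 := hf _ hj
    have h2 := sum_update_add α j (α j - k)
    omega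
  · exact absurd rfl hj

theorem C_smul (k : ℕ) (c : ℂ) (f : Fn N) : C k (c • f) = c • C k f := by
  funext α
  simp only [C, Pi.smul_apply, smul_eq_mul, Finset.mul_sum]
  refine Finset.sum_congr rfl fun j _ => ?_
  split_ifs <;> simp

theorem C_comm (a b : ℕ) (f : Fn N) : C a (C b f) = C b (C a f) := by
  funext α
  simp only [C]
  have key : ∀ (a b : ℕ), (∑ j, if a ≤ α j then ∑ i, (if b ≤ Function.update α j (α j - a) i then
        f (Function.update (Function.update α j (α j - a)) i
          (Function.update α j (α j - a) i - b)) else 0) else 0) =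
      ∑ j, ∑ i, if i = j then (if a + b ≤ α j then f (Function.update α j (α j - (a + b))) else 0)
        else (if a ≤ α j ∧ b ≤ α i then
          f (Function.update (Function.update α j (α j - a)) i (α i - b)) else 0) := by
    intro a b
    refine Finset.sum_congr rfl fun j _ => ?_
    by_cases ha : a ≤ α j
    · rw [if_pos ha]
      refine Finset.sum_congr rfl fun i _ => ?_
      by_cases hij : i = j
      · subst hij
        rw [if_pos rfl, Function.update_self]
        by_cases hb : b ≤ α i - a
        · rw [if_pos hb, if_pos (by omega), Function.update_idem, Nat.sub_sub]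
        · rw [if_neg hb, if_neg (by omega)]
      · rw [if_neg hij, Function.update_of_ne hij]
        simp only [ha, true_and]
    · rw [if_neg ha]
      refine (Finset.sum_eq_zero fun i _ => ?_).symm
      by_cases hij : i = j
      · rw [if_pos hij, if_neg (by omega)]
      · rw [if_neg hij, if_neg (fun h => ha h.1)]
  rw [key a b, key b a]
  conv_rhs => rw [Finset.sum_comm]
  refine Finset.sum_congr rfl fun j _ => Finset.sum_congr rfl fun i _ => ?_
  by_cases hij : i = j
  · subst hij
    simp [Nat.add_comm a b]
  · rw [if_neg hij, if_neg (Ne.symm hij), Function.update_comm (Ne.symm hij)]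
    simp only [and_comm]

/-- The commutation of adding and removing strips, at small level. -/
theorem d_C {f : Fn N} (hf : Anti f) {M k l : ℕ} (hlev : OnLev M f) (hl : l + M ≤ N)
    (α : Fin N → ℕ) :
    d k (C l f) α = C l (d k f) α + if k = l then (k : ℂ) * f α else 0 := by
  classical
  by_cases hα : Function.Injective α
  swap
  · rw [(anti_d (anti_C hf l) k).zero_of_not_injective hα,
      (anti_C (anti_d hf k) l).zero_of_not_injective hα, hf.zero_of_not_injective hα]
    simp
  have hdiff : d k (C l f) α = C l (d k f) α + ∑ i, (if α i < l ∧ l ≤ α i + k then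
      f (Function.update α i (α i + k - l)) else 0) := by
    simp only [d, C]
    have e1 : ∀ i, (∑ j, if l ≤ Function.update α i (α i + k) j then
          f (Function.update (Function.update α i (α i + k)) j
            (Function.update α i (α i + k) j - l)) else 0) =
        ∑ j, ((if l ≤ α j then f (Function.update (Function.update α j (α j - l)) i
            (Function.update α j (α j - l) i + k)) else 0) +
          (if j = i ∧ (α i < l ∧ l ≤ α i + k) then f (Function.update α i (α i + k - l))
            else 0)) := by
      intro i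
      refine Finset.sum_congr rfl fun j _ => ?_
      by_cases hji : j = i
      · subst hji
        simp only [Function.update_self, Function.update_idem, true_and]
        by_cases h1 : l ≤ α j
        · rw [if_pos h1, if_pos (by omega), if_neg (by omega), add_zero]
          congr 2
          omega
        · rw [if_neg h1, zero_add]
          by_cases h2 : l ≤ α j + k
          · rw [if_pos h2, if_pos ⟨by omega, h2⟩]
          · rw [if_neg h2, if_neg (fun h => h2 h.2)]
      · rw [Function.update_of_ne hji, Function.update_of_ne (Ne.symm hji),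
          Function.update_comm hji, if_neg (c := j = i ∧ _) (fun h => hji h.1), add_zero]
    simp only [e1, Finset.sum_add_distrib]
    congr 1
    · rw [Finset.sum_comm]
      refine Finset.sum_congr rfl fun j _ => ?_
      by_cases hj : l ≤ α j <;> simp [hj]
    · refine Finset.sum_congr rfl fun i _ => ?_
      rw [Finset.sum_eq_single i]
      · simp
      · intro b _ hb
        rw [if_neg fun h => hb h.1]
      · simp
  rw [hdiff]
  congr 1
  by_cases hkl : k = l
  · subst hkl
    rw [if_pos rfl]
    have h1 : ∀ i, Function.update α i (α i + k - k) = α := fun i => by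
      rw [Nat.add_sub_cancel, Function.update_eq_self]
    simp only [h1, Nat.le_add_left, and_true]
    by_cases h0 : f α = 0
    · simp [h0]
    rw [← Finset.sum_filter, Finset.sum_const, nsmul_eq_mul]
    suffices hc : (Finset.univ.filter fun i => α i < k).card = k by rw [hc]
    have h2 : (Finset.univ.filter fun i => α i < k).image α = Finset.range k := by
      ext x
      simp only [Finset.mem_image, Finset.mem_filter, Finset.mem_univ, true_and, Finset.mem_range]
      constructor
      · rintro ⟨i, hi, rfl⟩
        exact hi
      · intro hx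
        obtain ⟨i, hi⟩ := exists_eq_of_level hα (hlev α h0) (v := x) (by omega)
        exact ⟨i, hi ▸ hx, hi⟩
    exact (Finset.card_image_of_injective _ hα).symm.trans (h2 ▸ Finset.card_range k)
  · rw [if_neg hkl]
    refine Finset.sum_eq_zero fun i _ => ?_
    split_ifs with h
    · by_contra h0
      obtain ⟨j, hj⟩ := exists_eq_of_level (hf.injective_of_ne h0) (hlev _ h0) (v := α i) (by omega)
      by_cases hji : j = i
      · subst hji
        rw [Function.update_self] at hj
        omega
      · rw [Function.update_of_ne hji] at hj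
        exact hji (hα hj)
    · rfl

/-- The antisymmetrised staircase. -/
noncomputable def base (N : ℕ) : Fn N := fun α =>
  ∑ π : Equiv.Perm (Fin N),
    if ∀ j, (π j : ℕ) = α j then ((Equiv.Perm.sign π : ℤ) : ℂ) else 0

theorem base_perm (π₀ : Equiv.Perm (Fin N)) :
    base N (fun j => (π₀ j : ℕ)) = ((Equiv.Perm.sign π₀ : ℤ) : ℂ) := by
  rw [base, Finset.sum_eq_single π₀]
  · simp
  · intro π _ hπ
    rw [if_neg]
    exact fun h => hπ (Equiv.ext fun j => Fin.ext (h j))
  · simp

theorem anti_base : Anti (base N) := by
  intro α σ
  rw [base, base, Finset.mul_sum]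
  refine Fintype.sum_equiv (Equiv.mulRight σ⁻¹) _ _ fun π => ?_
  have hiff : (∀ j, (π j : ℕ) = (α ∘ σ) j) ↔ ∀ j, (((π * σ⁻¹) j : Fin N) : ℕ) = α j := by
    constructor
    · intro h j
      have h1 := h (σ⁻¹ j)
      simpa [Equiv.Perm.mul_apply] using h1
    · intro h j
      have h1 := h (σ j)
      simpa [Equiv.Perm.mul_apply] using h1
  by_cases h : ∀ j, (π j : ℕ) = (α ∘ σ) j
  · rw [if_pos h, if_pos (show ∀ j, ((Equiv.mulRight σ⁻¹ π j : Fin N) : ℕ) = α j from hiff.mp h),
      show Equiv.mulRight σ⁻¹ π = π * σ⁻¹ from rfl, map_mul, Equiv.Perm.sign_inv, Units.val_mul,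
      Int.cast_mul]
    rw [mul_left_comm, ← Int.cast_mul, ← Units.val_mul, Int.units_mul_self]
    simp
  · rw [if_neg h, if_neg (show ¬ ∀ j, ((Equiv.mulRight σ⁻¹ π j : Fin N) : ℕ) = α j from
      fun h' => h (hiff.mpr h')), mul_zero]

theorem onLev_base : OnLev 0 (base N) := by
  intro α hα
  obtain ⟨π, -, hπ⟩ := Finset.exists_ne_zero_of_sum_ne_zero hα
  split_ifs at hπ with h
  · rw [add_zero, stair, ← Fintype.sum_equiv π (fun j => ((π j : Fin N) : ℕ)) _ fun _ => rfl]
    exact Finset.sum_congr rfl fun j _ => (h j).symm
  · exact absurd rfl hπ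

instance : LeftCommutative (C (N := N)) := ⟨C_comm⟩

/-- The coefficient function of `Δ · p_μ`. -/
noncomputable def vM (N : ℕ) (μ : Multiset ℕ) : Fn N := μ.foldr C (base N)

@[simp] theorem vM_zero : vM N 0 = base N := Multiset.foldr_zero _ _

@[simp] theorem vM_cons (k : ℕ) (μ : Multiset ℕ) : vM N (k ::ₘ μ) = C k (vM N μ) :=
  Multiset.foldr_cons _ _ _ _

theorem anti_vM (μ : Multiset ℕ) : Anti (vM N μ) := by
  induction μ using Multiset.induction_on with
  | empty => simpa using anti_base
  | cons a s ih => simpa using anti_C ih a

theorem onLev_vM (μ : Multiset ℕ) : OnLev μ.sum (vM N μ) := by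
  induction μ using Multiset.induction_on with
  | empty => simpa using onLev_base
  | cons a s ih =>
    rw [vM_cons, Multiset.sum_cons, add_comm]
    exact onLev_C ih a

theorem d_base {k : ℕ} (hk : 1 ≤ k) : d k (base N) = 0 := by
  funext α
  by_cases hα : Function.Injective α
  · refine Finset.sum_eq_zero fun j _ => ?_
    by_contra h
    have h1 := onLev_base _ h
    have h2 := sum_update_add α j (α j + k)
    have := stair_le hα
    omega
  · exact (anti_d anti_base k).zero_of_not_injective hα

theorem d_vM {k : ℕ} (hk : 1 ≤ k) (μ : Multiset ℕ) (hμ : μ.sum ≤ N) :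
    d k (vM N μ) = ((k : ℂ) * (μ.count k : ℕ)) • vM N (μ.erase k) := by
  induction μ using Multiset.induction_on with
  | empty => simp [d_base hk]
  | cons l s ih =>
    rw [Multiset.sum_cons] at hμ
    have ih' := ih (by omega)
    funext α
    rw [vM_cons, d_C (anti_vM s) (onLev_vM s) (by omega), ih', C_smul]
    simp only [Pi.smul_apply, smul_eq_mul]
    by_cases hkl : k = l
    · subst hkl
      rw [if_pos rfl, Multiset.erase_cons_head, Multiset.count_cons_self]
      by_cases hmem : k ∈ s
      · rw [← vM_cons, Multiset.cons_erase hmem]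
        push_cast
        ring
      · rw [Multiset.count_eq_zero_of_notMem hmem]
        simp
    · rw [if_neg hkl, add_zero, Multiset.erase_cons_tail _ (Ne.symm hkl), vM_cons,
        Multiset.count_cons_of_ne hkl]

/-- The bilinear form at level `m`. -/
noncomputable def ip (m : ℕ) (f g : Fn N) : ℂ := ∑ α ∈ lev N m, f α * g α

theorem ip_C (m k : ℕ) (f g : Fn N) : ip (m + k) (C k f) g = ip m f (d k g) := by
  simp only [ip, C, d, Finset.sum_mul, Finset.mul_sum]
  rw [Finset.sum_comm, Finset.sum_comm (s := lev N m)]
  refine Finset.sum_congr rfl fun j _ => ?_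
  simp only [ite_mul, zero_mul]
  rw [← Finset.sum_filter]
  refine Finset.sum_nbij' (fun α => Function.update α j (α j - k))
    (fun β => Function.update β j (β j + k)) ?_ ?_ ?_ ?_ ?_
  · intro α hα
    rw [Finset.mem_filter, mem_lev] at hα
    have h2 := sum_update_add α j (α j - k)
    rw [mem_lev]
    omega
  · intro β hβ
    rw [mem_lev] at hβ
    have h2 := sum_update_add β j (β j + k)
    rw [Finset.mem_filter, mem_lev, Function.update_self]
    omega
  · intro α hα
    rw [Finset.mem_filter] at hα
    simp [Nat.sub_add_cancel hα.2]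
  · intro β _
    simp
  · intro α hα
    rw [Finset.mem_filter] at hα
    simp [Nat.sub_add_cancel hα.2]

theorem ip_base {g : Fn N} (hg : Anti g) :
    ip 0 (base N) g = (N.factorial : ℂ) * g (fun j => (j : ℕ)) := by
  simp only [ip, base, Finset.sum_mul, ite_mul, zero_mul]
  rw [Finset.sum_comm]
  have h1 : ∀ π : Equiv.Perm (Fin N), (∑ α ∈ lev N 0, if ∀ j, (π j : ℕ) = α j then
      ((Equiv.Perm.sign π : ℤ) : ℂ) * g α else 0) = g (fun j => (j : ℕ)) := by
    intro π
    rw [Finset.sum_eq_single fun j => (π j : ℕ)]
    · rw [if_pos fun _ => rfl,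
        show (fun j => (π j : ℕ)) = (fun j : Fin N => (j : ℕ)) ∘ π from rfl, hg, ← mul_assoc,
        ← Int.cast_mul, ← Units.val_mul, Int.units_mul_self]
      simp
    · intro α _ hα
      rw [if_neg fun h => hα (funext fun j => (h j).symm)]
    · intro h
      exact absurd (mem_lev.mpr (by
        rw [add_zero, stair]
        exact Fintype.sum_equiv π _ _ fun _ => rfl)) h
  rw [Finset.sum_congr rfl fun π _ => h1 π, Finset.sum_const, Finset.card_univ,
    Fintype.card_perm, Fintype.card_fin, nsmul_eq_mul]

/-- The order of the centraliser of a permutation with cycle lengths `μ`. -/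
def zConst (μ : Multiset ℕ) : ℕ := μ.prod * ∏ a ∈ μ.toFinset, (μ.count a).factorial

theorem zConst_cons (k : ℕ) (μ : Multiset ℕ) :
    zConst (k ::ₘ μ) = k * (μ.count k + 1) * zConst μ := by
  classical
  have h1 : ∏ a ∈ μ.toFinset, (μ.count a).factorial
      = ∏ a ∈ insert k μ.toFinset, (μ.count a).factorial := by
    refine Finset.prod_subset (Finset.subset_insert _ _) fun a _ ha => ?_
    rw [Multiset.count_eq_zero_of_notMem (fun h => ha (Multiset.mem_toFinset.mpr h)),
      Nat.factorial_zero]
  rw [zConst, zConst, Multiset.toFinset_cons, Multiset.prod_cons, h1,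
    ← Finset.mul_prod_erase _ _ (Finset.mem_insert_self k μ.toFinset),
    ← Finset.mul_prod_erase _ (fun a => (μ.count a).factorial)
      (Finset.mem_insert_self k μ.toFinset),
    Multiset.count_cons_self, Nat.factorial_succ]
  rw [Finset.prod_congr rfl (fun a ha => by
    rw [Multiset.count_cons_of_ne (Finset.ne_of_mem_erase ha)])]
  ring

theorem ip_vM (μ : Multiset ℕ) : ∀ (ν : Multiset ℕ), (∀ a ∈ μ, 0 < a) → (∀ a ∈ ν, 0 < a) →
    μ.sum = ν.sum → μ.sum ≤ N →
    ip μ.sum (vM N μ) (vM N ν) = if μ = ν then (N.factorial * zConst μ : ℕ) else 0 := by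
  induction μ using Multiset.induction_on with
  | empty =>
    intro ν _ hν hs _
    have hν0 : ν = 0 := by
      refine Multiset.eq_zero_of_forall_notMem fun a ha => ?_
      have := Multiset.le_sum_of_mem ha
      have := hν a ha
      rw [Multiset.sum_zero] at hs
      omega
    subst hν0
    rw [Multiset.sum_zero, if_pos rfl, vM_zero, ip_base anti_base]
    have := base_perm (N := N) 1
    simp only [Equiv.Perm.coe_one, id_eq, map_one, Units.val_one, Int.cast_one] at this
    rw [this]
    simp [zConst]
  | cons k s ih =>
    intro ν hμ hν hs hN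
    have hk : 1 ≤ k := hμ k (Multiset.mem_cons_self _ _)
    rw [Multiset.sum_cons] at hs hN ⊢
    rw [vM_cons, add_comm k, ip_C, d_vM hk ν (by omega)]
    simp only [ip, Pi.smul_apply, smul_eq_mul, mul_left_comm (vM N s _), ← Finset.mul_sum]
    by_cases hmem : k ∈ ν
    · have hs' : s.sum = (ν.erase k).sum := by
        have := congrArg Multiset.sum (Multiset.cons_erase hmem)
        rw [Multiset.sum_cons] at this
        omega
      have h1 := ih (ν.erase k) (fun a ha => hμ a (Multiset.mem_cons_of_mem ha))
        (fun a ha => hν a (Multiset.mem_of_mem_erase ha)) hs' (by omega)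
      rw [ip] at h1
      rw [h1]
      by_cases he : s = ν.erase k
      · rw [if_pos he, if_pos (by rw [he, Multiset.cons_erase hmem]), zConst_cons, he,
          ← Multiset.count_cons_self, Multiset.cons_erase hmem]
        push_cast
        ring
      · rw [if_neg he, if_neg fun h => he (by rw [← h, Multiset.erase_cons_head]), Nat.cast_zero,
          mul_zero]
    · rw [Multiset.count_eq_zero_of_notMem hmem,
        if_neg fun h => hmem (by rw [← h]; exact Multiset.mem_cons_self _ _)]
      simp

end Cfsg.Agent.SymBlocks
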