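import Cfsg.Agent.Lib.SymBlocks.Defect
import Cfsg.Agent.Lib.Char.Linear
import Cfsg.Agent.Lib.Char.Induced

/-!
# Sylow subgroups of wreath products on disjoint cycles

`WR p w = (ℤ/p)^w ⋊ S_w`, `wreathHom` into the symmetric group, and a character of degree `p` on
its Sylow subgroups and on their even parts.
-/

set_option autoImplicit false

open Finset

namespace Cfsg.Agent.SymBlocks

open Cfsg

variable {n m w p : ℕ}

/-- The permutation action on tuples. -/
def tupleAut (p w : ℕ) : Equiv.Perm (Fin w) →* MulAut (Multiplicative (Fin w → ZMod p)) where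
  toFun σ :=
    { toFun := fun f => Multiplicative.ofAdd fun i => Multiplicative.toAdd f (σ⁻¹ i)
      invFun := fun f => Multiplicative.ofAdd fun i => Multiplicative.toAdd f (σ i)
      left_inv := fun f => Multiplicative.toAdd.injective (funext fun i => by simp)
      right_inv := fun f => Multiplicative.toAdd.injective (funext fun i => by simp)
      map_mul' := fun f g => rfl }
  map_one' := rfl
  map_mul' σ τ := rfl

theorem tupleAut_apply (σ : Equiv.Perm (Fin w)) (f : Multiplicative (Fin w → ZMod p)) (i : Fin w) :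
    Multiplicative.toAdd (tupleAut p w σ f) i = Multiplicative.toAdd f (σ⁻¹ i) := rfl

/-- The wreath product. -/
abbrev WR (p w : ℕ) : Type :=
  Multiplicative (Fin w → ZMod p) ⋊[tupleAut p w] Equiv.Perm (Fin w)

/-- Permutations of the cycles. -/
noncomputable def blockHom (e : (Fin w × ZMod p) ⊕ Fin m ≃ Fin n) :
    Equiv.Perm (Fin w) →* Equiv.Perm (Fin n) where
  toFun σ := e.permCongr (Equiv.sumCongr (Equiv.prodCongr σ (Equiv.refl _)) (Equiv.refl _))
  map_one' := by
    ext a
    obtain ⟨b, rfl⟩ := e.surjective a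
    rcases b with ⟨i, x⟩ | b <;> simp [Equiv.permCongr_apply]
  map_mul' σ τ := by
    ext a
    obtain ⟨b, rfl⟩ := e.surjective a
    rcases b with ⟨i, x⟩ | b <;> simp [Equiv.permCongr_apply]

theorem blockHom_inl (e : (Fin w × ZMod p) ⊕ Fin m ≃ Fin n) (σ : Equiv.Perm (Fin w))
    (i : Fin w) (x : ZMod p) :
    blockHom e σ (e (Sum.inl (i, x))) = e (Sum.inl (σ i, x)) := by
  simp [blockHom, Equiv.permCongr_apply]

theorem blockHom_inr (e : (Fin w × ZMod p) ⊕ Fin m ≃ Fin n) (σ : Equiv.Perm (Fin w)) (b : Fin m) :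
    blockHom e σ (e (Sum.inr b)) = e (Sum.inr b) := by
  simp [blockHom, Equiv.permCongr_apply]

/-- The wreath product inside the symmetric group. -/
noncomputable def wreathHom (e : (Fin w × ZMod p) ⊕ Fin m ≃ Fin n) :
    WR p w →* Equiv.Perm (Fin n) :=
  SemidirectProduct.lift (cyclesHom e) (blockHom e) fun σ => by
    refine MonoidHom.ext fun f => Equiv.ext fun a => ?_
    obtain ⟨b, rfl⟩ := e.surjective a
    simp only [MonoidHom.comp_apply, MulEquiv.coe_toMonoidHom, MulAut.conj_apply,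
      Equiv.Perm.mul_apply, ← map_inv]
    rcases b with ⟨i, x⟩ | b
    · rw [cyclesHom_inl, blockHom_inl, cyclesHom_inl, blockHom_inl, tupleAut_apply]
      simp
    · rw [cyclesHom_inr, blockHom_inr, cyclesHom_inr, blockHom_inr]

theorem wreathHom_inl (e : (Fin w × ZMod p) ⊕ Fin m ≃ Fin n) (g : WR p w) (i : Fin w) (x : ZMod p) :
    wreathHom e g (e (Sum.inl (i, x)))
      = e (Sum.inl (g.right i, x + Multiplicative.toAdd g.left (g.right i))) := by
  rw [wreathHom, SemidirectProduct.lift]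
  show (cyclesHom e g.left * blockHom e g.right) _ = _
  rw [Equiv.Perm.mul_apply, blockHom_inl, cyclesHom_inl]

theorem wreathHom_inr (e : (Fin w × ZMod p) ⊕ Fin m ≃ Fin n) (g : WR p w) (b : Fin m) :
    wreathHom e g (e (Sum.inr b)) = e (Sum.inr b) := by
  rw [wreathHom, SemidirectProduct.lift]
  show (cyclesHom e g.left * blockHom e g.right) _ = _
  rw [Equiv.Perm.mul_apply, blockHom_inr, cyclesHom_inr]

theorem wreathHom_injective (hp : 0 < p) (e : (Fin w × ZMod p) ⊕ Fin m ≃ Fin n) :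
    Function.Injective (wreathHom e) := by
  have : NeZero p := ⟨hp.ne'⟩
  refine (injective_iff_map_eq_one _).mpr fun g hg => ?_
  have h : ∀ i, g.right i = i ∧ Multiplicative.toAdd g.left (g.right i) = 0 := by
    intro i
    have h1 := wreathHom_inl e g i 0
    rw [hg, Equiv.Perm.one_apply] at h1
    have h2 := Sum.inl_injective (e.injective h1)
    rw [Prod.mk.injEq] at h2
    exact ⟨h2.1.symm, by simpa using h2.2.symm⟩
  refine SemidirectProduct.ext (Multiplicative.toAdd.injective (funext fun i => ?_))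
    (Equiv.ext fun i => (h i).1)
  have := (h i).2
  rwa [(h i).1] at this

theorem sign_blockHom [NeZero p] (e : (Fin w × ZMod p) ⊕ Fin m ≃ Fin n) (σ : Equiv.Perm (Fin w)) :
    Equiv.Perm.sign (blockHom e σ) = Equiv.Perm.sign σ ^ p := by
  classical
  show Equiv.Perm.sign (e.permCongr _) = _
  rw [Equiv.Perm.sign_permCongr, show Equiv.sumCongr (Equiv.prodCongr σ (Equiv.refl (ZMod p)))
    (Equiv.refl (Fin m)) = Equiv.Perm.sumCongr (Equiv.prodCongr σ (Equiv.refl (ZMod p))) 1 from rfl,
    Equiv.Perm.sign_sumCongr, map_one, mul_one,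
    show Equiv.prodCongr σ (Equiv.refl (ZMod p)) = Equiv.prodCongrLeft fun _ => σ from
      Equiv.ext fun a => rfl,
    Equiv.Perm.sign_prodCongrLeft, Finset.prod_const, Finset.card_univ, ZMod.card]

/-- A non-invariant linear character of a maximal subgroup gives a character of degree `p`. -/
theorem exists_irr_degree_of_hom {P : Type*} [Group P] [Finite P] [Fact p.Prime]
    (hP : IsPGroup p P) (M : Subgroup P) [M.Normal] (hM : M.index = p) (f : M →* ℂ)
    {g : P} {x y : M} (hxy : g * (x : P) * g⁻¹ = y) (hne : f y ≠ f x) :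
    ∃ φ : IrrCharacter P, charDegree (φ : P → ℂ) = p := by
  classical
  have hp : p.Prime := Fact.out
  have := Fintype.ofFinite P
  have := Fintype.ofFinite M
  have := Fintype.ofFinite (IrrCharacter P)
  have hθ := Char.isIrrCharacter_of_hom f
  have hI := Char.IsCharacter.indFun M (Char.IsIrrCharacter.isCharacter hθ)
  choose a ha using fun φ : IrrCharacter P =>
    Char.IsCharacter.classInner_nat hI (Char.IsIrrCharacter.isCharacter φ.2)
  have hexp : indFun M (f : M → ℂ) = ∑ φ, (a φ : ℂ) • (φ : P → ℂ) := by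
    conv_lhs => rw [Char.classFunction_eq_sum (Char.IsCharacter.isClassFunction hI)]
    simp only [ha]
  have hdeg : p = ∑ φ : IrrCharacter P, a φ * charDegree (φ : P → ℂ) := by
    have h := congrFun hexp 1
    rw [Char.indFun_one_apply, hM, map_one, mul_one, Finset.sum_apply] at h
    simp only [Pi.smul_apply, smul_eq_mul, ← Blocks.charDegree_cast] at h
    exact_mod_cast h
  obtain ⟨φ, -, hφ⟩ := Finset.exists_ne_zero_of_sum_ne_zero (hdeg.symm.trans_ne hp.ne_zero)
  have ha0 : a φ ≠ 0 := fun h => hφ (by rw [h, zero_mul])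
  refine ⟨φ, ?_⟩
  have hle : charDegree (φ : P → ℂ) ≤ p := by
    refine le_trans (Nat.le_mul_of_pos_left _ (Nat.pos_of_ne_zero ha0)) ?_
    conv_rhs => rw [hdeg]
    exact Finset.single_le_sum (f := fun φ : IrrCharacter P => a φ * charDegree (φ : P → ℂ))
      (fun _ _ => Nat.zero_le _) (Finset.mem_univ φ)
  obtain ⟨k, hk⟩ := hP.exists_card_eq
  obtain ⟨j, -, hj⟩ := (Nat.dvd_prime_pow hp).mp (hk ▸ Blocks.charDegree_dvd_card φ)
  rcases Nat.lt_or_ge j 2 with hj2 | hj2
  swap
  · exfalso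
    rw [hj] at hle
    have : p ^ 1 < p ^ j := Nat.pow_lt_pow_right hp.one_lt hj2
    rw [pow_one] at this
    omega
  interval_cases j
  · exfalso
    have h1 : (φ : P → ℂ) 1 = 1 := by rw [← Blocks.charDegree_cast, hj, pow_zero, Nat.cast_one]
    obtain ⟨lin, hlin⟩ := Char.exists_hom_of_degree_one (Char.IsIrrCharacter.isCharacter φ.2) h1
    have hfr := Char.frobenius_reciprocity (H := M) (f : M → ℂ)
      (Char.IsCharacter.isClassFunction (Char.IsIrrCharacter.isCharacter φ.2))
    rw [ha] at hfr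
    have hres : Cfsg.IsIrrCharacter M (fun c : M => (φ : P → ℂ) c) := by
      have := Char.isIrrCharacter_of_hom (lin.comp M.subtype)
      convert this using 1
      funext c
      exact (congrFun hlin c).symm
    have heq : ∀ c : M, f c = lin c := by
      intro c
      by_cases he : (f : M → ℂ) = fun c : M => (φ : P → ℂ) c
      · rw [congrFun he c, ← hlin]
      · exact absurd (hfr.trans (Char.classInner_irr_of_ne hθ hres he)) (Nat.cast_ne_zero.mpr ha0)
    apply hne
    rw [heq, heq, ← hxy, map_mul, map_mul, mul_comm (lin g), mul_assoc, ← map_mul, mul_inv_cancel,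
      map_one, mul_one]
  · rw [hj, pow_one]

/-- A character of degree `p` of a Sylow part of the wreath product. -/
theorem exists_irr_degree_wreath [hp : Fact p.Prime] {Q : Subgroup (Equiv.Perm (Fin w))}
    (hQ : IsPGroup p Q) (A' : Subgroup (WR p w))
    (hQA : ∀ q ∈ Q, SemidirectProduct.inr q ∈ A') {i : Fin w} (hi : ∃ q ∈ Q, q i ≠ i)
    {v : Fin w → ZMod p} (hvA : SemidirectProduct.inl (Multiplicative.ofAdd v) ∈ A') (hvi : v i = 1)
    (hv : ∀ k, k ≠ i → (∃ q ∈ Q, q i = k) → v k = 0) :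
    ∃ φ : IrrCharacter ↥(Q.comap SemidirectProduct.rightHom ⊓ A' : Subgroup (WR p w)),
      charDegree (φ : ↥(Q.comap SemidirectProduct.rightHom ⊓ A' : Subgroup (WR p w)) → ℂ) = p := by
  classical
  have : NeZero p := ⟨hp.out.ne_zero⟩
  have : Finite (WR p w) := Finite.of_equiv _ SemidirectProduct.equivProd.symm
  obtain ⟨q₀, hq₀, hq₀i⟩ := hi
  let S : Subgroup Q := (MulAction.stabilizer (Equiv.Perm (Fin w)) i).subgroupOf Q
  have hS : S ≠ ⊤ := fun h => hq₀i (by
    have : (⟨q₀, hq₀⟩ : Q) ∈ S := h ▸ Subgroup.mem_top _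
    exact this)
  obtain ⟨Q₁, hQ₁, hSQ⟩ := (IsCoatomic.eq_top_or_exists_le_coatom S).resolve_left hS
  have := hQ.isNilpotent
  have hQ₁n : Q₁.Normal := Subgroup.NormalizerCondition.normal_of_coatom Q₁ Group.normalizerCondition_of_isNilpotent hQ₁
  obtain ⟨k₁, hk₁⟩ := hQ.exists_card_eq
  have hidx : Q₁.index = p := by
    obtain ⟨j, -, hj⟩ := (Nat.dvd_prime_pow hp.out).mp (hk₁ ▸ Q₁.index_dvd_card)
    rcases Nat.lt_or_ge j 1 with h | h
    · exact absurd (Subgroup.index_eq_one.mp (by rw [hj, show j = 0 by omega, pow_zero])) hQ₁.1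
    by_contra hne
    obtain ⟨K, hKcard⟩ : ∃ K : Subgroup (Q ⧸ Q₁), Nat.card K = p := by
      obtain ⟨x, hx⟩ := exists_prime_orderOf_dvd_card' p
        (show p ∣ Nat.card (Q ⧸ Q₁) by rw [← Subgroup.index_eq_card, hj]; exact dvd_pow_self p (by omega))
      exact ⟨Subgroup.zpowers x, by rw [Nat.card_zpowers, hx]⟩
    have h1 : Q₁ < K.comap (QuotientGroup.mk' Q₁) := by
      refine lt_of_le_of_ne (fun x hx => ?_) fun he => ?_
      · rw [Subgroup.mem_comap, QuotientGroup.mk'_apply, (QuotientGroup.eq_one_iff x).mpr hx]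
        exact K.one_mem
      · have := congrArg (Subgroup.map (QuotientGroup.mk' Q₁)) he
        rw [Subgroup.map_comap_eq_self_of_surjective (QuotientGroup.mk'_surjective Q₁),
          (Subgroup.map_eq_bot_iff Q₁).mpr (QuotientGroup.ker_mk' Q₁).ge] at this
        rw [← this, Subgroup.card_bot] at hKcard
        exact hp.out.one_lt.ne hKcard
    have h2 := hQ₁.2 _ h1
    have h3 : K = ⊤ := by
      rw [← Subgroup.map_comap_eq_self_of_surjective (QuotientGroup.mk'_surjective Q₁) K, h2,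
        Subgroup.map_top_of_surjective _ (QuotientGroup.mk'_surjective Q₁)]
    rw [h3, Subgroup.card_top, ← Subgroup.index_eq_card] at hKcard
    exact hne hKcard
  let O₁ : Finset (Fin w) := Finset.univ.filter fun k => ∃ q ∈ Q₁, (q : Equiv.Perm (Fin w)) i = k
  have hOmem : ∀ {k}, k ∈ O₁ ↔ ∃ q ∈ Q₁, (q : Equiv.Perm (Fin w)) i = k := by simp [O₁]
  have hOinv : ∀ q ∈ Q₁, ∀ k, (q : Equiv.Perm (Fin w)) k ∈ O₁ ↔ k ∈ O₁ := by
    intro q hq k
    rw [hOmem, hOmem]
    constructor
    · rintro ⟨r, hr, hrk⟩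
      exact ⟨q⁻¹ * r, Q₁.mul_mem (Q₁.inv_mem hq) hr, by simp [hrk]⟩
    · rintro ⟨r, hr, rfl⟩
      exact ⟨q * r, Q₁.mul_mem hq hr, by simp⟩
  obtain ⟨q, hqnot⟩ : ∃ q : Q, q ∉ Q₁ := by
    by_contra h
    push Not at h
    exact hQ₁.1 (eq_top_iff.mpr fun x _ => h x)
  have hqi : (q : Equiv.Perm (Fin w)) i ∉ O₁ := by
    intro h
    obtain ⟨r, hr, hri⟩ := hOmem.mp h
    refine hqnot ?_
    have h1 : r⁻¹ * q ∈ Q₁ := hSQ (show (r⁻¹ * q) ∈ S from by
      show (((r⁻¹ * q : Q)) : Equiv.Perm (Fin w)) • i = i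
      simp [← hri])
    have h2 := Q₁.mul_mem hr h1
    rwa [mul_inv_cancel_left] at h2
  let P : Subgroup (WR p w) := Q.comap SemidirectProduct.rightHom ⊓ A'
  let π : P →* Q := (SemidirectProduct.rightHom.comp P.subtype).codRestrict Q fun g => g.2.1
  have hπ : Function.Surjective π := fun r =>
    ⟨⟨SemidirectProduct.inr r, r.2, hQA r r.2⟩, Subtype.ext rfl⟩
  have hPp : IsPGroup p P := by
    refine IsPGroup.to_inf_left ?_
    exact hQ.comap_of_ker_isPGroup _ (by
      intro g
      refine ⟨1, Subtype.ext ?_⟩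
      have hg : (g : WR p w) = SemidirectProduct.inl (g : WR p w).left := by
        conv_lhs => rw [← SemidirectProduct.inl_left_mul_inr_right (g : WR p w)]
        rw [show (g : WR p w).right = 1 from g.2, map_one, mul_one]
      rw [Subgroup.coe_pow, hg, ← map_pow, pow_one, OneMemClass.coe_one,
        show (g : WR p w).left ^ p = 1 from Multiplicative.toAdd.injective (funext fun a => by
          simp), map_one])
  let M : Subgroup P := Q₁.comap π
  have : M.Normal := hQ₁n.comap π
  have hMi : M.index = p := by rw [Subgroup.index_comap_of_surjective _ hπ, hidx]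
  let ω : AddChar (ZMod p) ℂ := ZMod.stdAddChar
  let lsum : M → ZMod p := fun g => ∑ k ∈ O₁, Multiplicative.toAdd ((g : P) : WR p w).left k
  have hmul : ∀ a b : M, lsum (a * b) = lsum a + lsum b := by
    intro a b
    simp only [lsum, Subgroup.coe_mul, SemidirectProduct.mul_left, toAdd_mul, Pi.add_apply,
      tupleAut_apply, Finset.sum_add_distrib]
    congr 1
    refine Finset.sum_equiv (((a : P) : WR p w).right)⁻¹ (fun k => ?_) fun _ _ => rfl
    exact ((hOinv _ (Q₁.inv_mem a.2) k)).symm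
  let f : M →* ℂ :=
    { toFun := fun g => ω (lsum g)
      map_one' := by simp [lsum]
      map_mul' := fun a b => by rw [hmul, AddChar.map_add_eq_mul] }
  let g₀ : P := ⟨SemidirectProduct.inr (q : Equiv.Perm (Fin w)), q.2, hQA q q.2⟩
  let x₀ : P := ⟨SemidirectProduct.inl (Multiplicative.ofAdd v), by simp, hvA⟩
  have hx₀ : x₀ ∈ M := by
    show π x₀ ∈ Q₁
    rw [show π x₀ = 1 from Subtype.ext rfl]
    exact Q₁.one_mem
  have hy₀ : g₀ * x₀ * g₀⁻¹ ∈ M := ‹M.Normal›.conj_mem _ hx₀ g₀
  refine exists_irr_degree_of_hom hPp M hMi f (g := g₀) (x := ⟨x₀, hx₀⟩) (y := ⟨_, hy₀⟩) rfl ?_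
  show ω _ ≠ ω _
  refine (ZMod.injective_stdAddChar).ne ?_
  simp only [lsum]
  have hleft : ((g₀ * x₀ * g₀⁻¹ : P) : WR p w).left
      = tupleAut p w (q : Equiv.Perm (Fin w)) (Multiplicative.ofAdd v) := by
    simp [g₀, x₀]
  simp only [hleft, tupleAut_apply, toAdd_ofAdd]
  have hR : ∑ k ∈ O₁, Multiplicative.toAdd (x₀ : WR p w).left k = 1 := by
    simp only [x₀, SemidirectProduct.left_inl, toAdd_ofAdd]
    have hiO : i ∈ O₁ := hOmem.mpr ⟨1, Q₁.one_mem, rfl⟩
    rw [Finset.sum_eq_single_of_mem i hiO fun k hk hki => ?_, hvi]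
    obtain ⟨r, -, hr⟩ := hOmem.mp hk
    exact hv k hki ⟨r, r.2, hr⟩
  have hL : ∑ k ∈ O₁, v ((q : Equiv.Perm (Fin w))⁻¹ k) = 0 := by
    refine Finset.sum_eq_zero fun k hk => hv _ (fun h => hqi ?_) ?_
    · rw [← h]
      simpa using hk
    · obtain ⟨r, -, hr⟩ := hOmem.mp hk
      exact ⟨(q⁻¹ * r : Q), (q⁻¹ * r : Q).2, by simp [hr]⟩
  rw [hR, hL]
  exact zero_ne_one

theorem card_WR_comap [NeZero p] (Q : Subgroup (Equiv.Perm (Fin w))) :
    Nat.card (Q.comap (SemidirectProduct.rightHom : WR p w →* Equiv.Perm (Fin w)))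
      = p ^ w * Nat.card Q := by
  have hi : (Q.comap (SemidirectProduct.rightHom : WR p w →* Equiv.Perm (Fin w))).index = Q.index :=
    Subgroup.index_comap_of_surjective _ SemidirectProduct.rightHom_surjective
  have h1 := (Q.comap (SemidirectProduct.rightHom : WR p w →* Equiv.Perm (Fin w))).card_mul_index
  rw [hi, SemidirectProduct.card, show Nat.card (Multiplicative (Fin w → ZMod p)) = p ^ w by
    simp [Nat.card_eq_fintype_card], ← Q.card_mul_index, ← mul_assoc] at h1
  exact Nat.eq_of_mul_eq_mul_right (Nat.pos_of_ne_zero Subgroup.index_ne_zero_of_finite) h1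

end Cfsg.Agent.SymBlocks
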