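import Cfsg.Agent.Lib.SymBlocks.Char
import Cfsg.Agent.Lib.Blocks.Induced

/-!
# Blocks of symmetric groups separate cores; the bound on the `p`-regular rank

`cnt_eq_of_mem_block`: members of a block have the same core (one half of Nakayama's conjecture).
`blockRank_le_card_exactSets`.
-/

set_option autoImplicit false

open Finset
open scoped ComplexConjugate

namespace Cfsg.Agent.SymBlocks

open Cfsg

variable {N n p : ℕ}

theorem cnt_comp (α : Fin N → ℕ) (π : Equiv.Perm (Fin N)) : cnt p (α ∘ π) = cnt p α := by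
  funext r
  exact Finset.card_equiv π fun i => by simp

theorem dvd_orderOf_iff (hp : p.Prime) (σ : Equiv.Perm (Fin n)) :
    p ∣ orderOf σ ↔ ∃ a ∈ σ.partition.parts, p ∣ a := by
  rw [Equiv.Perm.parts_partition, ← Equiv.Perm.lcm_cycleType]
  constructor
  · intro h
    suffices key : ∀ m : Multiset ℕ, p ∣ m.lcm → ∃ a ∈ m, p ∣ a by
      obtain ⟨a, ha, hd⟩ := key _ h
      exact ⟨a, Multiset.mem_add.mpr (Or.inl ha), hd⟩
    intro m
    induction m using Multiset.induction_on with
    | empty =>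
      intro h
      simp only [Multiset.lcm_zero] at h
      exact absurd h hp.not_dvd_one
    | cons a s ih =>
      intro h
      rw [Multiset.lcm_cons] at h
      rcases hp.dvd_mul.mp (h.trans (lcm_dvd_iff.mpr ⟨dvd_mul_right _ _, dvd_mul_left _ _⟩)) with
        h' | h'
      · exact ⟨a, Multiset.mem_cons_self _ _, h'⟩
      · obtain ⟨b, hb, hd⟩ := ih h'
        exact ⟨b, Multiset.mem_cons_of_mem hb, hd⟩
  · rintro ⟨a, ha, hd⟩
    rcases Multiset.mem_add.mp ha with ha | ha
    · exact hd.trans (Multiset.dvd_lcm ha)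
    · rw [Multiset.eq_of_mem_replicate ha] at hd
      exact absurd hd hp.not_dvd_one

theorem chi_eq_coef_smul (hn : n ≤ N) {β : Fin N → ℕ} (hβ : β ∈ lev N n)
    {ψ : IrrCharacter (Equiv.Perm (Fin n))} (h : coef N β ψ ≠ 0) :
    (chi N β : Equiv.Perm (Fin n) → ℂ) = coef N β ψ • (ψ : Equiv.Perm (Fin n) → ℂ) := by
  obtain ⟨α, -, -, -, hchi, huniq⟩ := exists_label hn ψ
  obtain ⟨π, rfl⟩ := huniq β hβ h
  rw [chi_comp, coef_comp, hchi, smul_smul]

theorem cnt_unique (hn : n ≤ N) {α β : Fin N → ℕ} (hα : α ∈ lev N n) (hβ : β ∈ lev N n)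
    {ψ : IrrCharacter (Equiv.Perm (Fin n))} (ha : coef N α ψ ≠ 0) (hb : coef N β ψ ≠ 0) :
    cnt p α = cnt p β := by
  obtain ⟨γ, -, -, -, -, huniq⟩ := exists_label hn ψ
  obtain ⟨π, rfl⟩ := huniq α hα ha
  obtain ⟨π', rfl⟩ := huniq β hβ hb
  rw [cnt_comp, cnt_comp]

theorem conj_irr (hn : n ≤ N) (ψ : IrrCharacter (Equiv.Perm (Fin n))) (g : Equiv.Perm (Fin n)) :
    conj ((ψ : Equiv.Perm (Fin n) → ℂ) g) = (ψ : Equiv.Perm (Fin n) → ℂ) g := by
  obtain ⟨α, -, -, hε, hchi, -⟩ := exists_label hn ψ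
  have h := congrArg conj (congrFun hchi g)
  rw [conj_chi, congrFun hchi g] at h
  rcases hε with hε | hε <;> simp [hε] at h <;> exact h.symm

/-- The characters with core `c`. -/
def coreSet (N p : ℕ) (c : ℕ → ℕ) : Set (IrrCharacter (Equiv.Perm (Fin n))) :=
  {ψ | ∃ α ∈ lev N n, coef N α ψ ≠ 0 ∧ cnt p α = c}

/-- Restriction of a function to a core. -/
noncomputable def proj (p : ℕ) (c : ℕ → ℕ) (f : Fn N) : Fn N := fun α =>
  open scoped Classical in if cnt p α = c then f α else 0

theorem anti_proj {f : Fn N} (hf : Anti f) (c : ℕ → ℕ) : Anti (proj p c f) := by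
  classical
  intro α π
  simp only [proj, cnt_comp]
  split_ifs
  · exact hf α π
  · rw [mul_zero]

theorem cnt_update_add (α : Fin N → ℕ) (j : Fin N) (k : ℕ) :
    cnt p (Function.update α j (α j + p * k)) = cnt p α := by
  funext r
  refine congrArg Finset.card (Finset.filter_congr fun i _ => ?_)
  by_cases hi : i = j
  · subst hi
    rw [Function.update_self, Nat.add_mul_mod_self_left]
  · rw [Function.update_of_ne hi]

theorem d_proj (c : ℕ → ℕ) (k : ℕ) (f : Fn N) :
    d (p * k) (proj p c f) = proj p c (d (p * k) f) := by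
  classical
  funext α
  simp only [d, proj, cnt_update_add]
  split_ifs <;> simp

theorem d_vM_parts_eq_zero (hp : p.Prime) (hn : n ≤ N) {σ : Equiv.Perm (Fin n)}
    (hσ : ¬ p ∣ orderOf σ) {k : ℕ} (hk : 1 ≤ k) :
    d (p * k) (vM N σ.partition.parts) = 0 := by
  rw [d_vM (Nat.mul_pos hp.pos hk) _ (by rw [parts_sum]; exact hn),
    Multiset.count_eq_zero_of_notMem fun h => hσ ((dvd_orderOf_iff hp σ).mpr ⟨_, h, dvd_mul_right p k⟩)]
  simp

open scoped Classical in
theorem sum_core_eq_zero (hp : p.Prime) (hn : n ≤ N) (c : ℕ → ℕ) {x y : Equiv.Perm (Fin n)}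
    (hx : ¬ p ∣ orderOf x) (hy : p ∣ orderOf y) :
    ∑ α ∈ (lev N n).filter (fun α => cnt p α = c), chi N α x * chi N α y = 0 := by
  obtain ⟨a, ha, k, rfl⟩ := (dvd_orderOf_iff hp y).mp hy
  have hk : 1 ≤ k := Nat.pos_of_ne_zero fun h => by
    have := parts_pos y ha
    rw [h, Nat.mul_zero] at this
    exact lt_irrefl 0 this
  have hle : p * k ≤ n := by
    have := Multiset.le_sum_of_mem ha
    rwa [parts_sum] at this
  have h1 : ∑ α ∈ (lev N n).filter (fun α => cnt p α = c), chi N α x * chi N α y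
      = ip n (C (p * k) (vM N (y.partition.parts.erase (p * k)))) (proj p c (vM N x.partition.parts)) := by
    rw [← vM_cons, Multiset.cons_erase ha, ip, Finset.sum_filter]
    refine Finset.sum_congr rfl fun α _ => ?_
    simp only [chi, proj]
    split_ifs <;> ring
  rw [h1]
  refine (congrArg (fun m => ip m (C (p * k) (vM N (y.partition.parts.erase (p * k))))
    (proj p c (vM N x.partition.parts))) (Nat.sub_add_cancel hle).symm).trans ?_
  rw [ip_C, d_proj, d_vM_parts_eq_zero hp hn hx hk]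
  simp [ip, proj]

theorem blockInd_coreSet_intRing {M : Ideal AlgInt} (hM : IsPModular p M) (hn : n ≤ N)
    (c : ℕ → ℕ) :
    Blocks.blockInd (coreSet (n := n) N p c) ∈ Blocks.intRing hM := by
  classical
  refine Blocks.intRing_of_weak_orth hM fun x y hx hy => ?_
  have := Fintype.ofFinite (IrrCharacter (Equiv.Perm (Fin n)))
  have hkey : ∑ α ∈ (lev N n).filter (fun α => cnt p α = c), chi N α x * chi N α y
      = (N.factorial : ℂ) * ∑ᶠ ψ ∈ coreSet (n := n) N p c,
        (ψ : Equiv.Perm (Fin n) → ℂ) x * conj ((ψ : Equiv.Perm (Fin n) → ℂ) y) := by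
    rw [finsum_mem_def, finsum_eq_sum_of_fintype, Finset.mul_sum]
    have hexp : ∀ α, chi N α x = ∑ ψ : IrrCharacter (Equiv.Perm (Fin n)),
        coef N α ψ * (ψ : Equiv.Perm (Fin n) → ℂ) x := fun α => by
      have h := congrFun (Char.classFunction_eq_sum (isClassFunction_chi (n := n) α)) x
      simp only [Finset.sum_apply, Pi.smul_apply, smul_eq_mul] at h
      exact h
    simp only [hexp, Finset.sum_mul]
    rw [Finset.sum_comm]
    refine Finset.sum_congr rfl fun ψ _ => ?_
    have hterm : ∀ α ∈ lev N n, coef N α ψ * (ψ : Equiv.Perm (Fin n) → ℂ) x * chi N α y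
        = coef N α ψ * coef N α ψ
          * ((ψ : Equiv.Perm (Fin n) → ℂ) x * conj ((ψ : Equiv.Perm (Fin n) → ℂ) y)) := by
      intro α hα
      by_cases h0 : coef N α ψ = 0
      · simp [h0]
      · rw [congrFun (chi_eq_coef_smul hn hα h0) y, Pi.smul_apply, smul_eq_mul, conj_irr hn]
        ring
    by_cases hψ : ψ ∈ coreSet (n := n) N p c
    · rw [Set.indicator_of_mem hψ]
      obtain ⟨α₀, hα₀, hne, hc⟩ := hψ
      rw [Finset.sum_filter_of_ne (fun α hα h => ?_)]
      · rw [Finset.sum_congr rfl hterm, ← Finset.sum_mul, sum_coef_mul hn, if_pos rfl]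
      · have h0 : coef N α ψ ≠ 0 := fun e => h (by rw [e, zero_mul, zero_mul])
        exact (cnt_unique hn hα hα₀ h0 hne).trans hc
    · rw [Set.indicator_of_notMem hψ, mul_zero]
      refine Finset.sum_eq_zero fun α hα => ?_
      rw [Finset.mem_filter] at hα
      by_cases h0 : coef N α ψ = 0
      · simp [h0]
      · exact absurd ⟨α, hα.1, h0, hα.2⟩ hψ
  rw [sum_core_eq_zero hM.1 hn c hx hy] at hkey
  exact (mul_eq_zero.mp hkey.symm).resolve_left (Nat.cast_ne_zero.mpr (Nat.factorial_ne_zero N))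

/-- Members of one block have the same core. -/
theorem cnt_eq_of_mem_block {M : Ideal AlgInt} (hM : IsPModular p M) (hn : n ≤ N)
    {B : Set (IrrCharacter (Equiv.Perm (Fin n)))} (hB : IsPBlock M B)
    {ψ φ : IrrCharacter (Equiv.Perm (Fin n))} (hψ : ψ ∈ B) (hφ : φ ∈ B)
    {α : Fin N → ℕ} (hα : α ∈ lev N n) (h : coef N α ψ ≠ 0) :
    φ ∈ coreSet (n := n) N p (cnt p α) :=
  Blocks.mem_of_sameBlock hM (blockInd_coreSet_intRing hM hn _) ⟨α, hα, h, rfl⟩
    (Blocks.sameBlock_of_mem hM hB hψ hφ)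

open scoped Classical in
/-- The tuple of a bead set. -/
noncomputable def tupleOf (N : ℕ) (S : Finset ℕ) : Fin N → ℕ :=
  if h : S.card = N then S.orderEmbOfFin h else 0

/-- The ground bead sets span the regular parts of all `chi` of one core and level. -/
theorem pRegularPart_chi_mem (hp : p.Prime) (hn : n ≤ N) {α₀ : Fin N → ℕ} {w : ℕ}
    (hs : ∑ i, α₀ i = stair N + n) (hw : ∑ i, α₀ i = (∑ i, core0 p α₀ i) + p * w)
    {β : Fin N → ℕ} (hcβ : cnt p β = cnt p α₀) :
    pRegularPart p (chi N β : Equiv.Perm (Fin n) → ℂ) ∈ Submodule.span ℂ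
      ((fun S => pRegularPart p (chi N (tupleOf N S) : Equiv.Perm (Fin n) → ℂ)) ''
        (exactSets p α₀ w : Set (Finset ℕ))) := by
  classical
  rw [← Subspace.forall_mem_dualAnnihilator_apply_eq_zero_iff]
  intro φ hφ
  let f : Fn N := fun γ =>
    if cnt p γ = cnt p α₀ then φ (pRegularPart p (chi N γ : Equiv.Perm (Fin n) → ℂ)) else 0
  have hsmul : ∀ (a : ℂ) (g : Equiv.Perm (Fin n) → ℂ),
      pRegularPart p (a • g) = a • pRegularPart p g := by
    intro a g
    funext σ
    simp only [pRegularPart, Pi.smul_apply]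
    split_ifs <;> simp
  have hanti : Anti f := by
    intro γ π
    simp only [f, cnt_comp, chi_comp]
    split_ifs
    · rw [hsmul, map_smul, smul_eq_mul]
    · rw [mul_zero]
  have hd : ∀ k, 1 ≤ k → d (p * k) f = 0 := by
    intro k hk
    funext γ
    simp only [d, f, cnt_update_add]
    by_cases hc : cnt p γ = cnt p α₀
    · simp only [if_pos hc, ← map_sum]
      rw [show (∑ j, pRegularPart p (chi N (Function.update γ j (γ j + p * k)) :
          Equiv.Perm (Fin n) → ℂ)) = 0 from funext fun σ => ?_, map_zero]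
      · rfl
      simp only [Finset.sum_apply, Pi.zero_apply, pRegularPart, IsPRegular]
      by_cases hσ : p ∣ orderOf σ
      · simp [hσ]
      · simp only [hσ, not_false_iff, if_true]
        exact congrFun (d_vM_parts_eq_zero hp hn hσ hk) γ
    · simp [if_neg hc]
  have hf := kernel (f := f) hp.pos (fun γ => hanti.zero_of_not_injective) hd fun γ hγ hG => ?_
  · have := congrFun hf β
    simp only [f, if_pos hcβ, Pi.zero_apply] at this
    exact this
  · by_cases hlev : ∑ i, γ i = stair N + n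
    swap
    · have hz : (chi N γ : Equiv.Perm (Fin n) → ℂ) = 0 := funext fun σ => by
        by_contra h0
        exact hlev ((onLev_vM _ γ h0).trans (by rw [parts_sum]))
      simp only [f, hz]
      have : pRegularPart p (0 : Equiv.Perm (Fin n) → ℂ) = 0 := by
        simpa using hsmul 0 0
      simp [this]
    by_cases hc : cnt p γ = cnt p α₀
    swap
    · exact if_neg hc
    have hsum : ∑ x ∈ Finset.univ.image γ, x = stair N + n := by
      rw [Finset.sum_image hγ.injOn, hlev]
    have hS : Finset.univ.image γ ∈ exactSets p α₀ w := by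
      rw [mem_exactSets, cntS_image hγ]
      refine ⟨hc, ?_, by rw [hsum, ← hs, hw]⟩
      intro x hx hx0 hpx
      obtain ⟨i, -, rfl⟩ := Finset.mem_image.mp hx
      obtain ⟨m, hm⟩ := Nat.dvd_of_mod_eq_zero hx0
      obtain ⟨m', rfl⟩ := Nat.exists_eq_succ_of_ne_zero (fun h : m = 0 => by
        rw [h, Nat.mul_zero] at hm
        have := hp.pos
        omega)
      rw [Nat.mul_succ] at hm
      obtain ⟨j, hj⟩ := hG i m' (Nat.dvd_of_mod_eq_zero hx0) (by have := hp.pos; omega)
      exact Finset.mem_image.mpr ⟨j, Finset.mem_univ _, by omega⟩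
    have hcard : (Finset.univ.image γ).card = N := by
      rw [Finset.card_image_of_injective _ hγ, Finset.card_fin]
    set e := tupleOf N (Finset.univ.image γ) with he
    have hrange : ∀ i, ∃ j, e j = γ i := by
      intro i
      have h1 : γ i ∈ Finset.univ.image γ := Finset.mem_image_of_mem _ (Finset.mem_univ i)
      rw [← Finset.image_orderEmbOfFin_univ _ hcard, Finset.mem_image] at h1
      obtain ⟨j, -, hj⟩ := h1
      exact ⟨j, by rw [he, tupleOf, dif_pos hcard, hj]⟩
    choose π₀ hπ₀ using hrange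
    have hbij : Function.Bijective π₀ := Finite.injective_iff_bijective.mp fun a b h => hγ (by
      rw [← hπ₀ a, ← hπ₀ b, h])
    have hγe : γ = e ∘ Equiv.ofBijective π₀ hbij := funext fun i => (hπ₀ i).symm
    have hgen : φ (pRegularPart p (chi N e : Equiv.Perm (Fin n) → ℂ)) = 0 :=
      (Submodule.mem_dualAnnihilator φ).mp hφ _ (Submodule.subset_span
        (Set.mem_image_of_mem _ (Finset.mem_coe.mpr hS)))
    rw [hγe, hanti]
    simp only [f, hgen, ite_self, mul_zero]

/-- A block whose core is that of `α₀` has `p`-regular rank at most the number of ground bead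
sets. -/
theorem blockRank_le_card_exactSets (hp : p.Prime) (hn : n ≤ N) {α₀ : Fin N → ℕ} {w : ℕ}
    (hs : ∑ i, α₀ i = stair N + n) (hw : ∑ i, α₀ i = (∑ i, core0 p α₀ i) + p * w)
    {B : Set (IrrCharacter (Equiv.Perm (Fin n)))}
    (hB : B ⊆ coreSet (n := n) N p (cnt p α₀)) :
    blockRank p B ≤ (exactSets p α₀ w).card := by
  classical
  let gens : Finset (Equiv.Perm (Fin n) → ℂ) :=
    (exactSets p α₀ w).image fun S => pRegularPart p (chi N (tupleOf N S))
  let W : Submodule ℂ (Equiv.Perm (Fin n) → ℂ) := Submodule.span ℂ (gens : Set _)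
  have hmem : ∀ β : Fin N → ℕ, cnt p β = cnt p α₀ →
      pRegularPart p (chi N β : Equiv.Perm (Fin n) → ℂ) ∈ W := by
    intro β hcβ
    simpa only [W, gens, Finset.coe_image] using pRegularPart_chi_mem hp hn hs hw hcβ
  have hle : Submodule.span ℂ ((fun χ : IrrCharacter (Equiv.Perm (Fin n)) =>
      pRegularPart p (χ : Equiv.Perm (Fin n) → ℂ)) '' B) ≤ W := by
    rw [Submodule.span_le]
    rintro _ ⟨ψ, hψ, rfl⟩
    obtain ⟨β, hβ, hne, hc⟩ := hB hψ
    have hψeq : (ψ : Equiv.Perm (Fin n) → ℂ)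
        = (coef N β ψ)⁻¹ • (chi N β : Equiv.Perm (Fin n) → ℂ) := by
      rw [chi_eq_coef_smul hn hβ hne, inv_smul_smul₀ hne]
    show pRegularPart p (ψ : Equiv.Perm (Fin n) → ℂ) ∈ W
    have heq : pRegularPart p (ψ : Equiv.Perm (Fin n) → ℂ)
        = (coef N β ψ)⁻¹ • pRegularPart p (chi N β : Equiv.Perm (Fin n) → ℂ) := by
      funext σ
      simp only [pRegularPart, Pi.smul_apply, congrFun hψeq σ, smul_eq_mul]
      split_ifs <;> simp
    rw [heq]
    exact W.smul_mem _ (hmem β hc)
  refine le_trans (Submodule.finrank_mono hle) ((finrank_span_finset_le_card gens).trans ?_)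
  exact Finset.card_image_le

end Cfsg.Agent.SymBlocks
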